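import Cfsg.Agent.JT.RedL
import Cfsg.Agent.SE.Basic
import Cfsg.Agent.Blk.ZStar

/-! Simple groups with abelian Sylow 2-subgroups and an involution centralizer `⟨t⟩ × L`: fusion. -/

set_option autoImplicit false
set_option linter.unusedVariables false
set_option linter.unusedSectionVars false

namespace Cfsg.Agent.JT.Rd

open Cfsg Cfsg.Agent.BG Cfsg.Agent.Inv Subgroup

variable {G L : Type*} [Group G] [Group L]

/-- `C(t) = ⟨t⟩ × ι(L)` -/
structure CT (t : G) (ι : L →* G) : Prop where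
  ot : orderOf t = 2
  inj : Function.Injective ι
  nm : ∀ x, ι x ≠ t
  mem : ∀ g, g ∈ C1[t] ↔ ∃ x, g = ι x ∨ g = t * ι x

theorem exists_CT {t : G} (ht : orderOf t = 2) (hz : center L = ⊥)
    (e : C1[t] ≃* Multiplicative (ZMod 2) × L) : ∃ ι : L →* G, CT t ι := by
  let t' : C1[t] := ⟨t, mem_C1_self t⟩
  have c : ∀ g, g * e t' = e t' * g := fun g => by
    obtain ⟨a, rfl⟩ := e.surjective g
    rw [← map_mul, ← map_mul]; exact congrArg e (Subtype.ext (mem_C1.1 a.2))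
  have h2 : (e t').2 = 1 := by
    rw [← mem_bot, ← hz, mem_center_iff]; exact fun x => congrArg Prod.snd (c (1, x))
  have h1 : (e t').1 ≠ 1 := fun h => ne_one_of_ord2 ht
    (congrArg Subtype.val (e.injective ((Prod.ext h h2).trans (map_one e).symm)))
  have z2 : ∀ a b : Multiplicative (ZMod 2), a ≠ 1 → b = 1 ∨ b = a := by decide
  refine ⟨(C1[t]).subtype.comp (e.symm.toMonoidHom.comp (MonoidHom.inr _ _)), ht,
    (subtype_injective _).comp (e.symm.injective.comp fun a b h => congrArg Prod.snd h), fun x h => h1 ?_,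
    fun g => ⟨fun hg => ⟨(e ⟨g, hg⟩).2, (z2 _ (e ⟨g, hg⟩).1 h1).imp (fun h => ?_) fun h => ?_⟩, ?_⟩⟩
  · have : e.symm (1, x) = t' := Subtype.ext h
    rw [← this, e.apply_symm_apply]
  · have : e.symm (1, (e ⟨g, hg⟩).2) = ⟨g, hg⟩ := e.symm_apply_eq.2 (Prod.ext h.symm rfl)
    exact (congrArg Subtype.val this).symm
  · have : t' * e.symm (1, (e ⟨g, hg⟩).2) = ⟨g, hg⟩ := e.injective (by
      rw [map_mul, e.apply_symm_apply]; exact Prod.ext (by simp [h]) (by simp [h2]))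
    exact (congrArg Subtype.val this).symm
  · rintro ⟨x, rfl | rfl⟩
    · exact (e.symm (1, x)).2
    · exact mul_mem (mem_C1_self t) (e.symm (1, x)).2

/-- Burnside's fusion lemma -/
theorem abel_fusion [Finite G] {p : ℕ} (hp : p.Prime) {S M : Subgroup G} (hS : Syl p S M) (ha : Abel S) {x g : G}
    (hx : x ∈ S) (hg : g ∈ M) (h : g * x * g⁻¹ ∈ S) : ∃ n ∈ M ⊓ N[S], n * x * n⁻¹ = g * x * g⁻¹ := by
  have a1 : S ≤ C1[x] := le_C1_iff.2 (ha hx)
  have a2 : cj g⁻¹ S ≤ C1[x] := le_C1_iff.2 (abel_cj.2 ha (mem_cj_inv.2 h))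
  have s2 := hS.cj_mem (inv_mem hg)
  obtain ⟨c, hc, e⟩ := Syl.conj (hS.sub (le_inf hS.le a1) inf_le_left) hp
    (s2.sub (le_inf s2.le a2) (inf_le_left (b := C1[x])))
  refine ⟨g * c, ⟨mul_mem hg hc.1, mem_N_of_cj_le (by rw [cj_mul, e, cj_cj_inv])⟩, ?_⟩
  rw [mul_assoc g, mem_C1.1 hc.2]; group

theorem odd_class [Finite G] {S : Subgroup G} (hS : Syl 2 S ⊤) (ha : Abel S) {x : G} (hx : x ∈ S) :
    Odd {y | y ∈ S ∧ IsConj x y}.ncard := by
  have e : {y | y ∈ S ∧ IsConj x y} = {y | ∃ d ∈ N[S], d * x * d⁻¹ = y} := by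
    ext y
    refine ⟨fun ⟨h1, h2⟩ => ?_, fun ⟨d, h1, h2⟩ => h2 ▸ ⟨conj_mem h1 hx, isConj_conj d x⟩⟩
    obtain ⟨g, rfl⟩ := isConj_iff.1 h2
    obtain ⟨n, h3, h4⟩ := abel_fusion Nat.prime_two hS ha hx (mem_top g) h1
    exact ⟨n, h3.2, h4⟩
  have c := SE.card_conj N[S] x
  have l : S ≤ N[S] ⊓ C1[x] := le_inf (normG S) (le_C1_iff.2 (ha hx))
  rw [← e, ← card_mul_relIndex (inf_le_left : N[S] ⊓ C1[x] ≤ _)] at c
  rw [← Nat.eq_of_mul_eq_mul_left (card_pos _) c, ← Nat.not_even_iff_odd, even_iff_two_dvd]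
  exact fun h => Syl.not_dvd (hS.sub (normG S) le_top) Nat.prime_two (h.trans (relIndex_dvd_left l _))

namespace CT
variable {t : G} {ι : L →* G} (h : CT t ι)
include h

theorem t2 : t * t = 1 := sq_of_ord2 h.ot
theorem memC (x : L) : ι x ∈ C1[t] := (h.mem _).2 ⟨x, .inl rfl⟩
theorem comm (x : L) : ι x * t = t * ι x := mem_C1.1 (h.memC x)
theorem ord (x : L) : orderOf (ι x) = orderOf x := orderOf_injective ι h.inj x
theorem sq (x : L) : t * ι x * (t * ι x) = ι (x * x) := by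
  rw [mul_assoc, ← mul_assoc (ι x), h.comm, mul_assoc, mul_mul_of_ord2 h.ot, map_mul]
theorem ne (x y : L) : t * ι x ≠ ι y := fun e => h.nm (y * x⁻¹) (by rw [map_mul, ← e]; simp)
theorem ord' {u : L} (hu : orderOf u = 2) : orderOf (t * ι u) = 2 :=
  ord2_iff.2 ⟨by rw [h.sq, sq_of_ord2 hu, map_one], fun e => h.ne u 1 (by rw [e, map_one])⟩
theorem conj' (g x : L) : ι g * (t * ι x) * (ι g)⁻¹ = t * ι (g * x * g⁻¹) := by
  rw [← mul_assoc, h.comm]; simp [mul_assoc]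

theorem invol {y : G} (hy : y ∈ C1[t]) (h2 : orderOf y = 2) :
    y = t ∨ ∃ u, orderOf u = 2 ∧ (y = ι u ∨ y = t * ι u) := by
  obtain ⟨x, rfl | rfl⟩ := (h.mem y).1 hy
  · exact .inr ⟨x, h.ord x ▸ h2, .inl rfl⟩
  by_cases e : x = 1
  · exact .inl (by simp [e])
  exact .inr ⟨x, ord2_iff.2 ⟨h.inj (by rw [← h.sq, sq_of_ord2 h2, map_one]), e⟩, .inr rfl⟩

theorem of_odd [Finite G] {y : G} (hy : y ∈ C1[t]) (o : Odd (orderOf y)) : ∃ x, y = ι x := by
  obtain ⟨m, e⟩ := exists_sqrt_of_odd o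
  obtain ⟨x, a | a⟩ := (h.mem _).1 (pow_mem hy m)
  · exact ⟨x * x, by rw [← e, a, map_mul]⟩
  · exact ⟨x * x, by rw [← e, a, h.sq]⟩

theorem card_map [Finite G] (X : Subgroup L) : #(X.map ι ⊔ zpowers t) = 2 * #X := by
  rw [card_sup_zpowers (A := X.map ι) (fun a ha => ?_) (h.t2 ▸ one_mem _) fun ⟨x, _, e⟩ => h.nm x e,
    card_map_inj h.inj]
  obtain ⟨x, _, rfl⟩ := id ha
  rwa [← h.comm, mul_inv_cancel_right]

theorem mem_map {X : Subgroup L} {g : G} : g ∈ X.map ι ⊔ zpowers t ↔ ∃ x ∈ X, g = ι x ∨ g = t * ι x := by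
  rw [mem_sup_zpowers_iff (fun a ha => ?_) (h.t2 ▸ one_mem _)]
  · refine ⟨fun a => a.elim (fun ⟨x, b, e⟩ => ⟨x, b, .inl e.symm⟩) fun ⟨x, b, e⟩ => ⟨x, b, .inr ?_⟩, ?_⟩
    · rw [← h.comm, e]; simp
    · rintro ⟨x, b, rfl | rfl⟩
      · exact .inl ⟨x, b, rfl⟩
      · exact .inr ⟨x, b, by rw [← h.comm]; simp⟩
  · obtain ⟨x, _, rfl⟩ := id ha
    rwa [← h.comm, mul_inv_cancel_right]

theorem C_eq (x : L) : C1[t] ⊓ C1[ι x] = (C1[x]).map ι ⊔ zpowers t := by
  ext g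
  rw [h.mem_map, mem_inf, h.mem]
  constructor
  · rintro ⟨⟨y, rfl | rfl⟩, a⟩
    · exact ⟨y, mem_C1.2 (h.inj (by simpa using mem_C1.1 a)), .inl rfl⟩
    · refine ⟨y, mem_C1.2 (h.inj ?_), .inr rfl⟩
      have := mem_C1.1 a
      rw [← mul_assoc, h.comm, mul_assoc, mul_assoc, mul_right_inj] at this
      simpa using this
  · rintro ⟨y, a, e⟩
    have b : ι y ∈ C1[ι x] := mem_C1.2 (by rw [← map_mul, mem_C1.1 a, map_mul])
    exact ⟨⟨y, e⟩, e.elim (fun e => e ▸ b) fun e => e ▸ mul_mem (C1_symm (h.memC x)) b⟩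

theorem card_C [Finite G] (x : L) : #(C1[t] ⊓ C1[ι x]) = 2 * #C1[x] := by rw [h.C_eq, h.card_map]
theorem card [Finite G] : #C1[t] = 2 * Nat.card L := by simpa [C1_one] using h.card_C 1

/-- all involutions are conjugate -/
theorem cls [Finite G] [IsSimpleGroup G] (hab : ∀ S : Subgroup G, Syl 2 S ⊤ → Abel S) {u : L} (hu : orderOf u = 2)
    (hc : ∀ v, orderOf v = 2 → IsConj u v) {y : G} (hy : orderOf y = 2) : IsConj t y := by
  classical
  obtain ⟨S, hS, l⟩ := syl_superset (M := ⊤) Nat.prime_two le_top ((GW.pig2 h.ot).sup_l (GW.pig2 ((h.ord u).trans hu))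
    (zpowers_le.2 (norm_zpowers le_rfl (h.memC u))))
  have tS : t ∈ S := l (mem_sup_left (mem_zpowers t))
  have aS : ι u ∈ S := l (mem_sup_right (mem_zpowers _))
  have SC : S ≤ C1[t] := le_C1_iff.2 (hab S hS tS)
  have key : ∀ y ∈ C1[t], orderOf y = 2 → y ≠ t → IsConj (ι u) y ∧ IsConj (t * ι u) (t * y) ∨
      IsConj (t * ι u) y ∧ IsConj (ι u) (t * y) := fun y h1 h2 h3 => by
    obtain ⟨v, hv, e⟩ := (h.invol h1 h2).resolve_left h3
    obtain ⟨g, rfl⟩ := isConj_iff.1 (hc v hv)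
    have a1 : IsConj (ι u) (ι (g * u * g⁻¹)) := ι.map_isConj (isConj_conj g u)
    have a2 : IsConj (t * ι u) (t * ι (g * u * g⁻¹)) := h.conj' g u ▸ isConj_conj _ _
    rcases e with rfl | rfl
    exacts [.inl ⟨a1, a2⟩, .inr ⟨a2, by rwa [mul_mul_of_ord2 h.ot]⟩]
  have par : ∀ a b, b ∈ S → orderOf b = 2 → (∀ y ∈ C1[t], orderOf y = 2 → y ≠ t →
      IsConj a y ∧ IsConj b (t * y) ∨ IsConj b y ∧ IsConj a (t * y)) → IsConj t a → IsConj t b := fun a b bS ob k ta => by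
    by_contra tb
    have o1 := odd_class hS (hab S hS) tS
    have o2 := odd_class hS (hab S hS) bS
    have e : {y | y ∈ S ∧ IsConj t y} = insert t ((t * ·) '' {y | y ∈ S ∧ IsConj b y}) := by
      ext y
      refine ⟨fun ⟨h1, h2⟩ => or_iff_not_imp_left.2 fun n => ⟨t * y, ⟨mul_mem tS h1,
        ((k y (SC h1) (orderOf_isConj h2 ▸ h.ot) n).resolve_right fun a => tb (h2.trans a.1.symm)).2⟩,
        mul_mul_of_ord2 h.ot y⟩, ?_⟩
      rintro (rfl | ⟨z, ⟨h1, h2⟩, rfl⟩)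
      · exact ⟨tS, .refl _⟩
      · exact ⟨mul_mem tS h1, ta.trans ((k z (SC h1) (orderOf_isConj h2 ▸ ob) fun e => tb (e ▸ h2.symm)).resolve_left
          fun c => tb (ta.trans (c.1.trans h2.symm))).2⟩
    have nm : t ∉ (t * ·) '' {y | y ∈ S ∧ IsConj b y} := fun ⟨z, ⟨_, h2⟩, e⟩ =>
      ne_one_of_ord2 (orderOf_isConj h2 ▸ ob) (mul_eq_left.1 e)
    rw [e, Set.ncard_insert_of_notMem nm, Set.ncard_image_of_injective _ (mul_right_injective t), Nat.odd_add_one] at o1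
    exact o1 o2
  have nz : IsConj t (ι u) ∨ IsConj t (t * ι u) := by
    by_contra n
    push Not at n
    have z := Blk.zstar (t := t) ⟨h.ot, fun g c => by_contra fun e => by
      rcases key _ (mem_C1.2 c.symm) ((orderOf_conj' g t).trans h.ot) e with a | a
      exacts [n.1 ((isConj_conj g t).trans a.1.symm), n.2 ((isConj_conj g t).trans a.1.symm)]⟩
    have o : pPrimeCore 2 G = ⊥ := (IsSimpleGroup.eq_bot_or_eq_top_of_normal _ inferInstance).resolve_right fun e => by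
      have := (O_pig {2}ᶜ (⊤ : Subgroup G)).elt (x := t) (by rw [← pPrimeCore_eq Nat.prime_two, e]; trivial)
      exact ne_one_of_ord2 h.ot ((GW.pie2 h.ot).eq_one this)
    have c : center G = ⊤ := (IsSimpleGroup.eq_bot_or_eq_top_of_normal _ inferInstance).resolve_left (ne_bot_of_mem (x := t)
      (mem_center_iff.2 fun g => by
        have := z g
        rw [o, mem_bot, mul_inv_eq_one, mul_inv_eq_iff_eq_mul] at this
        exact this.symm) (ne_one_of_ord2 h.ot))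
    have : zpowers t = ⊤ := (IsSimpleGroup.eq_bot_or_eq_top_of_normal _ ⟨fun a ha g => by
      rwa [mem_center_iff.1 (c.ge (mem_top a)) g, mul_inv_cancel_right]⟩).resolve_left
      (by simpa using ne_one_of_ord2 h.ot)
    rcases (GW.mem_zp2 h.t2).1 (this.ge (mem_top (ι u))) with e | e
    exacts [ne_one_of_ord2 ((h.ord u).trans hu) e, h.nm u e]
  have both : IsConj t (ι u) ∧ IsConj t (t * ι u) := nz.elim
    (fun a => ⟨a, par _ _ (mul_mem tS aS) (h.ord' hu) key a⟩)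
    fun a => ⟨par _ _ aS ((h.ord u).trans hu) (fun y h1 h2 h3 => (key y h1 h2 h3).symm) a, a⟩
  obtain ⟨g, -, e⟩ := hS.cj_sub Nat.prime_two le_top (GW.pig2 hy)
  have m : g * y * g⁻¹ ∈ S := e (mem_cj_conj.2 (mem_zpowers y))
  refine IsConj.trans ?_ (isConj_conj g y).symm
  by_cases n : g * y * g⁻¹ = t
  · rw [n]
  rcases key _ (SC m) ((orderOf_conj' g y).trans hy) n with a | a
  exacts [both.1.trans a.1, both.2.trans a.1]

/-- squares have odd order -/
theorem odd_sq [Finite G] (hc : ∀ y, orderOf y = 2 → IsConj t y) (g : G) : Odd (orderOf (g * g)) := by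
  by_contra n
  have o := orderOf_pow_half (Nat.not_odd_iff_even.1 n)
  obtain ⟨c, e⟩ := isConj_iff.1 (hc _ o).symm
  set k := c * g ^ (orderOf (g * g) / 2) * c⁻¹
  have k2 : k * k = t := by
    rw [← e, (Commute.refl g).mul_pow]; simp [k, mul_assoc]
  obtain ⟨x, a | a⟩ := (h.mem k).1 (mem_C1.2 (k2 ▸ (mul_assoc k k k).symm))
  · exact h.nm (x * x) (by rw [map_mul, ← a, k2])
  · exact h.nm (x * x) (by rw [← h.sq, ← a, k2])

end CT
end Cfsg.Agent.JT.Rd
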