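import Cfsg.Agent.GW.LT
import Cfsg.Agent.Dih.BSW2

/-! The facts used about `PSL(2, q)`, `q` odd, in the Janko–Thompson–Ward theorem. -/

set_option autoImplicit false
set_option linter.unusedVariables false
set_option linter.unusedSectionVars false

namespace Cfsg.Agent.JT.Rd

open Matrix Cfsg.Agent.Class Cfsg Cfsg.Agent.BG Cfsg.Agent.Dih Cfsg.Agent.GW Subgroup
open scoped MatrixGroups

/-- `T u` is the torus containing the involution `u`. -/
structure LF (L : Type*) [Group L] (q τ : ℕ) (ε : ℤ) (T : L → Subgroup L) : Prop where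
  eps : ε = 1 ∨ ε = -1
  qeq : (q : ℤ) = 2 * τ + ε
  ev : Even τ
  card : (Nat.card L : ℤ) = 2 * q * τ * (τ + ε)
  bsw : ∀ u, orderOf u = 2 → BSW u (T u)
  cyc : ∀ u, orderOf u = 2 → Cyc (T u)
  cT : ∀ u, orderOf u = 2 → #(T u) = τ
  cent : ∀ y : L, Odd (orderOf y) → y ≠ 1 → #C1[y] = τ ∨ (#C1[y] : ℤ) = τ + ε ∨ #C1[y] = q
  ex : ∃ u : L, orderOf u = 2

variable {F : Type*} [Field F] [Finite F]

theorem card_Cm0 (h2 : (2 : F) ≠ 0) {g : M2 F} (h0 : g.trace = 0) (h1 : g.det = 0) (hg : ¬ Sc g) :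
    Nat.card (Cm g) = 2 * Nat.card F := by
  have g0 : g ≠ 0 := fun e => hg ⟨0, by simp [e]⟩
  have inj : ∀ {a b a' b' : F}, a • (1 : M2 F) + b • g = a' • 1 + b' • g → a = a' ∧ b = b' := fun {a b a' b'} e => by
    have := congrArg Matrix.trace e
    rw [tr_lin h0, tr_lin h0] at this
    obtain rfl := mul_left_cancel₀ h2 this
    exact ⟨rfl, smul_left_injective F g0 (add_left_cancel e)⟩
  have c2 : Nat.card {a : F // a ^ 2 = 1} = 2 := by
    rw [Nat.card_eq_two_iff]
    refine ⟨⟨1, by simp⟩, ⟨-1, by simp⟩, fun e => h2 ?_, Set.eq_univ_of_forall fun a => ?_⟩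
    · have := congrArg Subtype.val e
      simp only at this
      linear_combination this
    · rcases sq_eq_one_iff.1 a.2 with e | e
      · exact .inl (Subtype.ext e)
      · exact .inr (Subtype.ext e)
  rw [← congrArg (· * Nat.card F) c2, ← Nat.card_prod]
  refine Nat.card_congr (Equiv.ofBijective (fun v => ⟨mkS (v.1.1 • 1 + v.2 • g) ((det_lin h0 _ _).trans (by
    rw [h1, v.1.2]; simp)), show _ * g = g * _ by simp [mul_add, add_mul]⟩) ⟨fun v w h => ?_, fun A => ?_⟩).symm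
  · have := inj (congrArg (fun A : Cm g => GW.mt A.1) h)
    exact Prod.ext (Subtype.ext this.1) this.2
  · obtain ⟨a, b, e⟩ := commutant hg (mem_Cm.1 A.2).symm
    have := det_lin h0 a b
    rw [← e, mt_det, h1] at this
    exact ⟨(⟨a, by simpa using this.symm⟩, b), Subtype.ext (mt_inj.1 e.symm)⟩

theorem exists_LF {L : Type*} [Group L] [Finite L] (ho : Odd (Nat.card F)) (e : L ≃* PSL(2, F)) :
    ∃ τ ε T, LF L (Nat.card F) τ ε T := by
  classical
  have := Fintype.ofFinite F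
  have := Fintype.ofFinite L
  have h2 : (2 : F) ≠ 0 := Ring.two_ne_zero fun e => by
    have := FiniteField.even_card_of_char_two e; rw [Nat.odd_iff, Nat.card_eq_fintype_card] at ho; omega
  have hc : C[(⊤ : Subgroup L)] = ⊥ := by
    rw [coe_top, centralizer_univ]; exact center_eq_bot_congr e center_PSL2
  obtain ⟨φ, ψ, m⟩ := exists_Md h2 hc (topEquiv.trans e)
  have sj : ∀ v : L, ∃ A, φ A = v := fun v => m.range.ge (mem_top v)
  have I : ∀ v : L, orderOf v = 2 → ∃ g, Ac ψ v g := fun v hv => by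
    obtain ⟨A, rfl⟩ := sj v; exact ⟨_, m.ac A⟩
  have sq := FiniteField.isSquare_neg_one_iff (F := F)
  have cE := card_PSL2 (F := F)
  have q0 : 1 < Nat.card F := Finite.one_lt_card
  rw [← Nat.card_eq_fintype_card] at sq cE
  rw [← Nat.card_congr e.toEquiv, ((gcd_two_cases _ (by omega)).resolve_right fun h => by
    rw [Nat.odd_iff] at ho; omega).2] at cE
  have cm := fun g => card_Cm0 (g := g) h2
  set q := Nat.card F
  obtain ⟨τ, ε, e1, e2, e3⟩ : ∃ (τ : ℕ) (ε : ℤ), (q : ℤ) = 2 * τ + ε ∧ Even τ ∧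
      (ε = 1 ∧ IsSquare (-1 : F) ∨ ε = -1 ∧ ¬ IsSquare (-1 : F)) := by
    rw [Nat.odd_iff] at ho
    by_cases h : q % 4 = 3
    · exact ⟨2 * (q / 4 + 1), -1, by omega, by simp, .inr ⟨rfl, by simp [sq, h]⟩⟩
    · exact ⟨2 * (q / 4), 1, by omega, by simp, .inl ⟨rfl, sq.2 h⟩⟩
  have sm : ∀ {a b : F}, IsSquare a → a ≠ 0 → IsSquare (a * b) → IsSquare b := fun {a b} h1 h2 h3 => by
    simpa [h2] using h1.inv.mul h3
  have cin : ∀ v, orderOf v = 2 → #(Tor φ ψ v) = τ := fun v hv => by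
    obtain ⟨g, a⟩ := I v hv
    have c := m.card_tor a hv
    have s := (m.mem_iff a).1 (mem_top v)
    rcases e3 with ⟨e3, e4⟩ | ⟨e3, e4⟩
    · rw [if_pos (by simpa using e4.mul s)] at c; omega
    · rw [if_neg fun f => e4 (sm s a.1 (by simpa using f))] at c; omega
  have cL : (Nat.card L : ℤ) = 2 * q * τ * (τ + ε) := by
    have : (2 : ℤ) * Nat.card L = q * (q ^ 2 - 1) := by
      have := congrArg (Nat.cast : ℕ → ℤ) cE
      rwa [Nat.cast_mul, Nat.cast_mul, Nat.cast_sub (Nat.one_le_pow _ _ (by omega)), Nat.cast_pow] at this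
    rcases e3 with ⟨rfl, -⟩ | ⟨rfl, -⟩ <;> rw [e1] at this ⊢ <;> linarith
  have cyc : ∀ v, orderOf v = 2 → Cyc (Tor φ ψ v) := fun v hv => by
    obtain ⟨g, a⟩ := I v hv
    have := (m.tz a hv).cyc_Cm h2
    rw [a.tor]; exact Cyc.map this φ
  have s1 : ∀ A, orderOf (φ A) = 2 → A * A = -1 := fun A h => by
    have h' := Inv.ord2_iff.1 h
    rcases m.eq.1 ((map_one φ).trans ((map_mul φ A A).trans h'.1).symm) with e | e
    · rcases sl2_sq_eq_one h2 e with rfl | rfl
      · exact absurd (map_one φ) h'.2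
      · exact absurd ((m.neg 1).trans (map_one φ)) h'.2
    · exact e
  have cC : ∀ v, orderOf v = 2 → #C1[v] = 2 * τ := fun v hv => by
    obtain ⟨g, a⟩ := I v hv
    rw [← cin v hv, ← m.card_C a hv, top_inf_eq]
  have t0 : 0 < τ := by rcases e3 with ⟨rfl, -⟩ | ⟨rfl, -⟩ <;> omega
  refine ⟨τ, ε, Tor φ ψ, e3.imp And.left And.left, e1, e2, cL, fun v hv => ⟨hv, ?_, fun a ha b hb =>
    mem_C_comm (cyc v hv).abel ha hb, ?_, fun w hw n => ?_, fun g hg y h1 h2 => ?_, fun w hw => ?_, ?_⟩, cyc, cin,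
    fun y o y1 => ?_, ⟨φ (slJ F), ?_⟩⟩
  · obtain ⟨G, rfl⟩ := sj v
    exact m.mem_tor.2 (by simp [m.inn])
  · have := PLoc.card_mul_relIndex (m.tor_le.trans inf_le_right : Tor φ ψ v ≤ C1[v])
    rw [cC v hv, cin v hv, mul_comm] at this
    exact Nat.eq_of_mul_eq_mul_right t0 this
  · obtain ⟨g, a⟩ := I v hv
    obtain ⟨A, rfl⟩ := sj w
    exact (Inv.ord2_iff.1 (m.anti_inv a ((m.comm_iff.1 (mem_C1.1 hw).symm).resolve_left
      fun e => n (m.mem_tor.2 e))).1).1
  · by_contra n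
    have := m.ti' I ((Inv.orderOf_conj' g v).trans hv) hv
      (m.tor_cj g ▸ mem_cj_conj.2 h1) h2 (by simpa [conj_eq_one_iff] using n)
    exact hg (mem_C1.2 (by rw [mul_inv_eq_iff_eq_mul] at this; exact this))
  · obtain ⟨A, rfl⟩ := sj v
    obtain ⟨B, rfl⟩ := sj w
    exact φ.map_isConj (isConj_of_sq_eq_neg_one h2 (s1 A hv) (s1 B hw))
  · have := card_mul_index C1[v]
    rw [cC v hv] at this
    have k : ((C1[v]).index : ℤ) = q * (τ + ε) := by
      have h := congrArg (Nat.cast : ℕ → ℤ) this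
      push_cast at h
      exact mul_left_cancel₀ (show (2 * τ : ℤ) ≠ 0 by omega) (by rw [h, cL]; ring)
    rw [← Int.odd_coe_nat, k]
    obtain ⟨j, rfl⟩ := e2
    refine ((Int.odd_coe_nat _).2 ho).mul ?_
    rcases e3 with ⟨rfl, -⟩ | ⟨rfl, -⟩
    exacts [⟨j, by push_cast; ring⟩, ⟨j - 1, by push_cast; ring⟩]
  · obtain ⟨A, rfl⟩ := sj y
    set g := (-((mt A).trace / 2)) • (1 : M2 F) + mt A with hg
    have tr : g.trace = 0 := by simp [hg]; field_simp; ring
    have ns : ¬ Sc g := fun ⟨c, h⟩ => y1 (m.eq_one.2 ⟨c + (mt A).trace / 2, by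
      rw [add_smul, ← h, hg]; simp⟩)
    have ce : C1[φ A] = (Cm g).map φ := by
      ext x
      obtain ⟨B, rfl⟩ := sj x
      constructor
      · intro h
        have := m.comm_of_odd o (mem_C1.1 h)
        rw [m.inn, mul_inv_eq_iff_eq_mul, ← mt_inj, mt_mul, mt_mul] at this
        exact ⟨B, mem_Cm.2 (by simp [hg, mul_add, add_mul, this]), rfl⟩
      · rintro ⟨B', h, e⟩
        rw [← e, mem_C1, ← map_mul, ← map_mul]
        congr 1
        rw [← mt_inj]
        simpa [hg, mul_add, add_mul] using mem_Cm.1 h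
    have c := Core.card_map_mul_card_inf_ker (Cm g) φ
    rw [show Cm g ⊓ φ.ker = zpowers (-1) from le_antisymm (fun A h => (m.eq.1 ((map_one φ).trans h.2.symm)).elim
      (fun e => by rw [e]; exact one_mem _) fun e => by rw [e]; exact mem_zpowers _)
      (zpowers_le.2 ⟨mem_Cm.2 (by simp), by simp [m.neg]⟩),
      Nat.card_zpowers, Inv.ord2_iff.2 ⟨by simp, sl2_neg_one_ne m.two⟩, ← ce] at c
    by_cases d : g.det = 0
    · have := cm g tr d ns
      omega
    · have := Tz.card_Cm h2 ⟨tr, d⟩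
      split_ifs at this <;> rcases e3 with ⟨rfl, -⟩ | ⟨rfl, -⟩ <;> omega
  · refine Inv.ord2_iff.2 ⟨by rw [← map_mul, slJ_sq, m.neg, map_one], fun h => ?_⟩
    have := slJ_sq (F := F)
    rcases m.eq.1 ((map_one φ).trans h.symm) with e | e <;> rw [e] at this <;>
      exact sl2_neg_one_ne h2 (by simpa using this.symm)

end Cfsg.Agent.JT.Rd
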