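import Cfsg.Agent.Dih.BSW1

/-! Interface between the local analysis and the character theory for S0343. -/

set_option autoImplicit false

namespace Cfsg.Agent.JT

open Cfsg.Agent.Dih Subgroup

/-- `C(t) = ⟨t⟩ × j(L)`, one class of involutions -/
structure JT {G L : Type*} [Group G] [Group L] (t : G) (j : L →* G) : Prop where
  ot : orderOf t = 2
  inj : Function.Injective j
  comm : ∀ y, j y * t = t * j y
  cov : ∀ g, g * t = t * g → ∃ y, g = j y ∨ g = t * j y
  nt : ∀ y, j y ≠ t
  cls : ∀ s : G, orderOf s = 2 → IsConj t s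

/-- the local configuration: `ρ` cycles the four-group `⟨t, j u⟩`, and the elements of odd order of
the torus `K` of `L` have their centralizers inside `C(t)` -/
structure Loc {G L : Type*} [Group G] [Group L] (t : G) (j : L →* G) (u : L) (K : Subgroup L)
    (ρ : G) : Prop extends JT t j where
  bsw : BSW u K
  h4 : ¬ 4 ∣ Nat.card K
  h2 : Nat.card K ≠ 2
  kl : ∃ P : Sylow 2 L, IsKleinFour (P : Subgroup L)
  r1 : ρ * t * ρ⁻¹ = j u
  r2 : ρ * j u * ρ⁻¹ = t * j u
  cen : ∀ y ∈ K, ¬ 2 ∣ orderOf y → y ≠ 1 → ∀ g : G, g * j y = j y * g → g * t = t * g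

end Cfsg.Agent.JT
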