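import Cfsg.Agent.JT.Num

/-! The lattice of generalized characters, abstractly: the combinatorial part of the
Janko–Thompson–Ward theorem. -/

set_option autoImplicit false

namespace Cfsg.Agent.JT

theorem sq0 {z : ℤ} (h : 2 * z ^ 2 ≤ 1) : z = 0 := by nlinarith

theorem sq1 {a b c z : ℤ} (h0 : (a + z) ^ 2 = 1) (h1 : (b + z) ^ 2 = 1) (h2 : (c + z) ^ 2 = 1)
    (h3 : a + z + (b + z) + (c + z) = -1) (h : a ^ 2 + b ^ 2 + c ^ 2 + z ^ 2 ≤ 4) : z = 0 := by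
  have : 4 * z ^ 2 + 2 * z ≤ 1 := by nlinarith
  have a6 : z < 1 := by nlinarith
  have a7 : -1 < z := by nlinarith
  omega

/-- abstract lattice of generalized characters with degree, value at `t`, pair functional -/
structure Lat (Λ : Type*) [AddCommGroup Λ] where
  B : Λ →+ Λ →+ ℤ
  deg : Λ →+ ℤ
  val : Λ →+ ℤ
  pr : Λ →+ ℂ
  g : ℤ
  one : Λ
  symm : ∀ x y, B x y = B y x
  pos : ∀ x, B x x ≤ 0 → x = 0
  ex : ∀ x, x ≠ 0 → ∃ z, B z z = 1 ∧ B x z ≠ 0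
  deg0 : ∀ z, B z z = 1 → deg z ≠ 0
  pr_eq : ∀ z, B z z = 1 → pr z * deg z = (val z : ℂ) ^ 2
  om : ∀ z, B z z = 1 → deg z ∣ g * val z
  four : ∀ z, 4 ∣ deg z - val z
  one1 : B one one = 1
  deg1 : deg one = 1
  val1 : val one = 1
  g0 : 0 < g

namespace Lat
variable {Λ : Type*} [AddCommGroup Λ] (L : Lat Λ)

theorem nonneg (x : Λ) : 0 ≤ L.B x x := by
  by_contra h
  have := L.pos x (by omega)
  subst this
  simp at h

theorem peel (x : Λ) {z : Λ} (hz : L.B z z = 1) (n : ℤ) :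
    L.B (x - n • z) (x - n • z) = L.B x x - 2 * n * L.B x z + n ^ 2 := by
  simp only [map_sub, map_zsmul, AddMonoidHom.sub_apply, AddMonoidHom.smul_apply, hz, L.symm z x,
    smul_eq_mul]
  ring

theorem uu {z w : Λ} (hz : L.B z z = 1) (hw : L.B w w = 1) : L.B z w = 0 ∨ z = w ∨ z = -w := by
  have h1 := L.nonneg (z - L.B z w • w)
  have h2 := L.pos (z - L.B z w • w)
  rw [L.peel z hw, hz] at h1 h2
  rcases (by nlinarith : L.B z w ^ 2 ≤ 1).eq_or_lt with h | h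
  · have h3 := sub_eq_zero.mp (h2 (by nlinarith))
    rcases sq_eq_one_iff.mp h with h | h <;> rw [h] at h3 <;> simp [h3]
  · left; nlinarith

theorem ex1 {x : Λ} (h0 : 0 < L.B x x) (h3 : L.B x x ≤ 3) : ∃ z, L.B z z = 1 ∧ L.B x z = 1 := by
  obtain ⟨z, hz, h⟩ := L.ex x (by rintro rfl; simp at h0)
  have h1 := L.nonneg (x - L.B x z • z)
  rw [L.peel x hz] at h1
  have h2 : L.B x z = 1 ∨ L.B x z = -1 := by
    have : L.B x z ≤ 1 := by nlinarith
    have : -1 ≤ L.B x z := by nlinarith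
    omega
  rcases h2 with h2 | h2
  · exact ⟨z, hz, h2⟩
  · exact ⟨-z, by simpa using hz, by simp [h2]⟩

theorem sub1 {x z : Λ} (hz : L.B z z = 1) (h : L.B x z = 1) :
    L.B (x - z) (x - z) = L.B x x - 1 ∧ L.B (x - z) z = 0 := by
  have := L.peel x hz 1
  rw [one_smul] at this
  exact ⟨by rw [this, h]; ring, by simp [h, hz]⟩

theorem dec2 {x : Λ} (h : L.B x x = 2) :
    ∃ a b, L.B a a = 1 ∧ L.B b b = 1 ∧ L.B a b = 0 ∧ x = a + b := by
  obtain ⟨z, hz, h1⟩ := L.ex1 (x := x) (by omega) (by omega)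
  obtain ⟨h2, h3⟩ := L.sub1 hz h1
  exact ⟨x - z, z, by omega, hz, h3, by simp⟩

theorem orth2 {a b z : Λ} (ha : L.B a a = 1) (hb : L.B b b = 1) (hz : L.B z z = 1)
    (hab : L.B a b = 0) (h : L.B (a + b) z = 0) : L.B a z = 0 ∧ L.B b z = 0 := by
  simp only [map_add, AddMonoidHom.add_apply] at h
  have hba := L.symm b a
  rcases L.uu ha hz with h1 | rfl | rfl
  · omega
  · omega
  · simp only [map_neg, AddMonoidHom.neg_apply] at *
    omega

theorem dec3 {x : Λ} (h : L.B x x = 3) : ∃ a b c, L.B a a = 1 ∧ L.B b b = 1 ∧ L.B c c = 1 ∧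
    L.B a b = 0 ∧ L.B a c = 0 ∧ L.B b c = 0 ∧ x = a + b + c := by
  obtain ⟨z, hz, h1⟩ := L.ex1 (x := x) (by omega) (by omega)
  obtain ⟨h2, h3⟩ := L.sub1 hz h1
  obtain ⟨a, b, ha, hb, hab, e⟩ := L.dec2 (x := x - z) (by omega)
  rw [e] at h3
  obtain ⟨h4, h5⟩ := L.orth2 ha hb hz hab h3
  exact ⟨a, b, z, ha, hb, hz, hab, h4, h5, by rw [← e]; simp⟩

theorem bes4 (x : Λ) {a b c d : Λ} (ha : L.B a a = 1) (hb : L.B b b = 1) (hc : L.B c c = 1)
    (hd : L.B d d = 1) (ab : L.B a b = 0) (ac : L.B a c = 0) (ad : L.B a d = 0) (bc : L.B b c = 0)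
    (bd : L.B b d = 0) (cd : L.B c d = 0) :
    L.B x a ^ 2 + L.B x b ^ 2 + L.B x c ^ 2 + L.B x d ^ 2 ≤ L.B x x ∧
    (L.B x x ≤ L.B x a ^ 2 + L.B x b ^ 2 + L.B x c ^ 2 + L.B x d ^ 2 →
      x = L.B x a • a + L.B x b • b + L.B x c • c + L.B x d • d) := by
  have e : L.B (x - (L.B x a • a + L.B x b • b + L.B x c • c + L.B x d • d))
      (x - (L.B x a • a + L.B x b • b + L.B x c • c + L.B x d • d)) =
      L.B x x - (L.B x a ^ 2 + L.B x b ^ 2 + L.B x c ^ 2 + L.B x d ^ 2) := by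
    simp only [map_sub, map_add, map_zsmul, AddMonoidHom.sub_apply, AddMonoidHom.add_apply,
      AddMonoidHom.smul_apply, smul_eq_mul, ha, hb, hc, hd, L.symm b a, L.symm c a, L.symm d a,
      L.symm c b, L.symm d b, L.symm d c, ab, ac, ad, bc, bd, cd, L.symm a x, L.symm b x,
      L.symm c x, L.symm d x]
    ring
  have h1 := L.nonneg (x - (L.B x a • a + L.B x b • b + L.B x c • c + L.B x d • d))
  have h2 := L.pos (x - (L.B x a • a + L.B x b • b + L.B x c • c + L.B x d • d))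
  rw [e] at h1 h2
  exact ⟨by omega, fun h => sub_eq_zero.mp (h2 (by omega))⟩

theorem bes2 (x : Λ) {a b : Λ} (ha : L.B a a = 1) (hb : L.B b b = 1) (ab : L.B a b = 0) :
    L.B x a ^ 2 + L.B x b ^ 2 ≤ L.B x x ∧
    (L.B x x ≤ L.B x a ^ 2 + L.B x b ^ 2 → x = L.B x a • a + L.B x b • b) := by
  have e : L.B (x - (L.B x a • a + L.B x b • b)) (x - (L.B x a • a + L.B x b • b)) =
      L.B x x - (L.B x a ^ 2 + L.B x b ^ 2) := by
    simp only [map_sub, map_add, map_zsmul, AddMonoidHom.sub_apply, AddMonoidHom.add_apply,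
      AddMonoidHom.smul_apply, smul_eq_mul, ha, hb, L.symm b a, ab, L.symm a x, L.symm b x]
    ring
  have h1 := L.nonneg (x - (L.B x a • a + L.B x b • b))
  have h2 := L.pos (x - (L.B x a • a + L.B x b • b))
  rw [e] at h1 h2
  exact ⟨by omega, fun h => sub_eq_zero.mp (h2 (by omega))⟩

/-- three units with degree, value and pair sums zero have proportional values -/
theorem ratio {a b c : Λ} (ha : L.B a a = 1) (hb : L.B b b = 1) (hc : L.B c c = 1)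
    (h1 : L.deg (a + b + c) = 0) (h2 : L.val (a + b + c) = 0) (h3 : L.pr (a + b + c) = 0) :
    L.val a * L.deg b = L.val b * L.deg a := by
  simp only [map_add] at h1 h2 h3
  have pa := L.pr_eq a ha
  have pb := L.pr_eq b hb
  have pc := L.pr_eq c hc
  have e1 : (L.deg c : ℂ) = -(L.deg a + L.deg b) := by
    exact_mod_cast (by omega : L.deg c = -(L.deg a + L.deg b))
  have e2 : (L.val c : ℂ) = -(L.val a + L.val b) := by
    exact_mod_cast (by omega : L.val c = -(L.val a + L.val b))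
  have e3 : L.pr c = -(L.pr a + L.pr b) := by linear_combination h3
  rw [e1, e2, e3] at pc
  have : ((L.val a : ℂ) * L.deg b - L.val b * L.deg a) ^ 2 = 0 := by
    linear_combination (L.deg a * L.deg b : ℂ) * pc - (L.deg a + L.deg b) * L.deg b * pa -
      (L.deg a + L.deg b) * L.deg a * pb
  exact_mod_cast sub_eq_zero.mp (pow_eq_zero_iff two_ne_zero |>.mp this)

/-- a norm four vector containing the trivial character: entries of differences -/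
theorem ne_two {x z : Λ} (hx : L.B x x = 4) (hd : L.deg x = 0) (hz : L.B z z = 1) :
    -1 ≤ L.B x z ∧ L.B x z ≤ 1 := by
  have h1 := L.nonneg (x - L.B x z • z)
  have h2 := L.pos (x - L.B x z • z)
  rw [L.peel x hz, hx] at h1 h2
  have key : L.B x z ^ 2 ≠ 4 := fun h => by
    have h3 := congrArg L.deg (sub_eq_zero.mp (h2 (by nlinarith)))
    rw [map_zsmul, hd, smul_eq_mul] at h3
    rcases mul_eq_zero.mp h3.symm with h4 | h4
    · rw [h4] at h; omega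
    · exact L.deg0 z hz h4
  have a1 : L.B x z ≤ 2 := by nlinarith
  have a2 : -2 ≤ L.B x z := by nlinarith
  have a3 : L.B x z ≠ 2 := fun h => key (by rw [h]; norm_num)
  have a4 : L.B x z ≠ -2 := fun h => key (by rw [h]; norm_num)
  omega

theorem le1 {z w : Λ} (hz : L.B z z = 1) (hw : L.B w w = 1) : -1 ≤ L.B z w ∧ L.B z w ≤ 1 := by
  rcases L.uu hz hw with h | rfl | rfl
  · omega
  · omega
  · simp only [map_neg, AddMonoidHom.neg_apply] at *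
    omega

theorem rest3 {T a b c : Λ} (hT : L.B T T = 4) (ha : L.B a a = 1) (hb : L.B b b = 1)
    (hc : L.B c c = 1) (ab : L.B a b = 0) (ac : L.B a c = 0) (bc : L.B b c = 0) (h1 : L.B T a = 1)
    (h2 : L.B T b = 1) (h3 : L.B T c = 1) :
    ∃ d, L.B d d = 1 ∧ L.B T d = 1 ∧ L.B a d = 0 ∧ T = a + b + c + d := by
  obtain ⟨d, rfl⟩ : ∃ d, T = a + b + c + d := ⟨T - a - b - c, by abel⟩
  have := L.symm b a
  have := L.symm c a
  have := L.symm c b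
  have := L.symm d a
  have := L.symm d b
  have := L.symm d c
  refine ⟨d, ?_, ?_, ?_, rfl⟩ <;> simp only [map_add, AddMonoidHom.add_apply] at * <;> omega

theorem rest2 {T a b : Λ} (hT : L.B T T = 4) (ha : L.B a a = 1) (hb : L.B b b = 1)
    (ab : L.B a b = 0) (h1 : L.B T a = 1) (h2 : L.B T b = 1) :
    ∃ c d, L.B c c = 1 ∧ L.B d d = 1 ∧ L.B T c = 1 ∧ L.B T d = 1 ∧ L.B a c = 0 ∧ L.B a d = 0 ∧
      T = a + b + c + d := by
  obtain ⟨x, rfl⟩ : ∃ x, T = a + b + x := ⟨T - a - b, by abel⟩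
  have := L.symm b a
  have := L.symm x a
  have := L.symm x b
  simp only [map_add, AddMonoidHom.add_apply] at hT h1 h2
  obtain ⟨c, d, hc, hd, cd, rfl⟩ := L.dec2 (x := x) (by omega)
  obtain ⟨k1, k2⟩ := L.orth2 hc hd ha cd (by omega)
  obtain ⟨k3, k4⟩ := L.orth2 hc hd hb cd (by omega)
  have := L.symm c a
  have := L.symm c b
  have := L.symm d a
  have := L.symm d b
  have := L.symm d c
  refine ⟨c, d, hc, hd, ?_, ?_, by omega, by omega, by abel⟩ <;>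
    simp only [map_add, AddMonoidHom.add_apply] <;> omega

theorem orth_of {T a b : Λ} (ha : L.B a a = 1) (hb : L.B b b = 1) (h1 : L.B T a = 1)
    (h2 : L.B T b = 0) : L.B a b = 0 := by
  rcases L.uu ha hb with h | rfl | rfl
  · exact h
  · omega
  · simp only [map_neg] at h1; omega

theorem gpr {z : Λ} (hz : L.B z z = 1) {w : ℤ} (h : L.deg z * w = L.g * L.val z) :
    L.g * L.pr z = L.val z * w := by
  have h1 := L.pr_eq z hz
  have h2 : (L.deg z : ℂ) * w = L.g * L.val z := by exact_mod_cast h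
  have h3 : (L.deg z : ℂ) ≠ 0 := by exact_mod_cast L.deg0 z hz
  refine mul_right_cancel₀ h3 ?_
  linear_combination L.g * h1 - L.val z * h2

theorem pr1 : L.pr L.one = 1 := by simpa [L.deg1, L.val1] using L.pr_eq _ L.one1

end Lat

/-- the data of the Janko–Thompson–Ward configuration -/
structure Dat {Λ : Type*} [AddCommGroup Λ] (L : Lat Λ) (h : ℤ) where
  T1 : Λ
  T2 : Λ
  T3 : Λ
  U0 : Λ
  U1 : Λ
  U2 : Λ
  R : Λ
  InB : Λ → Prop
  RR : Set Λ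
  XX : Set Λ
  t11 : L.B T1 T1 = 4
  t22 : L.B T2 T2 = 4
  t33 : L.B T3 T3 = 4
  t12 : L.B T1 T2 = 2
  t13 : L.B T1 T3 = 2
  t23 : L.B T2 T3 = 2
  t1o : L.B T1 L.one = 1
  t2o : L.B T2 L.one = 1
  t3o : L.B T3 L.one = 1
  d1 : L.deg T1 = 0
  d2 : L.deg T2 = 0
  d3 : L.deg T3 = 0
  p1 : L.g * L.pr T1 = (2 * h - 1) * (4 * h ^ 2 * (2 * h - 2))
  p2 : L.g * L.pr T2 = (2 * h - 1) ^ 2 * (4 * h * (h + 1))
  inb : ∀ z, L.B z z = 1 → InB z →
    L.val z = -(2 * h - 1) * L.B T1 z + h * L.B T2 z + h * L.B T3 z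
  nb : ∀ z, L.B z z = 1 → ¬ InB z → L.B T1 z = 0 ∧ L.B T2 z = 0 ∧ L.B T3 z = 0
  rb : ∀ z, L.B z z = 1 → InB z → ∀ x ∈ RR, L.B x z = 0
  xb : ∀ z, L.B z z = 1 → InB z → ∀ x ∈ XX, L.B x z = 0
  u00 : L.B U0 U0 = 3
  u11 : L.B U1 U1 = 3
  u22 : L.B U2 U2 = 3
  u01 : L.B U1 U0 = 2
  u02 : L.B U2 U0 = 2
  u12 : L.B U2 U1 = 2
  u0o : L.B L.one U0 = 0
  u1o : L.B L.one U1 = 0
  u2o : L.B L.one U2 = 0
  ud : L.deg U0 = 0 ∧ L.deg U1 = 0 ∧ L.deg U2 = 0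
  uv : L.val U0 = 0 ∧ L.val U1 = 0 ∧ L.val U2 = 0
  up : L.pr U0 = 0
  ut1 : L.B T1 U0 = 0 ∧ L.B T1 U1 = 0 ∧ L.B T1 U2 = 0
  ut2 : L.B T2 U0 = 1 ∧ L.B T2 U1 = 1 ∧ L.B T2 U2 = 1
  ut3 : L.B T3 U0 = 1 ∧ L.B T3 U1 = 1 ∧ L.B T3 U2 = 1
  rm : R ∈ RR
  ru : L.B R U0 = -1 ∧ L.B R U1 = 1 ∧ L.B R U2 = -1
  rp : L.g * L.pr R = 16 * (2 * h - 1) ^ 2 * h
  rr : ∀ x ∈ RR, L.B x x = 4 ∧ L.deg x = 0 ∧ L.val x = 8 * h ∧
    ((L.B x U0 = 0 ∧ L.B x U1 = 0 ∧ L.B x U2 = 0) ∨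
      (L.B x U0 ^ 2 = 1 ∧ L.B x U1 ^ 2 = 1 ∧ L.B x U2 ^ 2 = 1 ∧
        L.B x U0 + L.B x U1 + L.B x U2 = -1))
  xx : ∀ x ∈ XX, L.B x x = 2 ∧ L.B x U0 = 0 ∧ L.B x U1 = 0 ∧ L.B x U2 = 0
  comp : ∀ z, L.B z z = 1 → ¬ InB z → (∀ x ∈ RR, L.B x z = 0) → (∀ x ∈ XX, L.B x z = 0) →
    L.val z = 0

/-- five orthonormal units -/
structure ON {Λ : Type*} [AddCommGroup Λ] (L : Lat Λ) (a b c d e : Λ) : Prop where
  a1 : L.B a a = 1
  b1 : L.B b b = 1
  c1 : L.B c c = 1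
  d1 : L.B d d = 1
  e1 : L.B e e = 1
  ab : L.B a b = 0
  ac : L.B a c = 0
  ad : L.B a d = 0
  ae : L.B a e = 0
  bc : L.B b c = 0
  bd : L.B b d = 0
  be : L.B b e = 0
  cd : L.B c d = 0
  ce : L.B c e = 0
  de : L.B d e = 0

namespace Dat
variable {Λ : Type*} [AddCommGroup Λ] {L : Lat Λ} {h : ℤ} (D : Dat L h)

theorem bad {a b c x : Λ} (ha : L.B a a = 1) (hb : L.B b b = 1) (hc : L.B c c = 1)
    (hx : L.B x x = 1) (ab : L.B a b = 0) (ac : L.B a c = 0) (ax : L.B a x = 0) (bc : L.B b c = 0)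
    (bx : L.B b x = 0) (cx : L.B c x = 0) (e0 : D.U0 = a + b + c) (e1 : D.U1 = x + b + c)
    (e2 : D.U2 = a + b + x) : False := by
  have o0 := D.u0o
  have o1 := D.u1o
  have o2 := D.u2o
  obtain ⟨t0, t1, t2⟩ := D.ut2
  obtain ⟨r0, r1, r2⟩ := D.ru
  rw [e0] at o0 t0 r0
  rw [e1] at o1 t1 r1
  rw [e2] at o2 t2 r2
  simp only [map_add] at o0 o1 o2 t0 t1 t2 r0 r1 r2
  have l1 := L.le1 L.one1 hb
  have l2 := L.ne_two D.t22 D.d2 hb
  have l3 := (L.bes4 D.T2 ha hb hc hx ab ac ax bc bx cx).2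
  rcases (by omega : L.B D.T2 b = 1 ∨ L.B D.T2 b = -1) with k | k
  · have := D.rb b hb (by_contra fun hn => by have := D.nb b hb hn; omega) _ D.rm
    omega
  · rw [k, (by omega : L.B D.T2 a = 1), (by omega : L.B D.T2 c = 1), (by omega : L.B D.T2 x = 1),
      D.t22] at l3
    have l4 := congrArg (L.B L.one) (l3 (by norm_num))
    rw [L.symm, D.t2o] at l4
    simp only [map_add, map_zsmul, smul_eq_mul] at l4
    omega

theorem stepU' {a b c : Λ} (ha : L.B a a = 1) (hb : L.B b b = 1) (hc : L.B c c = 1)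
    (ab : L.B a b = 0) (ac : L.B a c = 0) (bc : L.B b c = 0) (e0 : D.U0 = a + b + c)
    (h1 : L.B D.U1 a = 0) (h2 : L.B D.U1 b = 1) (h3 : L.B D.U1 c = 1) :
    ∃ X0 X1 X2 Y1 Y2, ON L X0 X1 X2 Y1 Y2 ∧ D.U0 = X0 + Y1 + Y2 ∧ D.U1 = X1 + Y1 + Y2 ∧
      D.U2 = X2 + Y1 + Y2 := by
  obtain ⟨x, e1⟩ : ∃ x, D.U1 = x + b + c := ⟨D.U1 - b - c, by abel⟩
  have u11 := D.u11
  have u02 := D.u02
  have u12 := D.u12
  have cb := L.symm c b
  have ba := L.symm b a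
  have ca := L.symm c a
  have xb := L.symm x b
  have xc := L.symm x c
  have xa := L.symm x a
  rw [e1] at h1 h2 h3 u11 u12
  rw [e0] at u02
  simp only [map_add, AddMonoidHom.add_apply] at h1 h2 h3 u11 u12 u02
  have hx : L.B x x = 1 := by omega
  obtain ⟨l1, l2⟩ := L.bes4 D.U2 ha hb hc hx ab ac (by omega) bc (by omega) (by omega)
  rw [D.u22] at l1 l2
  have k1 : L.B D.U2 a = L.B D.U2 x := by omega
  have k2 : L.B D.U2 b ≤ 1 := by nlinarith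
  have k3 : L.B D.U2 c ≤ 1 := by nlinarith
  have k4 : L.B D.U2 a ≤ 1 := by nlinarith
  rcases (by omega : L.B D.U2 a = 0 ∨ L.B D.U2 a = 1) with k | k
  · obtain ⟨y, e2⟩ : ∃ y, D.U2 = y + b + c := ⟨D.U2 - b - c, by abel⟩
    have u22 := D.u22
    have k5 : L.B D.U2 b = 1 := by omega
    have k6 : L.B D.U2 c = 1 := by omega
    have k7 : L.B D.U2 x = 0 := by omega
    rw [e2] at u22 k k5 k6 k7
    simp only [map_add, AddMonoidHom.add_apply] at u22 k k5 k6 k7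
    have yb := L.symm y b
    have yc := L.symm y c
    have ya := L.symm y a
    have yx := L.symm y x
    exact ⟨a, x, y, b, c, by constructor <;> omega, e0, e1, e2⟩
  · exfalso
    rcases (by omega : L.B D.U2 b = 1 ∨ L.B D.U2 b = 0) with k5 | k5
    · rw [← k1, k, k5, (by omega : L.B D.U2 c = 0)] at l2
      exact D.bad ha hb hc hx ab ac (by omega) bc (by omega) (by omega) e0 e1
        (by simpa using l2 (by norm_num))
    · rw [← k1, k, k5, (by omega : L.B D.U2 c = 1)] at l2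
      exact D.bad ha hc hb hx ac ab (by omega) (by omega) (by omega) (by omega)
        (by rw [e0]; abel) (by rw [e1]; abel) (by simpa using l2 (by norm_num))

theorem stepU : ∃ X0 X1 X2 Y1 Y2, ON L X0 X1 X2 Y1 Y2 ∧ D.U0 = X0 + Y1 + Y2 ∧
    D.U1 = X1 + Y1 + Y2 ∧ D.U2 = X2 + Y1 + Y2 := by
  obtain ⟨a, b, c, ha, hb, hc, ab, ac, bc, e⟩ := L.dec3 D.u00
  have u := D.u01
  rw [e] at u
  simp only [map_add] at u
  have f : ∀ z, L.B z z = 1 → L.B D.U1 z ≤ 1 := fun z hz => by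
    have := L.nonneg (D.U1 - L.B D.U1 z • z)
    rw [L.peel _ hz, D.u11] at this
    nlinarith
  have fa := f a ha
  have fb := f b hb
  have fc := f c hc
  have cb := L.symm c b
  have ba := L.symm b a
  have ca := L.symm c a
  rcases (by omega : L.B D.U1 a = 0 ∨ L.B D.U1 b = 0 ∨ L.B D.U1 c = 0) with k | k | k
  · exact D.stepU' ha hb hc ab ac bc e k (by omega) (by omega)
  · exact D.stepU' hb ha hc (by omega) bc ac (by rw [e]; abel) k (by omega) (by omega)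
  · exact D.stepU' hc ha hb (by omega) (by omega) ab (by rw [e]; abel) k (by omega) (by omega)

theorem stepY' (h0 : h ≠ 0) {X0 X1 X2 Y1 Y2 : Λ} (o : ON L X0 X1 X2 Y1 Y2)
    (e0 : D.U0 = X0 + Y1 + Y2) (e1 : D.U1 = X1 + Y1 + Y2) (e2 : D.U2 = X2 + Y1 + Y2)
    (i1 : D.InB Y1) (k1 : L.B D.T1 Y1 + L.B D.T1 Y2 = 0) (k2 : L.B D.T2 Y1 + L.B D.T2 Y2 = 1)
    (k3 : L.B D.T3 Y1 + L.B D.T3 Y2 = 1) : D.InB Y2 := by
  by_contra i2
  obtain ⟨n1, n2, n3⟩ := D.nb _ o.e1 i2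
  have v1 := D.inb _ o.d1 i1
  rw [(by omega : L.B D.T1 Y1 = 0), (by omega : L.B D.T2 Y1 = 1),
    (by omega : L.B D.T3 Y1 = 1)] at v1
  obtain ⟨d0, d1, d2⟩ := D.ud
  obtain ⟨w0, w1, w2⟩ := D.uv
  have q := D.up
  have r1 := L.ratio o.d1 o.e1 o.a1 (by rw [← d0, e0]; congr 1; abel)
    (by rw [← w0, e0]; congr 1; abel) (by rw [← q, e0]; congr 1; abel)
  have r2 := L.ratio o.a1 o.e1 o.d1 (by rw [← d0, e0]; congr 1; abel)
    (by rw [← w0, e0]; congr 1; abel) (by rw [← q, e0]; congr 1; abel)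
  rw [e0] at d0 w0
  rw [e1] at d1 w1
  rw [e2] at d2 w2
  simp only [map_add] at d0 d1 d2 w0 w1 w2
  have v2 : L.val Y2 = 0 := by
    refine D.comp _ o.e1 i2 (fun x hx => ?_) fun x hx => ?_
    · obtain ⟨a1, a2, a3, a4⟩ := D.rr x hx
      have a5 := D.rb _ o.d1 i1 x hx
      obtain ⟨b1, b2⟩ := L.bes4 x o.a1 o.b1 o.c1 o.e1 o.ab o.ac o.ae o.bc o.be o.ce
      rw [e0, e1, e2] at a4
      simp only [map_add, a5, add_zero] at a4
      rw [a1] at b1 b2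
      rcases a4 with ⟨c0, c1, c2⟩ | ⟨c0, c1, c2, c3⟩
      · by_contra hz
        rw [(by omega : L.B x X0 = -L.B x Y2), (by omega : L.B x X1 = -L.B x Y2),
          (by omega : L.B x X2 = -L.B x Y2)] at b1 b2
        have b3 := b2 (by linarith [(one_le_sq_iff_one_le_abs _).mpr (Int.one_le_abs hz)])
        have b4 := congrArg L.deg b3
        have b5 := congrArg L.val b3
        simp only [map_add, map_zsmul, smul_eq_mul, a2, a3] at b4 b5
        have b6 : L.deg Y2 = 3 * L.deg X0 := mul_left_cancel₀ hz (by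
          rw [(by omega : L.deg X1 = L.deg X0), (by omega : L.deg X2 = L.deg X0)] at b4
          linear_combination -b4)
        have b7 : L.val Y2 = 3 * L.val X0 :=
          mul_right_cancel₀ (L.deg0 _ o.a1) (by rw [b6] at r2; linear_combination -r2)
        rw [(by omega : L.val X1 = L.val X0), (by omega : L.val X2 = L.val X0), b7] at b5
        exact h0 (by linarith)
      · exact sq1 c0 c1 c2 c3 b1
    · obtain ⟨a1, c0, c1, c2⟩ := D.xx x hx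
      have a5 := D.xb _ o.d1 i1 x hx
      obtain ⟨b1, -⟩ := L.bes4 x o.a1 o.b1 o.c1 o.e1 o.ab o.ac o.ae o.bc o.be o.ce
      rw [e0] at c0
      rw [e1] at c1
      rw [e2] at c2
      simp only [map_add, a5, add_zero] at c0 c1 c2
      rw [(by omega : L.B x X0 = -L.B x Y2), (by omega : L.B x X1 = -L.B x Y2),
        (by omega : L.B x X2 = -L.B x Y2), a1] at b1
      exact sq0 (by linarith)
  rw [v2, zero_mul] at r1
  rcases mul_eq_zero.mp r1 with r | r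
  · exact h0 (by linarith)
  · exact L.deg0 _ o.e1 r

theorem stepY (h0 : h ≠ 0) : ∃ Y1 Y2 γ, L.B Y1 Y1 = 1 ∧ L.B Y2 Y2 = 1 ∧ L.B Y1 Y2 = 0 ∧
    D.InB Y1 ∧ D.InB Y2 ∧ L.B L.one Y1 = 0 ∧ L.B L.one Y2 = 0 ∧ L.g = γ * (2 * h - 1) ^ 2 ∧
    L.deg Y1 = -γ * L.val Y1 ∧ L.deg Y2 = -γ * L.val Y2 ∧ L.B D.T1 Y1 + L.B D.T1 Y2 = 0 ∧
    L.B D.T2 Y1 + L.B D.T2 Y2 = 1 ∧ L.B D.T3 Y1 + L.B D.T3 Y2 = 1 := by
  obtain ⟨X0, X1, X2, Y1, Y2, o, e0, e1, e2⟩ := D.stepU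
  have o0 := D.u0o
  have o1 := D.u1o
  have o2 := D.u2o
  obtain ⟨d0, d1, d2⟩ := D.ud
  obtain ⟨w0, w1, w2⟩ := D.uv
  obtain ⟨r0, r1, r2⟩ := D.ru
  have q := D.up
  have s1 := L.ratio o.a1 o.d1 o.e1 (e0 ▸ d0) (e0 ▸ w0) (e0 ▸ q)
  have s2 := L.ratio o.a1 o.e1 o.d1 (by rw [← d0, e0]; congr 1; abel)
    (by rw [← w0, e0]; congr 1; abel) (by rw [← q, e0]; congr 1; abel)
  rw [e0] at o0 d0 w0 r0
  rw [e1] at o1 d1 w1 r1
  rw [e2] at o2 d2 w2 r2
  simp only [map_add] at o0 o1 o2 d0 d1 d2 w0 w1 w2 r0 r1 r2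
  have b1 := (L.bes4 L.one o.a1 o.b1 o.c1 o.d1 o.ab o.ac o.ad o.bc o.bd o.cd).1
  have b2 := (L.bes2 L.one o.d1 o.e1 o.de).1
  rw [L.one1] at b1 b2
  rw [(by omega : L.B L.one X1 = L.B L.one X0), (by omega : L.B L.one X2 = L.B L.one X0)] at b1
  have c0 : L.B L.one X0 = 0 := sq0 (by linarith [sq_nonneg (L.B L.one Y1)])
  rw [(by omega : L.B L.one Y2 = -L.B L.one Y1)] at b2
  have c1 : L.B L.one Y1 = 0 := sq0 (by linarith)
  have tx : ∀ T (n : ℤ), L.B T T = 4 → L.B T L.one = 1 → L.deg T = 0 →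
      L.B T D.U0 = n ∧ L.B T D.U1 = n ∧ L.B T D.U2 = n → L.B T Y1 + L.B T Y2 = n := by
    rintro T n t1 t2 t3 ⟨t4, t5, t6⟩
    rw [e0] at t4
    rw [e1] at t5
    rw [e2] at t6
    simp only [map_add] at t4 t5 t6
    obtain ⟨b3, b4⟩ := L.bes4 T L.one1 o.a1 o.b1 o.c1 c0 (by omega) (by omega) o.ab o.ac o.bc
    have := L.ne_two t1 t3 o.a1
    rw [t1, t2, (by omega : L.B T X1 = L.B T X0), (by omega : L.B T X2 = L.B T X0)] at b4
    rcases (by omega : L.B T X0 = 0 ∨ L.B T X0 = 1 ∨ L.B T X0 = -1) with k | k | k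
    · omega
    all_goals
      rw [k] at b4
      have := congrArg L.deg (b4 (by norm_num))
      simp only [map_add, map_zsmul, smul_eq_mul, L.deg1] at this
      omega
  have k1 := tx _ _ D.t11 D.t1o D.d1 D.ut1
  have k2 := tx _ _ D.t22 D.t2o D.d2 D.ut2
  have k3 := tx _ _ D.t33 D.t3o D.d3 D.ut3
  obtain ⟨i1, i2⟩ : D.InB Y1 ∧ D.InB Y2 := by
    by_cases i1 : D.InB Y1
    · exact ⟨i1, D.stepY' h0 o e0 e1 e2 i1 k1 k2 k3⟩
    · have i2 : D.InB Y2 := by_contra fun i2 => by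
        have := D.nb _ o.d1 i1
        have := D.nb _ o.e1 i2
        omega
      refine ⟨D.stepY' h0 (Y1 := Y2) ⟨o.a1, o.b1, o.c1, o.e1, o.d1, o.ab, o.ac, o.ae, o.ad, o.bc,
        o.be, o.bd, o.ce, o.cd, (L.symm _ _).trans o.de⟩ (by rw [e0]; abel) (by rw [e1]; abel)
        (by rw [e2]; abel) i2 (by omega) (by omega) (by omega), i2⟩
  have v1 := D.inb _ o.d1 i1
  have v2 := D.inb _ o.e1 i2
  have v0 : L.val X0 = -2 * h := by
    linear_combination w0 - v1 - v2 + (2 * h - 1) * k1 - h * k2 - h * k3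
  have a1 := D.rb _ o.d1 i1 _ D.rm
  have a2 := D.rb _ o.e1 i2 _ D.rm
  obtain ⟨t1, t2, t3, -⟩ := D.rr _ D.rm
  obtain ⟨y, hy, -, -, ey⟩ := L.rest3 (a := -X0) (b := X1) (c := -X2) t1 (by simpa using o.a1) o.b1
    (by simpa using o.c1) (by simpa using o.ab) (by simpa using o.ac) (by simpa using o.bc)
    (by rw [map_neg]; omega) (by omega) (by rw [map_neg]; omega)
  have rp := D.rp
  rw [ey] at t2 t3 rp
  simp only [map_add, map_neg] at t2 t3 rp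
  have f0 := L.pr_eq _ o.a1
  have f1 := L.pr_eq _ o.b1
  have f2 := L.pr_eq _ o.c1
  have f3 := L.pr_eq _ hy
  rw [(by omega : L.deg X1 = L.deg X0), (by omega : L.val X1 = -2 * h)] at f1
  rw [(by omega : L.deg X2 = L.deg X0), (by omega : L.val X2 = -2 * h)] at f2
  rw [(by omega : L.deg y = L.deg X0), (by omega : L.val y = 6 * h)] at f3
  rw [v0] at f0 s1 s2
  push_cast at f0 f1 f2 f3
  have f4 : (2 * h - 1) ^ 2 * L.deg X0 = 2 * h * L.g := by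
    have h1 : (h : ℂ) ≠ 0 := by exact_mod_cast h0
    have : ((2 * h - 1) ^ 2 * L.deg X0 : ℂ) = 2 * h * L.g := mul_left_cancel₀ h1 (by
      linear_combination (-L.deg X0 / 16 : ℂ) * rp + (L.g / 16 : ℂ) * (-f0 + f1 - f2 + f3))
    exact_mod_cast this
  have c2 : IsCoprime ((2 * h - 1) ^ 2) (2 * h) :=
    (show IsCoprime (2 * h - 1) (2 * h) from ⟨-1, 1, by ring⟩).pow_left
  obtain ⟨γ, hγ⟩ := c2.dvd_of_dvd_mul_left ⟨_, f4.symm⟩
  have f5 : L.deg X0 = 2 * h * γ := mul_left_cancel₀ (pow_ne_zero 2 (by omega : 2 * h - 1 ≠ 0))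
    (by rw [f4, hγ]; ring)
  rw [f5] at s1 s2
  have h2 : 2 * h ≠ 0 := by omega
  exact ⟨Y1, Y2, γ, o.d1, o.e1, o.de, i1, i2, c1, by omega, by rw [hγ]; ring,
    mul_left_cancel₀ h2 (by linear_combination -s1),
    mul_left_cancel₀ h2 (by linear_combination -s2), k1, k2, k3⟩

theorem bd {z : Λ} (hz : L.B z z = 1) : (-1 ≤ L.B D.T1 z ∧ L.B D.T1 z ≤ 1) ∧
    (-1 ≤ L.B D.T2 z ∧ L.B D.T2 z ≤ 1) ∧ (-1 ≤ L.B D.T3 z ∧ L.B D.T3 z ≤ 1) ∧
    (-1 ≤ L.B D.T1 z - L.B D.T2 z ∧ L.B D.T1 z - L.B D.T2 z ≤ 1) ∧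
    (-1 ≤ L.B D.T1 z - L.B D.T3 z ∧ L.B D.T1 z - L.B D.T3 z ≤ 1) ∧
    (-1 ≤ L.B D.T2 z - L.B D.T3 z ∧ L.B D.T2 z - L.B D.T3 z ≤ 1) := by
  have f : ∀ S T, L.B S S = 4 → L.B T T = 4 → L.B S T = 2 → L.deg S = 0 → L.deg T = 0 →
      -1 ≤ L.B S z - L.B T z ∧ L.B S z - L.B T z ≤ 1 := fun S T h1 h2 h3 h4 h5 => by
    simpa using L.ne_two (x := S - T) (by simp [h1, h2, h3, L.symm T S]) (by simp [h4, h5]) hz
  exact ⟨L.ne_two D.t11 D.d1 hz, L.ne_two D.t22 D.d2 hz, L.ne_two D.t33 D.d3 hz,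
    f _ _ D.t11 D.t22 D.t12 D.d1 D.d2, f _ _ D.t11 D.t33 D.t13 D.d1 D.d3,
    f _ _ D.t22 D.t33 D.t23 D.d2 D.d3⟩

theorem vl {z : Λ} (hz : L.B z z = 1) {a b c : ℤ} (h1 : L.B D.T1 z = a) (h2 : L.B D.T2 z = b)
    (h3 : L.B D.T3 z = c) (h4 : a ≠ 0 ∨ b ≠ 0 ∨ c ≠ 0) :
    L.val z = -(2 * h - 1) * a + h * b + h * c := by
  rw [← h1, ← h2, ← h3]
  exact D.inb z hz (by_contra fun hn => by have := D.nb z hz hn; omega)

theorem mainc (hh : 15 ≤ h ∨ h ≤ -13) {a b : Λ} {γ : ℤ} (ha : L.B a a = 1) (hb : L.B b b = 1)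
    (ab : L.B a b = 0) (oa : L.B L.one a = 0) (ob : L.B L.one b = 0)
    (hg : L.g = γ * (2 * h - 1) ^ 2) (da : L.deg a = -γ * L.val a) (db : L.deg b = -γ * L.val b)
    (a1 : L.B D.T1 a = 1) (k1 : L.B D.T1 a + L.B D.T1 b = 0) (k2 : L.B D.T2 a + L.B D.T2 b = 1)
    (k3 : L.B D.T3 a + L.B D.T3 b = 1) : γ = (2 * h - 1) ^ 2 + (2 * h - 1) + 1 ∧
      ∃ x : ℤ, 3 * x ^ 2 = -(2 * h - 1) * (2 * h * (2 * h - 1 - 1)) ^ 2 := by
  have ba := D.bd ha
  have bb := D.bd hb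
  have va := D.vl ha a1 (by omega : L.B D.T2 a = 1) (by omega : L.B D.T3 a = 1) (by omega)
  have vb := D.vl hb (by omega : L.B D.T1 b = -1) (by omega : L.B D.T2 b = 0)
    (by omega : L.B D.T3 b = 0) (by omega)
  obtain ⟨c, hc, c1, -, ec⟩ := L.rest3 (b := a) (c := -b) D.t11 L.one1 ha (by simpa using hb) oa
    (by simpa using ob) (by simpa using ab) D.t1o a1 (by rw [map_neg]; omega)
  obtain ⟨d, e, hd, he, d2, e2, -, -, ed⟩ := L.rest2 D.t22 L.one1 ha oa D.t2o (by omega)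
  have s1 := congrArg (L.B D.T2) ec
  have s2 := congrArg (L.B D.T3) ec
  have s3 := congrArg (L.B D.T1) ed
  have s4 := congrArg (L.B D.T3) ed
  rw [L.symm] at s1 s2 s4
  simp only [map_add, map_neg, D.t12, D.t13, D.t23, D.t1o, D.t2o, D.t3o] at s1 s2 s3 s4
  have bd := D.bd hd
  have be := D.bd he
  have vc := D.vl hc c1 (by omega : L.B D.T2 c = 0) (by omega : L.B D.T3 c = 0) (by omega)
  have vd := D.vl hd (by omega : L.B D.T1 d = 0) d2 (by omega : L.B D.T3 d = 0) (by omega)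
  have ve := D.vl he (by omega : L.B D.T1 e = 0) e2 (by omega : L.B D.T3 e = 0) (by omega)
  have l1 := D.d1
  have l2 := D.d2
  have p1 := D.p1
  have p2 := D.p2
  have pa := L.pr_eq _ ha
  have pb := L.pr_eq _ hb
  have pc := L.pr_eq _ hc
  have pd := L.pr_eq _ hd
  have pe := L.pr_eq _ he
  have g0 : γ ≠ 0 := by rintro rfl; have := L.g0; omega
  rw [ec] at l1 p1
  rw [ed] at l2 p2
  simp only [map_add, map_neg, L.deg1, L.pr1, hg] at l1 l2 p1 p2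
  rw [da] at l1 l2 pa
  rw [db] at l1 pb
  rw [va] at l1 l2 pa
  rw [vb] at l1 pb
  rw [vc] at pc
  rw [vd] at pd
  rw [ve] at pe
  push_cast at p1 p2 pa pb pc pd pe
  have Q0 : (2 * h - 1 : ℂ) ≠ 0 := by exact_mod_cast (by omega : 2 * h - 1 ≠ 0)
  have pb' : γ * L.pr b = -(2 * h - 1) := mul_left_cancel₀ Q0 (by linear_combination -pb)
  obtain ⟨r1, r2⟩ := main8 (γ := γ) (c := L.deg c) (d := L.deg d) (e := L.deg e) rfl hh g0
    (by linarith) (by linarith) (by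
      have : ((γ - 1 + (2 * h - 1)) * L.deg c * (2 * h - 1) + (2 * h - 1) ^ 3 * γ : ℂ) =
          (2 * h - 1 + 1) ^ 2 * (2 * h - 1 - 1) * L.deg c := mul_left_cancel₀ Q0 (by
        linear_combination (L.deg c : ℂ) * p1 + (2 * h - 1 : ℂ) ^ 2 * L.deg c * (pa + pb') -
          (2 * h - 1 : ℂ) ^ 2 * γ * pc)
      exact_mod_cast this) (by
      have : ((γ - 1) * L.deg d * L.deg e + h ^ 2 * (L.deg d + L.deg e) * γ : ℂ) =
          (2 * h - 1 + 1) * (2 * h - 1 + 3) * L.deg d * L.deg e :=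
        mul_left_cancel₀ (pow_ne_zero 2 Q0) (by
        linear_combination (L.deg d * L.deg e : ℂ) * p2 +
          (2 * h - 1 : ℂ) ^ 2 * (L.deg d * L.deg e * pa - γ * L.deg e * pd - γ * L.deg d * pe))
      exact_mod_cast this)
  exact ⟨r1, _, r2⟩

theorem exo {p n : ℕ} (hp : p.Prime) (pn : p ≠ 2) (hh : 15 ≤ h ∨ h ≤ -13) (ho : h % 2 = 1)
    (hQ : |2 * h - 1| = (p : ℤ) ^ n) {Z Z' x y : Λ} {γ : ℤ} (hZ : L.B Z Z = 1)
    (hZ' : L.B Z' Z' = 1) (hx : L.B x x = 1) (hy : L.B y y = 1) (oZ' : L.B L.one Z' = 0)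
    (ox : L.B L.one x = 0) (oy : L.B L.one y = 0) (hg : L.g = γ * (2 * h - 1) ^ 2)
    (dZ : L.deg Z = -γ * L.val Z) (dZ' : L.deg Z' = -γ * L.val Z') (z1 : L.B D.T1 Z = 0)
    (z2 : L.B D.T2 Z = 1) (z3 : L.B D.T3 Z = 0) (w1 : L.B D.T1 Z' = 0) (w2 : L.B D.T2 Z' = 0)
    (w3 : L.B D.T3 Z' = 1) (x1 : L.B D.T1 x = 1) (x2 : L.B D.T2 x = 1) (y2 : L.B D.T2 y = 1)
    (e2 : D.T2 = L.one + Z + x + y) : False := by
  have s3 := congrArg (L.B D.T1) e2
  have s4 := congrArg (L.B D.T3) e2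
  rw [L.symm] at s4
  simp only [map_add, D.t12, D.t23, D.t1o, D.t3o] at s3 s4
  have bx := D.bd hx
  have by' := D.bd hy
  have vZ := D.vl hZ z1 z2 z3 (by omega)
  have vZ' := D.vl hZ' w1 w2 w3 (by omega)
  have y1 : L.B D.T1 y = 0 := by omega
  have g0 : 0 < γ := by
    have := L.g0
    rw [hg] at this
    exact pos_of_mul_pos_left this (sq_nonneg _)
  have l2 := D.d2
  have p2 := D.p2
  rw [e2] at l2 p2
  simp only [map_add, L.deg1, L.pr1] at l2 p2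
  have pZ := L.gpr hZ (w := -(2 * h - 1) ^ 2) (by rw [dZ, hg]; ring)
  rw [vZ] at dZ pZ
  rw [vZ'] at dZ'
  have Q0 : (2 * h - 1 : ℂ) ≠ 0 := by exact_mod_cast (by omega : 2 * h - 1 ≠ 0)
  rcases (by omega : L.B D.T3 x = 1 ∨ L.B D.T3 x = 0) with x3 | x3
  · have vx := D.vl hx x1 x2 x3 (by omega)
    have vy := D.vl hy y1 y2 (by omega : L.B D.T3 y = 0) (by omega)
    obtain ⟨b, c, hb, hc, b1, c1, -, -, e1⟩ := L.rest2 D.t11 L.one1 hx ox D.t1o x1
    have s1 := congrArg (L.B D.T2) e1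
    have s2 := congrArg (L.B D.T3) e1
    rw [L.symm] at s1 s2
    simp only [map_add, D.t12, D.t13, D.t2o, D.t3o] at s1 s2
    have bb := D.bd hb
    have bc := D.bd hc
    have vb := D.vl hb b1 (by omega : L.B D.T2 b = 0) (by omega : L.B D.T3 b = 0) (by omega)
    have vc := D.vl hc c1 (by omega : L.B D.T2 c = 0) (by omega : L.B D.T3 c = 0) (by omega)
    obtain ⟨wx, ex⟩ := L.om x hx
    obtain ⟨wy, ey⟩ := L.om y hy
    obtain ⟨wb, eb⟩ := L.om b hb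
    obtain ⟨wc, ec⟩ := L.om c hc
    have px := L.gpr hx ex.symm
    have py := L.gpr hy ey.symm
    have pb := L.gpr hb eb.symm
    have pc := L.gpr hc ec.symm
    have p1 := D.p1
    rw [e1] at p1
    simp only [map_add, L.pr1] at p1
    have f1 := L.four x
    have f2 := L.four y
    rw [vx] at px ex f1
    rw [vy] at py ey f2
    rw [vb] at pb
    rw [vc] at pc
    rw [hg] at p1 p2 px py pb pc pZ ex ey
    push_cast at p1 p2 px py pb pc pZ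
    refine ex8 hp pn hh hQ g0 (a := L.deg x) (e := L.deg y) (wa := wx) (we := wy) (W := wb + wc)
      (by linear_combination -ex) (by linear_combination -ey) (by linarith) ?_ ?_ (by omega)
      (by omega)
    · have : (γ * (2 * h - 1) ^ 2 + wx - h * (2 * h - 1) ^ 2 + h * wy : ℂ) =
          (2 * h - 1) ^ 2 * (4 * h * (h + 1)) := by linear_combination p2 - px - py - pZ
      exact_mod_cast this
    · have : (γ * (2 * h - 1) ^ 2 + wx - (2 * h - 1) * (wb + wc) : ℂ) =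
          (2 * h - 1) * (4 * h ^ 2 * (2 * h - 2)) := by linear_combination p1 - px - pb - pc
      exact_mod_cast this
  · have y3 : L.B D.T3 y = 1 := by omega
    have vx := D.vl hx x1 x2 x3 (by omega)
    have vy := D.vl hy y1 y2 y3 (by omega)
    obtain ⟨w, hw, u3, ow, e3⟩ := L.rest3 D.t33 L.one1 hy hZ' oy oZ' (L.orth_of hy hZ' y2 w2)
      D.t3o y3 w3
    have s1 := congrArg (L.B D.T1) e3
    have s2 := congrArg (L.B D.T2) e3
    simp only [map_add, D.t13, D.t23, D.t1o, D.t2o] at s1 s2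
    have u2 : L.B D.T2 w = 0 := by omega
    obtain ⟨c, hc, c1, -, e1⟩ := L.rest3 D.t11 L.one1 hx hw ox ow (L.orth_of hx hw x2 u2)
      D.t1o x1 (by omega)
    have s5 := congrArg (L.B D.T2) e1
    have s6 := congrArg (L.B D.T3) e1
    rw [L.symm] at s5 s6
    simp only [map_add, D.t12, D.t13, D.t2o, D.t3o] at s5 s6
    have vw := D.vl hw (by omega : L.B D.T1 w = 1) u2 u3 (by omega)
    have vc := D.vl hc c1 (by omega : L.B D.T2 c = 0) (by omega : L.B D.T3 c = 0) (by omega)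
    have l1 := D.d1
    have l3 := D.d3
    have p1 := D.p1
    rw [e1] at l1 p1
    rw [e3] at l3
    simp only [map_add, L.deg1, L.pr1] at l1 l3 p1
    have px := L.pr_eq _ hx
    have py := L.pr_eq _ hy
    have pw := L.pr_eq _ hw
    have pc := L.pr_eq _ hc
    rw [vx] at px
    rw [vy] at py
    rw [vw, (by linarith : L.deg w = L.deg x)] at pw
    rw [vc, (by linarith : L.deg c = -1 - 2 * L.deg x)] at pc
    rw [hg] at p1 p2 pZ
    push_cast at p1 p2 pZ px py pw pc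
    refine ex7 (γ := γ) (a := L.deg x) (d := L.deg y) hh (L.deg0 _ hx) (by linarith) ?_ ?_
    · have : (γ * (2 * h - 1) * (L.deg x - h + 1) ^ 2 : ℂ) =
          4 * h ^ 2 * (h - 1) * (L.deg x * (2 * L.deg x + 1)) := mul_left_cancel₀ Q0 (by
        linear_combination (L.deg x * (2 * L.deg x + 1) / 2 : ℂ) * p1 -
          (γ * (2 * h - 1) ^ 2 / 2 : ℂ) * ((2 * L.deg x + 1) * (px + pw) - L.deg x * pc))
      exact_mod_cast this
    · have : (L.deg x * L.deg y * γ + (h - 1) ^ 2 * L.deg y * γ + 4 * h ^ 2 * L.deg x * γ : ℂ) =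
          h * (4 * h + 5) * L.deg x * L.deg y := mul_left_cancel₀ (pow_ne_zero 2 Q0) (by
        linear_combination (L.deg x * L.deg y : ℂ) * (p2 - pZ) -
          (γ * (2 * h - 1) ^ 2 : ℂ) * (L.deg y * px + L.deg x * py))
      exact_mod_cast this

theorem exo' {p n : ℕ} (hp : p.Prime) (p2 : p ≠ 2) (hh : 15 ≤ h ∨ h ≤ -13) (ho : h % 2 = 1)
    (hQ : |2 * h - 1| = (p : ℤ) ^ n) {Z Z' : Λ} {γ : ℤ} (hZ : L.B Z Z = 1)
    (hZ' : L.B Z' Z' = 1) (oZ : L.B L.one Z = 0) (oZ' : L.B L.one Z' = 0)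
    (hg : L.g = γ * (2 * h - 1) ^ 2)
    (dZ : L.deg Z = -γ * L.val Z) (dZ' : L.deg Z' = -γ * L.val Z') (z1 : L.B D.T1 Z = 0)
    (z2 : L.B D.T2 Z = 1) (z3 : L.B D.T3 Z = 0) (w1 : L.B D.T1 Z' = 0) (w2 : L.B D.T2 Z' = 0)
    (w3 : L.B D.T3 Z' = 1) : False := by
  obtain ⟨x, y, hx, hy, x2, y2, ox, oy, e2⟩ := L.rest2 D.t22 L.one1 hZ oZ D.t2o z2
  have s3 := congrArg (L.B D.T1) e2
  simp only [map_add, D.t12, D.t1o] at s3
  have bx := D.bd hx
  have by' := D.bd hy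
  rcases (by omega : L.B D.T1 x = 1 ∨ L.B D.T1 y = 1) with k | k
  · exact D.exo hp p2 hh ho hQ hZ hZ' hx hy oZ' ox oy hg dZ dZ' z1 z2 z3 w1 w2 w3 k x2 y2 e2
  · exact D.exo hp p2 hh ho hQ hZ hZ' hy hx oZ' oy ox hg dZ dZ' z1 z2 z3 w1 w2 w3 k y2 x2
      (by rw [e2]; abel)

include D in
theorem final {p n : ℕ} (hp : p.Prime) (p2 : p ≠ 2) (hh : 15 ≤ h ∨ h ≤ -13) (ho : h % 2 = 1)
    (hQ : |2 * h - 1| = (p : ℤ) ^ n) :
    L.g = ((2 * h - 1) ^ 2 + (2 * h - 1) + 1) * (2 * h - 1) ^ 2 ∧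
      ∃ x : ℤ, 3 * x ^ 2 = -(2 * h - 1) * (2 * h * (2 * h - 1 - 1)) ^ 2 := by
  obtain ⟨a, b, γ, ha, hb, ab, ia, ib, oa, ob, hg, da, db, k1, k2, k3⟩ := D.stepY (by omega)
  have ba := D.bd ha
  have bb := D.bd hb
  rcases (by omega : L.B D.T1 a = 1 ∨ L.B D.T1 b = 1 ∨ L.B D.T1 a = 0) with k | k | k
  · obtain ⟨r1, r2⟩ := D.mainc hh ha hb ab oa ob hg da db k k1 k2 k3
    exact ⟨by rw [hg, r1], r2⟩
  · obtain ⟨r1, r2⟩ := D.mainc hh hb ha ((L.symm _ _).trans ab) ob oa hg db da k (by omega)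
      (by omega) (by omega)
    exact ⟨by rw [hg, r1], r2⟩
  · exfalso
    have va := D.inb _ ha ia
    have vb := D.inb _ hb ib
    rcases (by omega : L.B D.T2 a = 1 ∨ L.B D.T2 a = 0) with j | j <;>
      rcases (by omega : L.B D.T3 a = 1 ∨ L.B D.T3 a = 0) with i | i
    · rw [(by omega : L.B D.T1 b = 0), (by omega : L.B D.T2 b = 0), (by omega : L.B D.T3 b = 0)] at vb
      exact L.deg0 _ hb (by rw [db, vb]; ring)
    · exact D.exo' hp p2 hh ho hQ ha hb oa ob hg da db k j i (by omega) (by omega) (by omega)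
    · exact D.exo' hp p2 hh ho hQ hb ha ob oa hg db da (by omega) (by omega) (by omega) k j i
    · rw [k, j, i] at va
      exact L.deg0 _ ha (by rw [da, va]; ring)

end Dat
end Cfsg.Agent.JT
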