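import Cfsg.Agent.JT.L
import Cfsg.Agent.JT.Lat
import Cfsg.Agent.JT.Ifc

/-! The 2-section isometry for `C(t) = ⟨t⟩ × L`. -/

set_option autoImplicit false
set_option linter.unusedSectionVars false

namespace Cfsg.Agent.JT

open Cfsg.Agent.PLoc Cfsg.Agent.Inv Cfsg.Agent.Char Cfsg.Agent.Dih Cfsg.Agent.Blk Subgroup Finset
open scoped ComplexConjugate

namespace JT
section
variable {G L : Type*} [Group G] [Group L] {t : G} {j : L →* G} (J : JT t j)
include J

theorem tt : t * t = 1 := sq_of_ord2 J.ot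

theorem ne (y z : L) : j y ≠ t * j z := fun e => J.nt (y * z⁻¹) (by simp [e])

theorem tpow (y : L) {n : ℕ} (hn : ¬ 2 ∣ n) : (t * j y) ^ n = t * j (y ^ n) := by
  obtain ⟨m, rfl⟩ : Odd n := odd_iff_not_dvd.2 hn
  rw [Commute.mul_pow (J.comm y).symm, map_pow, pow_succ t, pow_mul, sq, J.tt, one_pow, one_mul]

theorem ord_j (y : L) : orderOf (j y) = orderOf y := orderOf_injective j J.inj y

theorem tj_mul (y z : L) : t * j y * (t * j z) = j (y * z) := by
  rw [mul_assoc, ← mul_assoc (j y), J.comm, ← mul_assoc, ← mul_assoc, J.tt, one_mul, map_mul]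

theorem ord_tj (y : L) : orderOf (t * j y) = 2 ↔ y * y = 1 := by
  rw [ord2_iff, J.tj_mul, map_eq_one_iff j J.inj, and_iff_left]
  intro e
  exact J.ne 1 y (by rw [e, map_one])

/-- conjugation between elements of the section centralizes `t` -/
theorem sec_ti [Finite L] {y z : L} (hy : ¬ 2 ∣ orderOf y) (hz : ¬ 2 ∣ orderOf z) {g : G}
    (e : g * (t * j y) * g⁻¹ = t * j z) : g * t = t * g := by
  have h1 : ¬ 2 ∣ orderOf y * orderOf z := fun h => (Nat.prime_two.dvd_mul.1 h).elim hy hz
  have := congrArg (· ^ (orderOf y * orderOf z)) e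
  simp only [conj_pow, J.tpow _ h1] at this
  rw [pow_mul, pow_orderOf_eq_one, one_pow, mul_comm (orderOf y), pow_mul, pow_orderOf_eq_one,
    one_pow, map_one, mul_one] at this
  rw [← mul_inv_eq_iff_eq_mul, this]

/-- `j` into the centralizer -/
def jC : L →* centralizer ({t} : Set G) :=
  j.codRestrict _ fun y => mem_centralizer_singleton_iff.2 (J.comm y)

/-- `t` in the centralizer -/
def tC (_ : JT t j) : centralizer ({t} : Set G) := ⟨t, mem_centralizer_singleton_iff.2 rfl⟩

theorem covC (c : centralizer ({t} : Set G)) : ∃ y, c = J.jC y ∨ c = J.tC * J.jC y := by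
  obtain ⟨y, e | e⟩ := J.cov c (mem_centralizer_singleton_iff.1 c.2)
  · exact ⟨y, Or.inl (Subtype.ext e)⟩
  · exact ⟨y, Or.inr (Subtype.ext e)⟩

theorem bij : Function.Bijective (Sum.elim J.jC (fun y => J.tC * J.jC y) :
    L ⊕ L → centralizer ({t} : Set G)) := by
  refine ⟨?_, fun c => ?_⟩
  · rintro (a | a) (b | b) e <;> have e' := congrArg Subtype.val e
    · exact congrArg _ (J.inj e')
    · exact absurd e' (J.ne _ _)
    · exact absurd e'.symm (J.ne _ _)
    · exact congrArg _ (J.inj (mul_left_cancel e'))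
  · obtain ⟨y, e | e⟩ := J.covC c
    · exact ⟨Sum.inl y, e.symm⟩
    · exact ⟨Sum.inr y, e.symm⟩

theorem card_C : Nat.card (centralizer ({t} : Set G)) = 2 * Nat.card L := by
  rw [← Nat.card_eq_of_bijective _ J.bij]
  cases finite_or_infinite L
  · rw [Nat.card_sum, two_mul]
  · simp

theorem sum_C [Fintype L] [Fintype (centralizer ({t} : Set G))]
    (f : centralizer ({t} : Set G) → ℂ) :
    ∑ c, f c = ∑ y, f (J.jC y) + ∑ y, f (J.tC * J.jC y) := by
  rw [← J.bij.sum_comp, Fintype.sum_sum_type]; rfl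

theorem exists_proj : ∃ (π : centralizer ({t} : Set G) →* L) (s : centralizer ({t} : Set G) →* ℂˣ),
    ∀ y, π (J.jC y) = y ∧ π (J.tC * J.jC y) = y ∧ s (J.jC y) = 1 ∧ s (J.tC * J.jC y) = -1 := by
  let e := Equiv.ofBijective _ J.bij
  have e1 : ∀ y, e.symm (J.jC y) = Sum.inl y := fun y => e.symm_apply_eq.2 rfl
  have e2 : ∀ y, e.symm (J.tC * J.jC y) = Sum.inr y := fun y => e.symm_apply_eq.2 rfl
  have m1 : ∀ y z, J.jC y * (J.tC * J.jC z) = J.tC * J.jC (y * z) := fun y z => Subtype.ext (by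
    show j y * (t * j z) = t * j (y * z)
    rw [← mul_assoc, J.comm, mul_assoc, map_mul])
  have m2 : ∀ y z, J.tC * J.jC y * J.jC z = J.tC * J.jC (y * z) := fun y z => by
    rw [mul_assoc, map_mul]
  have m3 : ∀ y z, J.tC * J.jC y * (J.tC * J.jC z) = J.jC (y * z) := fun y z =>
    Subtype.ext (J.tj_mul y z)
  refine ⟨MonoidHom.mk' (fun c => Sum.elim id id (e.symm c)) fun a b => ?_,
    MonoidHom.mk' (fun c => Sum.elim (fun _ => 1) (fun _ => -1) (e.symm c)) fun a b => ?_,
    fun y => by simp [e1, e2]⟩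
  all_goals
    obtain ⟨y, rfl | rfl⟩ := J.covC a <;> obtain ⟨z, rfl | rfl⟩ := J.covC b <;>
      simp only [← map_mul, m1, m2, m3, e1, e2] <;> simp

/-- projection to `L` -/
noncomputable def π : centralizer ({t} : Set G) →* L := J.exists_proj.choose

/-- the sign character -/
noncomputable def sg : centralizer ({t} : Set G) →* ℂˣ := J.exists_proj.choose_spec.choose

@[simp] theorem π_j (y : L) : J.π (J.jC y) = y := (J.exists_proj.choose_spec.choose_spec y).1
@[simp] theorem π_tj (y : L) : J.π (J.tC * J.jC y) = y :=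
  (J.exists_proj.choose_spec.choose_spec y).2.1
@[simp] theorem sg_j (y : L) : J.sg (J.jC y) = 1 := (J.exists_proj.choose_spec.choose_spec y).2.2.1
@[simp] theorem sg_tj (y : L) : J.sg (J.tC * J.jC y) = -1 :=
  (J.exists_proj.choose_spec.choose_spec y).2.2.2

@[simp] theorem coe_j (y : L) : (J.jC y : G) = j y := rfl
@[simp] theorem coe_t : (J.tC : G) = t := rfl

end

variable {G L : Type*} [Group G] [Group L] [Fintype G] [Fintype L] {t : G} {j : L →* G}
  (J : JT t j)

/-- the function `(1 - σ) ⊗ Φ` on the centralizer -/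
noncomputable def th (Φ : L → ℂ) : centralizer ({t} : Set G) → ℂ :=
  ((fun _ => 1) - fun c => (J.sg c : ℂ)) * fun c => Φ (J.π c)

theorem th_j (Φ : L → ℂ) (y : L) : J.th Φ (J.jC y) = 0 := by simp [th]
theorem th_tj (Φ : L → ℂ) (y : L) : J.th Φ (J.tC * J.jC y) = 2 * Φ y := by
  simp only [th, Pi.mul_apply, Pi.sub_apply, sg_tj, π_tj]; norm_num

/-- induction of `(1 - σ) ⊗ Φ` -/
noncomputable def Th (Φ : L → ℂ) : G → ℂ := indFun _ (J.th Φ)

theorem gen_Th {Φ : L → ℂ} (h : IsGeneralizedCharacter L Φ) : IsGeneralizedCharacter G (J.Th Φ) :=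
  ((isGen_one.sub (isCharacter_hom J.sg).isGen).mul (h.comp J.π)).indFun

theorem inner_th [Fintype (centralizer ({t} : Set G))] (Φ : L → ℂ)
    (ψ : centralizer ({t} : Set G) → ℂ) :
    classInner (J.th Φ) ψ = classInner Φ fun y => ψ (J.tC * J.jC y) := by
  simp only [classInner_def, J.sum_C, J.th_j, J.th_tj, J.card_C, zero_mul, sum_const_zero, zero_add,
    mul_assoc, ← mul_sum]
  push_cast
  field_simp

theorem inner_Th (Φ : L → ℂ) {χ : G → ℂ} (hχ : IsClassFunction G χ) :
    classInner (J.Th Φ) χ = classInner Φ fun y => χ (t * j y) := by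
  have := Fintype.ofFinite (centralizer ({t} : Set G))
  rw [Th, classInner_indFun_left _ _ hχ, inner_th]; rfl

theorem Th_one (Φ : L → ℂ) : J.Th Φ 1 = 0 := by
  rw [Th, indFun_one, ← map_one J.jC, J.th_j, mul_zero]

theorem Th_sec {Φ : L → ℂ} (hc : IsClassFunction L Φ) (hv : VE Φ) {y : L} (hy : ¬ 2 ∣ orderOf y) :
    J.Th Φ (t * j y) = 2 * Φ y := by
  rw [← J.th_tj]
  refine indFun_apply_eq_of_forall (((isClassFunction_const 1).sub
    (isCharacter_hom J.sg).isClassFunction).mul (hc.comp J.π)) (J.tC * J.jC y) fun g hg => ?_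
  rw [extendByZero_apply]
  split_ifs with h
  · obtain ⟨z, e | e⟩ := J.covC ⟨_, h⟩ <;> rw [e]
    · exact J.th_j _ _
    · by_cases hz : 2 ∣ orderOf z
      · exact (J.th_tj _ _).trans (by rw [hv z hz, mul_zero])
      · exact absurd (mem_centralizer_singleton_iff.2 (J.sec_ti hy hz (congrArg Subtype.val e))) hg
  · rfl

theorem Th_Th {Φ Ψ : L → ℂ} (hv : VE Φ) (hc : IsClassFunction L Ψ) (hv' : VE Ψ) :
    classInner (J.Th Φ) (J.Th Ψ) = 2 * classInner Φ Ψ := by
  rw [J.inner_Th (χ := J.Th Ψ) _ (isClassFunction_indFun _ _), inner_congr hv (b := (2 : ℂ) • Ψ)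
    fun y hy => J.Th_sec hc hv' hy, classInner_smul_right]
  simp [map_ofNat]

include J in
theorem pair_sec {u : L} (hu : ∀ y, IsConj u y ↔ orderOf y = 2) {y : L} (hy : ¬ 2 ∣ orderOf y) :
    pairFun t (t * j y) = 2 * pairFun u y := by
  classical
  have := Fintype.ofFinite (centralizer ({t} : Set G))
  have ht : ∀ s, IsConj t s ↔ orderOf s = 2 := fun s =>
    ⟨fun e => (Inv.orderOf_isConj e).symm.trans J.ot, J.cls s⟩
  have e1 : pairFun t (t * j y) = ∑ c : centralizer ({t} : Set G),
      classInd t (c : G) * classInd t ((c : G)⁻¹ * (t * j y)) := by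
    rw [pairFun, ← sum_subtype (univ.filter (· ∈ centralizer ({t} : Set G))) (by simp)
      fun c => classInd t c * classInd t (c⁻¹ * (t * j y))]
    refine (sum_subset (subset_univ _) fun x _ hx => ?_).symm
    simp only [classInd, ht, mul_ite, mul_one, mul_zero, ← ite_and]
    refine if_neg fun ⟨a, b⟩ => hx ?_
    have e : x * (t * j y) * x⁻¹ = t * j y⁻¹ := by
      have h1 := sq_of_ord2 a
      have h2 : (t * j y)⁻¹ = t * j y⁻¹ := by
        rw [mul_inv_rev, inv_of_ord2 J.ot, ← map_inv, J.comm]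
      rw [← h2, eq_inv_iff_mul_eq_one]
      rw [inv_of_ord2 b] at h1 ⊢
      simpa only [mul_assoc] using h1
    simpa using mem_centralizer_singleton_iff.2 (J.sec_ti hy (by rwa [orderOf_inv]) e)
  have y2 : orderOf y ≠ 2 := fun e => hy (by rw [e])
  rw [e1, J.sum_C, pairFun, two_mul]
  congr 1 <;> refine sum_congr rfl fun z _ => ?_ <;>
    simp only [classInd, ht, hu, mul_ite, mul_one, mul_zero, ← ite_and, Subgroup.coe_mul, coe_j, coe_t]
  · refine if_congr ?_ rfl rfl
    rw [← map_inv, ← mul_assoc, J.comm, mul_assoc, ← map_mul, J.ord_tj, J.ord_j, ord2_iff (t := _ * _)]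
    refine and_congr_left fun hz => (and_iff_left fun e => y2 ?_).symm
    rwa [← inv_mul_eq_one.1 e]
  · refine if_congr ?_ rfl rfl
    rw [mul_inv_rev, mul_assoc, inv_mul_cancel_left, ← map_inv, ← map_mul, J.ord_tj, J.ord_j,
      ord2_iff (t := z)]
    refine and_congr_right fun hz => (and_iff_left fun e => y2 ?_).symm
    simpa [e] using hz

theorem Th_pair {u : L} (hu : ∀ y, IsConj u y ↔ orderOf y = 2) {Φ : L → ℂ} (hv : VE Φ) :
    classInner (J.Th Φ) (pairFun t) = 2 * classInner Φ (pairFun u) := by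
  rw [J.inner_Th _ (isClassFunction_pairFun t), inner_congr hv (b := (2 : ℂ) • pairFun u)
    fun y hy => J.pair_sec hu hy, classInner_smul_right]
  simp [map_ofNat]

variable {M : Ideal AlgInt} [PMod 2 M]

theorem t_cen : J.tC ∈ center (centralizer ({t} : Set G)) := mem_center_cent t

theorem π_surj : Function.Surjective J.π := fun y => ⟨_, J.π_j y⟩

theorem π_ker {c : centralizer ({t} : Set G)} (h : c ∈ J.π.ker) : c = 1 ∨ c = J.tC := by
  obtain ⟨y, rfl | rfl⟩ := J.covC c
  · left; rw [MonoidHom.mem_ker, π_j] at h; rw [h, map_one]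
  · right; rw [MonoidHom.mem_ker, π_tj] at h; rw [h, map_one, mul_one]

theorem ppart {y : L} (hy : ¬ 2 ∣ orderOf y) : IsPPart 2 ((J.tC * J.jC y : _) : G) t :=
  ⟨j y, rfl, (J.comm y).symm, ⟨1, J.ot⟩, by rwa [J.ord_j]⟩

theorem blk_sec {χ : G → ℂ} (hχ : IsClassFunction G χ) {y : L} (hy : ¬ 2 ∣ orderOf y) :
    blockPart (principalBlock M G) χ (t * j y) = blockPart (principalBlock M _)
      (fun k : centralizer ({t} : Set G) => χ k) (J.tC * J.jC y) := by
  rw [blockPart_eq_ev _ (hχ.restrict _)]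
  exact principal_section (p := 2) ⟨1, J.ot⟩ hχ _ (J.ppart hy)

include J in
theorem blk_in {x1 x2 x3 : L → ℂ} (k : KB M x1 x2 x3) {χ : IrrCharacter G}
    (hχ : χ ∈ principalBlock M G) : ∃ c0 c1 c2 c3 : ℂ, ∀ y, ¬ 2 ∣ orderOf y →
      χ.1 (t * j y) = c0 + c1 * x1 y + c2 * x2 y + c3 * x3 y := by
  classical
  have := Fintype.ofFinite (centralizer ({t} : Set G))
  let S : Submodule ℂ (L → ℂ) :=
    { carrier := {f | ∃ c0 c1 c2 c3 : ℂ, ∀ y, ¬ 2 ∣ orderOf y →
        f y = c0 + c1 * x1 y + c2 * x2 y + c3 * x3 y}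
      zero_mem' := ⟨0, 0, 0, 0, fun y _ => by simp⟩
      add_mem' := fun ⟨a, b, c, d, e⟩ ⟨a', b', c', d', e'⟩ =>
        ⟨a + a', b + b', c + c', d + d', fun y hy => by rw [Pi.add_apply, e y hy, e' y hy]; ring⟩
      smul_mem' := fun r _ ⟨a, b, c, d, e⟩ => ⟨r * a, r * b, r * c, r * d, fun y hy => by
        rw [Pi.smul_apply, e y hy, smul_eq_mul]; ring⟩ }
  have cg : ∀ {f f' : L → ℂ}, f' ∈ S → (∀ y, ¬ 2 ∣ orderOf y → f y = f' y) → f ∈ S :=
    fun ⟨a, b, c, d, e⟩ h => ⟨a, b, c, d, fun y hy => (h y hy).trans (e y hy)⟩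
  have key : ∀ ξ ∈ principalBlock M (centralizer ({t} : Set G)),
      (fun y => ξ.1 (J.tC * J.jC y)) ∈ S := fun ξ hξ => by
    obtain ⟨c, c1, c2⟩ := exists_reg_eq_sum (p := 2) (M := M) J.π_surj
      (fun x => ⟨1, Subtype.ext (by
        rcases J.π_ker x.2 with e | e <;> simp only [SubgroupClass.coe_pow, e]
        · simp
        · exact Subtype.ext (by simpa [sq] using J.tt))⟩)
      (fun x _ => mem_centralizer_iff.2 fun z hz => by
        rcases J.π_ker hz with rfl | rfl
        · simp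
        · exact (mem_center_iff.1 J.t_cen x).symm) (θ := irrOne L) (χ := ξ) (sameBlock_symm hξ)
    have h1 : (fun y => ξ.1 (J.jC y)) ∈ S := by
      refine cg (S.sum_mem (t := univ) (f := fun η : IrrCharacter L => c η • η.1) fun η _ => ?_)
        fun y hy => ?_
      · by_cases h : η ∈ principalBlock M L
        · obtain ⟨a, b, c, d, e⟩ := k.blk η h
          exact S.smul_mem _ ⟨a, b, c, d, fun y _ => e y⟩
        · rw [c1 η h, zero_smul]; exact S.zero_mem
      · rw [c2 _ (by rwa [← orderOf_coe, coe_j, J.ord_j]), π_j, Finset.sum_apply]; rfl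
    rcases irr_center_two (by rw [← orderOf_coe]; exact J.ot) J.t_cen ξ with e | e <;> simp only [e]
    · exact h1
    · exact S.neg_mem h1
  refine cg (f := fun y => χ.1 (t * j y)) (S.sum_mem
    (t := univ.filter (· ∈ principalBlock M (centralizer ({t} : Set G))))
    (f := fun ξ => classInner (fun k : centralizer ({t} : Set G) => χ.1 k) ξ.1 •
      fun y => ξ.1 (J.tC * J.jC y)) fun ξ hξ => S.smul_mem _ (key ξ (mem_filter.1 hξ).2))
    fun y hy => ?_
  have := J.blk_sec (M := M) χ.2.isClassFunction hy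
  rw [blockPart_irr, if_pos hχ, blockPart_eq] at this
  rw [this, Finset.sum_apply]; rfl

theorem blk_out {Φ : L → ℂ} (hc : IsClassFunction L Φ) (hv : VE Φ)
    (h : ∀ η ∉ principalBlock M L, classInner Φ η.1 = 0) {χ : IrrCharacter G}
    (hχ : χ ∉ principalBlock M G) : classInner (J.Th Φ) χ.1 = 0 := by
  classical
  have := Fintype.ofFinite (centralizer ({t} : Set G))
  have f : ∀ ξ ∉ principalBlock M (centralizer ({t} : Set G)),
      (∀ g, ξ.1 (J.tC * g) = ξ.1 g) → classInner Φ (fun y => ξ.1 (J.jC y)) = 0 := fun ξ hξ e => by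
    obtain ⟨η, rfl⟩ := exists_infl J.π J.π_surj (ψ := ξ) fun n hn => by
      rcases J.π_ker hn with rfl | rfl
      · rfl
      · simpa using e 1
    simp only [infl_apply, π_j]
    exact h η fun hη => hξ (sameBlock_infl J.π J.π_surj (χ := irrOne L) hη)
  have key : ∀ ξ ∉ principalBlock M (centralizer ({t} : Set G)), classInner (J.th Φ) ξ.1 = 0 :=
    fun ξ hξ => by
    rw [inner_th]
    rcases irr_center_two (by rw [← orderOf_coe]; exact J.ot) J.t_cen ξ with e | e <;> simp only [e]
    · exact f ξ hξ e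
    · have := f ⟨_, ξ.2.mul_hom J.sg⟩ (fun h1 => hξ (sameBlock_trans h1 (sameBlock_of_reg (p := 2)
        fun g hg => ?_))) fun g => ?_
      · simp only [Pi.mul_apply, sg_j, Units.val_one, mul_one] at this
        rw [show (fun y => -ξ.1 (J.jC y)) = -fun y => ξ.1 (J.jC y) from rfl, classInner_neg_right,
          this, neg_zero]
      · obtain ⟨y, rfl | rfl⟩ := J.covC g
        · simp [centralChar]
        · refine absurd ?_ hg
          by_contra hy
          have := congrArg J.sg (pow_orderOf_eq_one (J.tC * J.jC y))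
          rw [map_pow, sg_tj, (odd_iff_not_dvd.2 hy).neg_one_pow, map_one] at this
          exact absurd (congrArg Units.val this) (by norm_num)
      · have : J.sg J.tC = -1 := by simpa using J.sg_tj 1
        simp [e, this]
  have hth : IsClassFunction _ (J.th Φ) := ((isClassFunction_const 1).sub
    (isCharacter_hom J.sg).isClassFunction).mul (hc.comp J.π)
  rw [Th, classInner_indFun_left _ _ χ.2.isClassFunction, hth.classInner_eq_sum_irr,
    ← sum_congr rfl (f := fun ξ : IrrCharacter _ => classInner (J.th Φ) ξ.1 * conj (classInner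
      (blockPart (principalBlock M _) fun k : centralizer ({t} : Set G) => χ.1 k) ξ.1)),
    ← hth.classInner_eq_sum_irr, inner_th, inner_congr hv (b := 0), classInner_zero_right]
  · intro y hy
    rw [← J.blk_sec χ.2.isClassFunction hy, blockPart_irr, if_neg hχ]; rfl
  · intro ξ _
    rw [classInner_blockPart]
    split_ifs with h1
    · rfl
    · rw [key ξ h1, zero_mul, zero_mul]

end JT
end Cfsg.Agent.JT
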