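import Cfsg.Agent.JT.C1

/-! The torus `M = ⟨t⟩ × j(K)` and its fusion. -/

set_option autoImplicit false
set_option linter.unusedSectionVars false

namespace Cfsg.Agent.JT

open Cfsg.Agent.PLoc Cfsg.Agent.Inv Cfsg.Agent.Char Cfsg.Agent.Dih Cfsg.Agent.Blk Subgroup Finset
open scoped ComplexConjugate

theorem indFun_transv {G : Type*} [Group G] [Fintype G] {M : Subgroup G} {φ : M → ℂ}
    (hφ : IsClassFunction M φ) (x : G) {ι : Type*} [Fintype ι] (n : ι → G)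
    (inj : ∀ a b, n a * (n b)⁻¹ ∈ M → a = b)
    (cov : ∀ g, g * x * g⁻¹ ∈ M → ∃ a, g * (n a)⁻¹ ∈ M) :
    indFun M φ x = ∑ a, extendByZero M φ (n a * x * (n a)⁻¹) := by
  classical
  have e : ∀ g, extendByZero M φ (g * x * g⁻¹) =
      ∑ a, if g * (n a)⁻¹ ∈ M then extendByZero M φ (n a * x * (n a)⁻¹) else 0 := fun g => by
    have f : ∀ a, g * (n a)⁻¹ ∈ M →
        extendByZero M φ (g * x * g⁻¹) = extendByZero M φ (n a * x * (n a)⁻¹) := fun a ha => by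
      rw [← extendByZero_conj_mem M hφ ha (n a * x * (n a)⁻¹)]; congr 1; group
    by_cases h : ∃ a, g * (n a)⁻¹ ∈ M
    · obtain ⟨a, ha⟩ := h
      rw [sum_eq_single a (fun b _ hb => if_neg fun h => hb (inj b a ?_)) (by simp), if_pos ha, f a ha]
      simpa using mul_mem (inv_mem h) ha
    · rw [sum_eq_zero fun a _ => if_neg fun h' => h ⟨a, h'⟩]
      exact extendByZero_of_not_mem M φ fun h' => h (cov g h')
  have c : ∀ a, (univ.filter fun g => g * (n a)⁻¹ ∈ M).card = Nat.card M := fun a => by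
    rw [← Fintype.card_subtype, ← Nat.card_eq_fintype_card]
    exact Nat.card_congr ((Equiv.mulRight (n a)⁻¹).subtypeEquiv fun g => Iff.rfl)
  have h0 : (Nat.card M : ℂ) ≠ 0 := by exact_mod_cast Nat.card_pos.ne'
  rw [indFun_apply', sum_congr rfl fun g _ => e g, sum_comm, mul_sum]
  refine sum_congr rfl fun a _ => ?_
  rw [← sum_filter, sum_const, c, nsmul_eq_mul, inv_mul_cancel_left₀ h0]

theorem inner_flip {X : Type*} [Group X] [Fintype X] {f g : X → ℂ} (w : X)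
    (hf : ∀ x, f (w * x) = -f x) (hg : ∀ x, f x ≠ 0 → g (w * x) = g x) : classInner f g = 0 := by
  have e : ∑ x, f x * conj (g x) = -∑ x, f x * conj (g x) := by
    conv_lhs => rw [← Equiv.sum_comp (Equiv.mulLeft w)]
    rw [← sum_neg_distrib]
    refine sum_congr rfl fun x _ => ?_
    by_cases h : f x = 0
    · simp [hf, h]
    · simp [hf, hg x h]
  rw [classInner_def, show ∑ x, f x * conj (g x) = 0 by linear_combination e / 2, mul_zero]

theorem JT.no4 {G L : Type*} [Group G] [Group L] {t : G} {j : L →* G} (J : JT t j) {z : G}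
    (h : orderOf (z * z) = 2) : False := by
  obtain ⟨g, e⟩ := isConj_iff.1 (J.cls _ h).symm
  have e1 : g * z * g⁻¹ * (g * z * g⁻¹) = t := by rw [← e]; group
  obtain ⟨y, e2 | e2⟩ := J.cov (g * z * g⁻¹) (by rw [← e1]; group) <;> rw [e2] at e1
  · exact J.nt _ ((map_mul j y y).trans e1)
  · exact J.nt _ ((J.tj_mul y y).symm.trans e1)

namespace Loc
variable {G L : Type*} [Group G] [Group L] [Fintype G] [Fintype L] {t : G} {j : L →* G}
  {u : L} {K : Subgroup L} {ρ : G} (H : Loc t j u K ρ)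
include H

theorem uu : u * u = 1 := sq_of_ord2 H.bsw.ord

theorem sq_odd {y : L} (hy : y ∈ K) : ¬ 2 ∣ orderOf (y * y) := by
  have f : ∀ z : L, ¬ 2 ∣ orderOf z → ¬ 2 ∣ orderOf (z * z) := fun z hz h =>
    hz (h.trans (by rw [← sq]; exact orderOf_pow_dvd 2))
  rcases split H.bsw H.h4 hy with h | h
  · exact f _ h
  · have := f _ h
    rwa [mul_assoc, ← mul_assoc y, ← H.bsw.comm u H.bsw.mem y hy, ← mul_assoc, ← mul_assoc, H.uu,
      one_mul] at this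

theorem eq_of_sq {y : L} (hy : y ∈ K) (e : y * y = 1) : y = 1 ∨ y = u :=
  or_iff_not_imp_left.2 fun h => H.bsw.eq_t hy (ord2_iff.2 ⟨e, h⟩)

/-- the torus `⟨t⟩ × j(K)` -/
noncomputable def M : Subgroup G := (K.comap H.toJT.π).map (centralizer {t}).subtype

theorem mem_M {g : G} : g ∈ H.M ↔ ∃ y ∈ K, g = j y ∨ g = t * j y := by
  refine ⟨?_, ?_⟩
  · rintro ⟨c, hc, rfl⟩
    obtain ⟨y, rfl | rfl⟩ := H.toJT.covC c
    · exact ⟨y, by simpa using hc, Or.inl rfl⟩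
    · exact ⟨y, by simpa only [mem_comap, SetLike.mem_coe, JT.π_tj] using hc, Or.inr rfl⟩
  · rintro ⟨y, hy, rfl | rfl⟩
    · exact ⟨H.toJT.jC y, by simpa using hy, rfl⟩
    · exact ⟨H.toJT.tC * H.toJT.jC y, by simpa only [mem_comap, SetLike.mem_coe, JT.π_tj], rfl⟩

theorem j_mem {y : L} (hy : y ∈ K) : j y ∈ H.M := H.mem_M.2 ⟨y, hy, Or.inl rfl⟩
theorem t_mem : t ∈ H.M := H.mem_M.2 ⟨1, K.one_mem, Or.inr (by simp)⟩

theorem of_j {y : L} (h : j y ∈ H.M) : y ∈ K := by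
  obtain ⟨z, hz, e | e⟩ := H.mem_M.1 h
  · rwa [H.inj e]
  · exact absurd e (H.toJT.ne _ _)

theorem of_tj {y : L} (h : t * j y ∈ H.M) : y ∈ K :=
  H.of_j ((mul_mem_cancel_left H.t_mem).1 h)

theorem M_comm {a b : G} (ha : a ∈ H.M) (hb : b ∈ H.M) : a * b = b * a := by
  obtain ⟨y, hy, rfl | rfl⟩ := H.mem_M.1 ha <;> obtain ⟨z, hz, rfl | rfl⟩ := H.mem_M.1 hb
  · rw [← map_mul, ← map_mul, H.bsw.comm y hy z hz]
  · rw [← mul_assoc, H.comm, mul_assoc, mul_assoc, ← map_mul, ← map_mul, H.bsw.comm y hy z hz]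
  · rw [← mul_assoc, H.comm, mul_assoc, mul_assoc, ← map_mul, ← map_mul, H.bsw.comm y hy z hz]
  · rw [H.toJT.tj_mul, H.toJT.tj_mul, H.bsw.comm y hy z hz]

theorem M_sq {x : G} (hx : x ∈ H.M) : ∃ y ∈ K, x * x = j (y * y) := by
  obtain ⟨y, hy, rfl | rfl⟩ := H.mem_M.1 hx
  · exact ⟨y, hy, (map_mul _ _ _).symm⟩
  · exact ⟨y, hy, H.toJT.tj_mul y y⟩

theorem r3 : ρ * (t * j u) * ρ⁻¹ = t := by
  rw [← conj_mul, H.r1, H.r2, ← mul_assoc, H.comm, mul_assoc, ← map_mul, H.uu, map_one, mul_one]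

theorem rp1 : ρ ^ 1 * t * (ρ ^ 1)⁻¹ = j u := by rw [pow_one, H.r1]
theorem rp2 : ρ ^ 2 * t * (ρ ^ 2)⁻¹ = t * j u := by
  rw [← H.r2, ← H.r1, sq]; group
theorem rp3 : ρ ^ 3 * t * (ρ ^ 3)⁻¹ = t := by
  conv_rhs => rw [← H.r3, ← H.rp2]
  group

theorem rp (c : ℕ) : ρ ^ c * t * (ρ ^ c)⁻¹ = ρ ^ (c % 3) * t * (ρ ^ (c % 3))⁻¹ := by
  have : Commute (ρ ^ 3) t := mul_inv_eq_iff_eq_mul.1 H.rp3
  conv_lhs => rw [← Nat.mod_add_div c 3, pow_add, pow_mul, mul_assoc (ρ ^ _), this.pow_left]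
  group

theorem rp_ne {c : ℕ} (hc : c % 3 ≠ 0) : ρ ^ c * t ≠ t * ρ ^ c := fun e => by
  have e1 := H.rp c
  rw [mul_inv_eq_iff_eq_mul.2 e] at e1
  rcases (by omega : c % 3 = 1 ∨ c % 3 = 2) with h | h <;> rw [h] at e1
  · exact H.nt u (H.rp1.symm.trans e1.symm)
  · rw [H.rp2, left_eq_mul, map_eq_one_iff j H.inj] at e1
    exact ne_one_of_ord2 H.bsw.ord e1

theorem conj_odd {a : L} (ha : a ∈ K) (ho : ¬ 2 ∣ orderOf a) : ρ * j a * ρ⁻¹ ∈ H.M := by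
  have c1 : Commute (ρ * j a * ρ⁻¹) (j u) := by
    rw [← H.r1]; exact (show Commute (j a) t from H.comm a).conj ρ
  have c2 : Commute (ρ * j a * ρ⁻¹) (t * j u) := by
    rw [← H.r2]; exact (show Commute (j a) (j u) from H.M_comm (H.j_mem ha) (H.j_mem H.bsw.mem)).conj ρ
  have c3 : Commute (ρ * j a * ρ⁻¹) t := by simpa using c2.mul_right c1.inv_right
  have o : ¬ 2 ∣ orderOf (ρ * j a * ρ⁻¹) := by
    rwa [← Inv.orderOf_isConj (isConj_iff.2 ⟨ρ, rfl⟩), H.toJT.ord_j]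
  obtain ⟨z, e | e⟩ := H.cov _ c3 <;> rw [e] at c1 o ⊢
  · refine H.j_mem (by_contra fun hz => o ?_)
    rw [H.toJT.ord_j, H.bsw.ord_out (mem_centralizer_singleton_iff.2 (H.inj (by
      rw [map_mul, map_mul, c1.eq]))) hz]
  · have := H.toJT.tpow z o
    rw [pow_orderOf_eq_one, ← map_one j] at this
    exact absurd this (H.toJT.ne _ _)

theorem ρ_norm : ρ ∈ normalizer (H.M : Set G) := by
  have f : ∀ y ∈ K, ρ * j y * ρ⁻¹ ∈ H.M := fun y hy => by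
    rcases split H.bsw H.h4 hy with h | h
    · exact H.conj_odd hy h
    · have := mul_mem (H.r2 ▸ mul_mem H.t_mem (H.j_mem H.bsw.mem))
        (H.conj_odd (mul_mem H.bsw.mem hy) h)
      rwa [conj_mul, ← map_mul, ← mul_assoc u, H.uu, one_mul] at this
  refine mem_normalizer_fintype fun x hx => ?_
  obtain ⟨y, hy, rfl | rfl⟩ := H.mem_M.1 hx
  · exact f y hy
  · rw [← conj_mul, H.r1]; exact mul_mem (H.j_mem H.bsw.mem) (f y hy)

theorem ρ_conj (c : ℕ) {x : G} : ρ ^ c * x * (ρ ^ c)⁻¹ ∈ H.M ↔ x ∈ H.M :=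
  (mem_normalizer_iff.1 (pow_mem H.ρ_norm c) x).symm

theorem inv_M {w : G} (hw : w ∈ H.M) (o : orderOf w = 2) : ∃ c < 3, w = ρ ^ c * t * (ρ ^ c)⁻¹ := by
  obtain ⟨y, hy, rfl | rfl⟩ := H.mem_M.1 hw
  · rw [H.toJT.ord_j] at o
    exact ⟨1, by norm_num, by rw [H.bsw.eq_t hy o, H.rp1]⟩
  · rcases H.eq_of_sq hy ((H.toJT.ord_tj y).1 o) with rfl | rfl
    · exact ⟨0, by norm_num, by simp⟩
    · exact ⟨2, by norm_num, H.rp2.symm⟩

theorem red {g : G} (h : g * t * g⁻¹ ∈ H.M) :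
    ∃ c < 3, ∃ z, (ρ ^ c)⁻¹ * g = j z ∨ (ρ ^ c)⁻¹ * g = t * j z := by
  obtain ⟨c, hc, e⟩ := H.inv_M h (by rw [← Inv.orderOf_isConj (isConj_iff.2 ⟨g, rfl⟩), H.ot])
  refine ⟨c, hc, H.cov _ ?_⟩
  rw [mul_assoc, mul_inv_eq_iff_eq_mul.1 e]; group

theorem cenM {b : L} (hb : b ∈ K) (ho : ¬ 2 ∣ orderOf b) (h1 : b ≠ 1) {g : G}
    (e : g * j b = j b * g) : g ∈ H.M := by
  have f : ∀ z, z * b = b * z → z ∈ K := fun z hz => by
    have e1 : z * b * z⁻¹ = b := mul_inv_eq_iff_eq_mul.2 hz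
    by_contra hK
    by_cases hu : z ∈ centralizer {u}
    · rw [H.bsw.inv_of_out hu hK hb, inv_eq_iff_mul_eq_one] at e1
      exact ho (by rw [ord2_iff.2 ⟨e1, h1⟩])
    · exact h1 (H.bsw.ti z hu b hb (by rwa [e1]))
  obtain ⟨z, rfl | rfl⟩ := H.cov g (H.cen b hb ho h1 g e)
  · exact H.j_mem (f z (H.inj (by rwa [map_mul, map_mul])))
  · refine mul_mem H.t_mem (H.j_mem (f z (H.inj ?_)))
    rwa [← mul_assoc, H.comm, mul_assoc, mul_assoc, mul_right_inj, ← map_mul, ← map_mul] at e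

theorem t_conj {x g : G} (hx : x ∈ H.M) (h2 : x * x ≠ 1) (h : g * x * g⁻¹ ∈ H.M) :
    g * t * g⁻¹ ∈ H.M := by
  obtain ⟨b, hb, e⟩ := H.M_sq h
  refine H.cenM (mul_mem hb hb) (H.sq_odd hb) (fun e1 => h2 ?_) ?_
  · rw [e1, map_one, conj_mul, conj_eq_one_iff] at e; exact e
  · rw [← e, conj_mul, conj_mul, conj_mul, H.M_comm H.t_mem (mul_mem hx hx)]

theorem exists_v : ∃ v ∈ centralizer {u}, v ∉ K := by
  by_contra h
  push Not at h
  have := H.bsw.idx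
  rw [relIndex_eq_one.2 h] at this
  omega

variable {v : L} (hv : v ∈ centralizer {u}) (hK : v ∉ K)
include hv hK

theorem v_inv {x : G} (hx : x ∈ H.M) : j v * x * (j v)⁻¹ = x⁻¹ := by
  have f : ∀ y ∈ K, j v * j y * (j v)⁻¹ = (j y)⁻¹ := fun y hy => by
    rw [← map_inv, ← map_mul, ← map_mul, H.bsw.inv_of_out hv hK hy, map_inv]
  obtain ⟨y, hy, rfl | rfl⟩ := H.mem_M.1 hx
  · exact f y hy
  · rw [← conj_mul, f y hy, H.comm, mul_inv_cancel_right, mul_inv_rev, inv_of_ord2 H.ot, ← map_inv,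
      H.comm]

theorem ti {x g : G} (hx : x ∈ H.M) (h2 : x * x ≠ 1) (h : g * x * g⁻¹ ∈ H.M) :
    ∃ c < 3, g * (ρ ^ c)⁻¹ ∈ H.M ∨ g * (ρ ^ c * j v)⁻¹ ∈ H.M := by
  obtain ⟨c, hc, z, e⟩ := H.red (H.t_conj hx h2 h)
  obtain ⟨a, ha, e1⟩ := H.M_sq hx
  have h3 : (ρ ^ c)⁻¹ * g * j (a * a) * ((ρ ^ c)⁻¹ * g)⁻¹ ∈ H.M := by
    rw [← H.ρ_conj c, ← e1]
    convert mul_mem h h using 1
    group
  have h4 : z ∈ centralizer {u} := by
    by_contra hz
    refine h2 (e1.trans ((congrArg j (H.bsw.ti z hz _ (mul_mem ha ha) (H.of_j ?_))).trans j.map_one))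
    rcases e with e | e <;> rw [e] at h3
    · simpa only [map_mul, map_inv] using h3
    · have := mul_mem (mul_mem (inv_mem H.t_mem) h3) H.t_mem
      simp only [map_mul, map_inv] at this ⊢
      convert this using 1
      group
  have h5 : (ρ ^ c)⁻¹ * g ∈ H.M ∨ (ρ ^ c)⁻¹ * g * (j v)⁻¹ ∈ H.M := by
    by_cases hz : z ∈ K
    · exact Or.inl (H.mem_M.2 ⟨z, hz, e⟩)
    · have : z * v⁻¹ ∈ K := by
        have := (mul_mem_iff_of_index_two H.bsw.idx (a := ⟨z, h4⟩) (b := ⟨v⁻¹, inv_mem hv⟩)).2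
        simpa [mem_subgroupOf, hz, hK] using this
      refine Or.inr (H.mem_M.2 ⟨_, this, ?_⟩)
      rcases e with e | e <;> rw [e] <;> simp [mul_assoc]
  refine ⟨c, hc, h5.imp (fun h => ?_) fun h => ?_⟩ <;>
  · convert (H.ρ_conj c).2 h using 1
    group

theorem indFun_M {φ : H.M → ℂ} {x : G} (hx : x ∈ H.M) (h2 : x * x ≠ 1) :
    indFun H.M φ x = ∑ c ∈ range 3, (extendByZero H.M φ (ρ ^ c * x * (ρ ^ c)⁻¹) +
      extendByZero H.M φ (ρ ^ c * x⁻¹ * (ρ ^ c)⁻¹)) := by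
  have f : ∀ a b : Fin 3, ∀ m n, m * t = t * m → n * t = t * n →
      ρ ^ a.1 * m * (ρ ^ b.1 * n)⁻¹ ∈ H.M → a = b := fun a b m n hm hn h => by
    have e := H.M_comm h ((H.ρ_conj b.1).2 H.t_mem)
    have e1 : ρ ^ (3 - b.1 + a.1) * t = t * ρ ^ (3 - b.1 + a.1) := by
      have c3 : ρ ^ 3 * t = t * ρ ^ 3 := mul_inv_eq_iff_eq_mul.1 H.rp3
      have hb : ρ ^ (3 - b.1) = ρ ^ 3 * (ρ ^ b.1)⁻¹ := by
        rw [eq_mul_inv_iff_mul_eq, ← pow_add, Nat.sub_add_cancel b.2.le]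
      have c4 : Commute ((ρ ^ b.1)⁻¹ * ρ ^ a.1 * (m * n⁻¹)) t := by
        have := congrArg (fun z => (ρ ^ b.1)⁻¹ * z * ρ ^ b.1) e
        simpa [mul_assoc, Commute, SemiconjBy] using this
      have c5 := (Commute.mul_left c4 (Commute.inv_left (Commute.mul_left hm
        (Commute.inv_left hn)))).eq
      rw [mul_inv_cancel_right] at c5
      rw [pow_add, hb, mul_assoc, mul_assoc, ← mul_assoc _ (ρ ^ a.1), c5, ← mul_assoc, c3]
      group
    by_contra hab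
    exact H.rp_ne (by omega) e1
  have g : ∀ a : Fin 3, ρ ^ a.1 * j v * (ρ ^ a.1)⁻¹ ∉ H.M := fun a h =>
    hK (H.of_j ((H.ρ_conj _).1 h))
  rw [indFun_transv (fun a b => by rw [Subtype.ext (H.M_comm b.2 a.2 : _) (a1 := b * a) (a2 := a * b),
      mul_inv_cancel_right]) x (ι := Fin 3 ⊕ Fin 3) (Sum.elim (ρ ^ ·.1) (ρ ^ ·.1 * j v)),
    Fintype.sum_sum_type, ← sum_add_distrib, ← Fin.sum_univ_eq_sum_range
      (fun c => extendByZero H.M φ (ρ ^ c * x * (ρ ^ c)⁻¹) +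
        extendByZero H.M φ (ρ ^ c * x⁻¹ * (ρ ^ c)⁻¹))]
  · refine sum_congr rfl fun c _ => ?_
    rw [← H.v_inv hv hK hx]
    simp [mul_assoc]
  · rintro (a | a) (b | b) h <;> simp only [Sum.elim_inl, Sum.elim_inr] at h
    · rw [f a b 1 1 (by simp) (by simp) (by simpa using h)]
    · obtain rfl := f a b 1 _ (by simp) (H.comm v) (by simpa using h)
      exact absurd (by simpa [mul_assoc] using inv_mem h) (g a)
    · obtain rfl := f a b _ 1 (H.comm v) (by simp) (by simpa using h)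
      exact absurd h (g a)
    · rw [f a b _ _ (H.comm v) (H.comm v) h]
  · intro g hg
    obtain ⟨c, hc, h | h⟩ := H.ti hv hK hx h2 hg
    · exact ⟨Sum.inl ⟨c, hc⟩, h⟩
    · exact ⟨Sum.inr ⟨c, hc⟩, h⟩

end Loc
end Cfsg.Agent.JT
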