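import Cfsg.Agent.JT.C2

/-! The exceptional generalized characters induced from the torus `M`. -/

set_option autoImplicit false
set_option linter.unusedSectionVars false

namespace Cfsg.Agent.JT

open Cfsg.Agent.PLoc Cfsg.Agent.Inv Cfsg.Agent.Char Cfsg.Agent.Dih Cfsg.Agent.Blk Subgroup Finset
open scoped ComplexConjugate

/-- a linear character as an irreducible character -/
def irrH {X : Type*} [Group X] [Finite X] (μ : X →* ℂˣ) : IrrCharacter X :=
  ⟨fun y => (μ y : ℂ), isIrrCharacter_hom μ⟩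

theorem irrH_inj {X : Type*} [Group X] [Finite X] {μ ν : X →* ℂˣ} (h : irrH μ = irrH ν) : μ = ν :=
  MonoidHom.ext fun y => Units.ext (congrFun (congrArg Subtype.val h) y)

theorem conj_hom {X : Type*} [Group X] [Finite X] (μ : X →* ℂˣ) (y : X) :
    conj (μ y : ℂ) = (μ y⁻¹ : ℂ) := ((isCharacter_hom μ).apply_inv y).symm

theorem irrH_bar {X : Type*} [Group X] [Finite X] (μ : X →* ℂˣ) : irrBar (irrH μ) = irrH μ⁻¹ :=
  Subtype.ext (funext fun y => (conj_hom μ y).trans (by simp [irrH]))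

theorem irrH_one {X : Type*} [Group X] [Finite X] : irrH (1 : X →* ℂˣ) = irrOne X := rfl

namespace Loc
variable {G L : Type*} [Group G] [Group L] [Fintype G] [Fintype L] {t : G} {j : L →* G}
  {u : L} {K : Subgroup L} {ρ : G} (H : Loc t j u K ρ)

theorem M_le : H.M ≤ centralizer {t} := map_subtype_le _

/-- projection `M → K` -/
noncomputable def p : H.M →* K := (H.toJT.π.comp (inclusion H.M_le)).codRestrict K fun x => by
  obtain ⟨c, hc, e⟩ := x.2
  rwa [MonoidHom.comp_apply, show inclusion H.M_le x = c from Subtype.ext e.symm]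

/-- `K → M` -/
noncomputable def jM : K →* H.M := (j.comp K.subtype).codRestrict H.M fun y => H.j_mem y.2

/-- `t` in `M` -/
def tM : H.M := ⟨t, H.t_mem⟩

/-- `u` in `K` -/
def uK : K := ⟨u, H.bsw.mem⟩

/-- conjugation by `ρ ^ c` -/
noncomputable def r (c : ℕ) : H.M →* H.M :=
  ((MulAut.conj (ρ ^ c)).toMonoidHom.comp H.M.subtype).codRestrict H.M fun x => (H.ρ_conj c).2 x.2

/-- the characters of `M / A` -/
noncomputable def lam (i : ℕ) : H.M →* ℂˣ := (H.toJT.sg.comp (inclusion H.M_le)).comp (H.r i)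

@[simp] theorem coe_r (c : ℕ) (x : H.M) : (H.r c x : G) = ρ ^ c * x * (ρ ^ c)⁻¹ := rfl
@[simp] theorem coe_jM (y : K) : (H.jM y : G) = j y := rfl
@[simp] theorem coe_tM : (H.tM : G) = t := rfl
@[simp] theorem p_j (y : K) : H.p (H.jM y) = y := Subtype.ext (H.toJT.π_j y)
@[simp] theorem p_t : H.p H.tM = 1 := Subtype.ext (by
  have := H.toJT.π_tj 1
  rwa [map_one, mul_one] at this)

theorem r_r (a b : ℕ) (x : H.M) : H.r a (H.r b x) = H.r (a + b) x :=
  Subtype.ext (by simp [pow_add, mul_assoc])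

theorem lam_r (a b : ℕ) (x : H.M) : H.lam a (H.r b x) = H.lam (a + b) x := by
  simp only [lam, MonoidHom.comp_apply, r_r]

theorem covM (x : H.M) : ∃ y : K, x = H.jM y ∨ x = H.tM * H.jM y := by
  obtain ⟨y, hy, e⟩ := H.mem_M.1 x.2
  exact ⟨⟨y, hy⟩, e.imp Subtype.ext Subtype.ext⟩

theorem tM2 : H.tM * H.tM = 1 := Subtype.ext H.toJT.tt
theorem uK2 : H.uK * H.uK = 1 := Subtype.ext H.uu

theorem sqM (x : H.M) : x * x = H.jM (H.p x * H.p x) := by
  obtain ⟨y, rfl | rfl⟩ := H.covM x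
  · simp
  · rw [map_mul H.p, p_t, p_j, one_mul]; exact Subtype.ext (H.toJT.tj_mul _ _)

theorem lam0_j (y : K) : H.lam 0 (H.jM y) = 1 := by
  rw [← H.toJT.sg_j y]; exact congrArg H.toJT.sg (Subtype.ext (by simp))

theorem lam0_t : H.lam 0 H.tM = -1 := by
  rw [← H.toJT.sg_tj 1]; exact congrArg H.toJT.sg (Subtype.ext (by simp))

theorem lam_sq (i : ℕ) (x : H.M) : H.lam i x * H.lam i x = 1 := by
  rw [← zero_add i, ← lam_r, ← map_mul, sqM, lam0_j]

theorem lam_inv (i : ℕ) (x : H.M) : H.lam i x⁻¹ = H.lam i x := by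
  rw [map_inv, inv_eq_iff_mul_eq_one, lam_sq]

theorem lam_odd (i : ℕ) {y : K} (hy : ¬ 2 ∣ orderOf (y : L)) : H.lam i (H.jM y) = 1 := by
  obtain ⟨m, hm⟩ := odd_iff_not_dvd.2 hy
  have := congrArg (fun z => H.lam i (H.jM z)) (pow_orderOf_eq_one y)
  simp only [← orderOf_coe y, hm, map_pow, map_one] at this
  rwa [pow_succ, pow_mul, sq, lam_sq, one_pow, one_mul] at this

/-- the signs `λ_i(t)` -/
def sgn (i : ℕ) : ℂ := if i % 3 = 1 then 1 else -1

theorem r1t : H.r 1 H.tM = H.jM H.uK := Subtype.ext H.rp1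

theorem lam_t (i : ℕ) : (H.lam i H.tM : ℂ) = sgn i := by
  have e : H.r i H.tM = H.r (i % 3) H.tM := Subtype.ext (H.rp i)
  rw [← zero_add i, ← lam_r, e, zero_add, sgn]
  rcases (by omega : i % 3 = 0 ∨ i % 3 = 1 ∨ i % 3 = 2) with h | h | h <;> rw [h]
  · rw [lam_r, lam0_t]; simp
  · rw [r1t, lam0_j]; simp
  · rw [show H.r 2 H.tM = H.tM * H.jM H.uK from Subtype.ext H.rp2, map_mul, lam0_t, lam0_j]; simp

theorem lam_u (i : ℕ) : (H.lam i (H.jM H.uK) : ℂ) = sgn (i + 1) := by rw [← r1t, lam_r, lam_t]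

theorem lam_eq {a b : ℕ} (h : a % 3 = b % 3) : H.lam a = H.lam b := by
  have e1 : H.lam a H.tM = H.lam b H.tM := Units.ext (by simp only [lam_t, sgn, h])
  have e2 : H.lam a (H.jM H.uK) = H.lam b (H.jM H.uK) :=
    Units.ext (by simp only [lam_u, sgn, Nat.add_mod a, Nat.add_mod b, h])
  have f : ∀ y, H.lam a (H.jM y) = H.lam b (H.jM y) := fun y => by
    rcases split H.bsw H.h4 y.2 with h | h
    · rw [H.lam_odd a h, H.lam_odd b h]
    · have := (H.lam_odd a (y := H.uK * y) h).trans (H.lam_odd b (y := H.uK * y) h).symm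
      rwa [map_mul, map_mul, map_mul, e2, mul_right_inj] at this
  ext x
  obtain ⟨y, rfl | rfl⟩ := H.covM x <;> simp [f, e1]

/-- the conjugates of a character of `K` -/
noncomputable def mu (μ : K →* ℂˣ) (c : ℕ) : K →* ℂˣ := μ.comp (H.p.comp ((H.r c).comp H.jM))

variable {μ : K →* ℂˣ} (hμ : μ H.uK = 1)
include hμ

theorem mu_W {x : H.M} (hx : x * x = 1) : μ (H.p x) = 1 := by
  rcases H.eq_of_sq (H.p x).2 (by rw [← Subgroup.coe_mul, ← map_mul, hx, map_one]; rfl) with e | e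
  · rw [show H.p x = 1 from Subtype.ext e, map_one]
  · rw [show H.p x = H.uK from Subtype.ext e, hμ]

theorem mu_r (c : ℕ) (x : H.M) : μ (H.p (H.r c x)) = H.mu μ c (H.p x) := by
  obtain ⟨y, rfl | rfl⟩ := H.covM x
  · simp [mu]
  · simp [mu, H.mu_W hμ (x := H.r c H.tM) (by rw [← map_mul, tM2, map_one])]

theorem mu_u (c : ℕ) : H.mu μ c H.uK = 1 :=
  H.mu_W hμ (x := H.r c (H.jM H.uK)) (by rw [← map_mul, ← map_mul, uK2, map_one, map_one])

theorem mu_mu (a b : ℕ) : H.mu (H.mu μ a) b = H.mu μ (a + b) := by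
  ext y
  show ((H.mu μ a (H.p (H.r b (H.jM y))) : ℂˣ) : ℂ) = μ (H.p (H.r (a + b) (H.jM y)))
  rw [← H.mu_r hμ, r_r]

omit hμ in
theorem mu_zero : H.mu μ 0 = μ := by
  ext y
  simp [mu, show H.r 0 (H.jM y) = H.jM y from Subtype.ext (by simp)]

theorem mu_fix {c : ℕ} (hc : c % 3 ≠ 0) (e : H.mu μ c = μ) : μ = 1 := by
  let _ : CommGroup K := { (inferInstance : Group K) with
    mul_comm := fun a b => Subtype.ext (H.bsw.comm a a.2 b b.2) }
  let σ : K →* K := H.p.comp ((H.r c).comp H.jM)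
  let f : {y : K // IsSquare y} → {y : K // IsSquare y} :=
    fun y => ⟨σ y * y.1⁻¹, (y.2.map σ).mul y.2.inv⟩
  have fi : Function.Injective f := fun a b h => by
    obtain ⟨z, hz⟩ := b.2.inv.mul a.2
    have e1 : σ (z * z) = z * z := by
      have := congrArg Subtype.val h
      rw [← hz, map_mul, map_inv, inv_mul_eq_iff_eq_mul, ← mul_assoc, ← mul_inv_eq_iff_eq_mul]
      exact this
    have e2 : H.r c (H.jM (z * z)) = H.jM (z * z) := by
      rw [map_mul, map_mul, sqM, ← map_mul H.jM, ← e1, map_mul σ]; rfl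
    have e3 : z * z = 1 := by
      by_contra h1
      exact H.rp_ne hc (H.cen _ (z * z).2 (H.sq_odd z.2) (fun h => h1 (Subtype.ext h)) _
        (mul_inv_eq_iff_eq_mul.1 (congrArg Subtype.val e2)))
    exact Subtype.ext (inv_mul_eq_one.1 (hz.trans e3)).symm
  have g : ∀ y, IsSquare y → μ y = 1 := fun y hy => by
    obtain ⟨a, ha⟩ := Finite.injective_iff_surjective.1 fi ⟨y, hy⟩
    have := congrArg (fun z => μ z.1) ha
    simp only [f, map_mul, map_inv] at this
    rw [← this, mul_inv_eq_one]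
    exact DFunLike.congr_fun e a.1
  have g' : ∀ y : K, ¬ 2 ∣ orderOf (y : L) → μ y = 1 := fun y hy => by
    obtain ⟨m, hm⟩ := odd_iff_not_dvd.2 hy
    refine g y ⟨y ^ (m + 1), ?_⟩
    rw [← pow_add, show m + 1 + (m + 1) = orderOf y + 1 by rw [← orderOf_coe]; omega, pow_succ,
      pow_orderOf_eq_one, one_mul]
  ext y
  rcases split H.bsw H.h4 y.2 with h | h
  · simp [g' y h]
  · simpa [hμ] using g' (H.uK * y) h

omit hμ in
theorem mu_inv (c : ℕ) : H.mu μ⁻¹ c = (H.mu μ c)⁻¹ := rfl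

variable (h1 : μ ≠ 1)
include h1

theorem mu_ne_one (c : ℕ) : H.mu μ c ≠ 1 := fun e => h1 (by
  have := H.mu_mu hμ c (c * (orderOf ρ - 1))
  have e1 : c + c * (orderOf ρ - 1) = orderOf ρ * c := by
    obtain ⟨k, hk⟩ := Nat.exists_eq_succ_of_ne_zero (orderOf_pos ρ).ne'
    rw [hk]; simp; ring
  rw [e, e1] at this
  ext y
  have e2 : H.r (orderOf ρ * c) (H.jM y) = H.jM y := Subtype.ext (by simp [pow_mul])
  simpa [mu, e2] using (DFunLike.congr_fun this y).symm)

theorem mu_ne (a : ℕ) {c : ℕ} (hc : c % 3 ≠ 0) : H.mu μ (a + c) ≠ H.mu μ a := fun e =>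
  H.mu_ne_one hμ h1 a (H.mu_fix (H.mu_u hμ a) hc (by rw [H.mu_mu hμ, e]))

theorem mu_ne_inv (a : ℕ) {c : ℕ} (hc : c < 3) : (H.mu μ (a + c))⁻¹ ≠ H.mu μ a := fun e => by
  rcases Nat.eq_zero_or_pos c with rfl | h
  · refine H.mu_ne_one hμ h1 a (irrH_inj (Subtype.ext (funext fun y => ?_)))
    have hb : irrBar (irrH (H.mu μ a)) = irrH (H.mu μ a) := by rw [irrH_bar]; exact congrArg _ e
    rcases split H.bsw H.h4 y.2 with h | h
    · exact real_odd H.bsw H.h4 hb y h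
    · simpa [irrH, H.mu_u hμ] using real_odd H.bsw H.h4 hb (H.uK * y) h
  · refine H.mu_ne hμ h1 a (c := c + c) (by omega) ?_
    rw [← add_assoc, ← H.mu_mu hμ, ← inv_inv (H.mu μ (a + c)), e, mu_inv, H.mu_mu hμ, e]

end Loc
end Cfsg.Agent.JT
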