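import Cfsg.Agent.JT.C3

/-! Values and inner products of the exceptional generalized characters. -/

set_option autoImplicit false
set_option linter.unusedSectionVars false

namespace Cfsg.Agent.JT

open Cfsg.Agent.PLoc Cfsg.Agent.Inv Cfsg.Agent.Char Cfsg.Agent.Dih Cfsg.Agent.Blk Subgroup Finset
open Cfsg.Agent.Dih.BSW
open scoped ComplexConjugate

theorem inner_flip' {X : Type*} [Group X] [Fintype X] {f g : X → ℂ} (w : X) {a b : ℂ}
    (hab : a * conj b = -1) (hf : ∀ x, f (w * x) = a * f x) (hg : ∀ x, g (w * x) = b * g x) :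
    classInner f g = 0 := by
  have := inner_flip (f := fun x => f x * conj (g x)) (g := fun _ => 1) w
    (fun x => by rw [hf, hg, map_mul]; linear_combination f x * conj (g x) * hab) fun _ _ => rfl
  simpa [classInner_def] using this

namespace Loc
variable {G L : Type*} [Group G] [Group L] [Fintype G] [Fintype L] {t : G} {j : L →* G}
  {u : L} {K : Subgroup L} {ρ : G} (H : Loc t j u K ρ)

theorem conj_sgn (i : ℕ) : conj (sgn i) = sgn i := by unfold sgn; split_ifs <;> simp

/-- the function on `M` -/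
noncomputable def ph (μ : K →* ℂˣ) (i : ℕ) : H.M → ℂ :=
  (fun x => (H.lam i x : ℂ)) * ((fun x => (μ.comp H.p x : ℂ)) - fun _ => 1)

/-- the induced generalized character -/
noncomputable def U (μ : K →* ℂˣ) (i : ℕ) : G → ℂ := indFun H.M (H.ph μ i)

theorem ph_apply (μ : K →* ℂˣ) (i : ℕ) (x : H.M) :
    H.ph μ i x = H.lam i x * ((μ (H.p x) : ℂ) - 1) := rfl

theorem gen_U (μ : K →* ℂˣ) (i : ℕ) : IsGeneralizedCharacter G (H.U μ i) :=
  ((isCharacter_hom _).isGen.mul ((isCharacter_hom _).isGen.sub isGen_one)).indFun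

theorem U_one (μ : K →* ℂˣ) (i : ℕ) : H.U μ i 1 = 0 := by
  simp [U, indFun_one, ph_apply]

theorem comm_inv {a x : G} (hx : x ∈ H.M) (h2 : x * x ≠ 1) (ha : a * a = 1)
    (e : a * x * a⁻¹ = x⁻¹) : a * t = t * a := by
  have hw := H.t_conj hx h2 (e ▸ inv_mem hx)
  have ai : a⁻¹ = a := inv_eq_of_mul_eq_one_left ha
  have e1 : t * a * (t * a) = t * (a * t * a⁻¹) := by rw [ai]; group
  by_contra hc
  refine H.toJT.no4 (z := t * a) (ord2_iff.2 ⟨?_, fun h => hc ?_⟩)
  · rw [e1, mul_assoc, ← mul_assoc (a * t * a⁻¹), H.M_comm hw H.t_mem, mul_assoc t, conj_mul,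
      H.toJT.tt]
    simp [H.toJT.tt]
  · rw [e1, mul_eq_one_iff_inv_eq, inv_of_ord2 H.ot] at h
    exact mul_inv_eq_iff_eq_mul.1 h.symm

theorem pair_t {x : G} (hx : x ∈ H.M) (h2 : x * x ≠ 1) : pairFun t (t * x) = pairFun t x := by
  classical
  have ht : ∀ s, IsConj t s ↔ orderOf s = 2 := fun s =>
    ⟨fun e => (Inv.orderOf_isConj e).symm.trans H.ot, H.cls s⟩
  have f : ∀ x ∈ H.M, x * x ≠ 1 → ∀ a, orderOf a = 2 → orderOf (a⁻¹ * x) = 2 →
      orderOf (t * a) = 2 := fun x hx h2 a ha hb => by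
    have h1 := sq_of_ord2 hb
    have c := H.comm_inv hx h2 (sq_of_ord2 ha) (by
      rw [eq_inv_iff_mul_eq_one]
      rw [inv_of_ord2 ha] at h1 ⊢
      simpa only [mul_assoc] using h1)
    refine ord2_iff.2 ⟨?_, fun e => h2 ?_⟩
    · rw [mul_assoc, ← mul_assoc a, c, mul_assoc, sq_of_ord2 ha, mul_one, H.toJT.tt]
    · rwa [← eq_inv_of_mul_eq_one_left e, mul_assoc, ← mul_assoc x, H.M_comm hx H.t_mem,
        ← mul_assoc, ← mul_assoc, H.toJT.tt, one_mul] at h1
  rw [pairFun, pairFun, ← Equiv.sum_comp (Equiv.mulLeft t)]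
  refine sum_congr rfl fun a _ => ?_
  simp only [classInd, ht, mul_ite, mul_one, mul_zero, ← ite_and, Equiv.coe_mulLeft]
  refine if_congr ?_ rfl rfl
  rw [show (t * a)⁻¹ * (t * x) = a⁻¹ * x by group]
  refine and_congr_right fun hb => ⟨fun ha => ?_, fun ha => f x hx h2 a ha hb⟩
  have := f (t * x) (mul_mem H.t_mem hx) (by
    rwa [mul_assoc, ← mul_assoc x, H.M_comm hx H.t_mem, ← mul_assoc, ← mul_assoc, H.toJT.tt,
      one_mul]) _ ha (by rwa [show (t * a)⁻¹ * (t * x) = a⁻¹ * x by group])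
  rwa [← mul_assoc, H.toJT.tt, one_mul] at this

variable {μ : K →* ℂˣ} (hμ : μ H.uK = 1)
include hμ

theorem ph_W (i : ℕ) {x : H.M} (hx : x * x = 1) : H.ph μ i x = 0 := by
  simp [ph_apply, H.mu_W hμ hx]

theorem ph_mul (i : ℕ) {w : H.M} (hw : w * w = 1) (x : H.M) :
    H.ph μ i (w * x) = H.lam i w * H.ph μ i x := by
  simp [ph_apply, H.mu_W hμ hw, mul_assoc]

theorem U_res (i : ℕ) (x : H.M) :
    H.U μ i x = -∑ c ∈ range 3, H.lam (i + c) x * al K (irrH (H.mu μ c)) (H.p x) := by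
  by_cases h2 : x * x = 1
  · rw [sum_eq_zero fun c _ => by
      simp [al_apply H.bsw, irrH, H.mu_W (H.mu_u hμ c) h2]; norm_num, neg_zero, U, indFun_apply',
      sum_eq_zero fun g _ => ?_, mul_zero]
    rw [extendByZero_apply]
    split_ifs with h
    · refine H.ph_W hμ i (Subtype.ext ?_)
      show g * x * g⁻¹ * (g * x * g⁻¹) = 1
      rw [conj_mul, ← Subgroup.coe_mul, h2]; simp
    · rfl
  · obtain ⟨v, hv, hK⟩ := H.exists_v
    rw [U, H.indFun_M hv hK x.2 fun e => h2 (Subtype.ext e), ← sum_neg_distrib]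
    refine sum_congr rfl fun c _ => ?_
    rw [← Subgroup.coe_inv, ← coe_r, ← coe_r, extendByZero_coe, extendByZero_coe, ph_apply, ph_apply,
      lam_r, lam_r, lam_inv, H.mu_r hμ, H.mu_r hμ, al_apply H.bsw, map_inv H.p, ← conj_hom]
    simp only [irrH]
    ring

theorem U_sec (i : ℕ) {y : L} (hy : ¬ 2 ∣ orderOf y) :
    H.U μ i (t * j y) = -∑ c ∈ range 3, sgn (i + c) * al K (irrH (H.mu μ c)) y := by
  by_cases h : ∃ z ∈ K, IsConj y z
  · obtain ⟨z, hz, e⟩ := h
    have hz' : ¬ 2 ∣ orderOf z := by rwa [← Inv.orderOf_isConj e]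
    obtain ⟨g, rfl⟩ := isConj_iff.1 e
    have e1 : t * j (g * y * g⁻¹) = j g * (t * j y) * (j g)⁻¹ := by
      rw [← mul_assoc (j g), H.comm]; simp [mul_assoc]
    have := H.U_res hμ i (H.tM * H.jM ⟨_, hz⟩)
    simp only [Subgroup.coe_mul, coe_tM, coe_jM, map_mul H.p, p_t, p_j, one_mul, map_mul (H.lam _),
      H.lam_odd _ (y := ⟨_, hz⟩) hz', mul_one, lam_t, (isGen_al _).isClassFunction y g] at this
    rw [← this, e1, (H.gen_U μ i).isClassFunction]
  · push Not at h
    simp only [al_out _ h, mul_zero, sum_const_zero, neg_zero]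
    refine indFun_eq_zero_of_not_conj _ _ fun g hg => ?_
    have h1 := pow_mem hg (orderOf y)
    rw [← inv_inv g, inv_inv g⁻¹, conj_pow, H.toJT.tpow y hy, pow_orderOf_eq_one, map_one,
      mul_one] at h1
    obtain ⟨c, -, z, e⟩ := H.red h1
    have h3 : (ρ ^ c)⁻¹ * g⁻¹ * (t * j y) * ((ρ ^ c)⁻¹ * g⁻¹)⁻¹ ∈ H.M := by
      rw [← H.ρ_conj c]
      convert hg using 1
      group
    refine h _ (H.of_tj ?_) (isConj_iff.2 ⟨z, rfl⟩)
    have e1 : t * j (z * y * z⁻¹) = j z * (t * j y) * (j z)⁻¹ := by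
      rw [← mul_assoc (j z), H.comm]; simp [mul_assoc]
    rw [e1]
    rcases e with e | e <;> rw [e] at h3
    · exact h3
    · convert mul_mem (mul_mem (inv_mem H.t_mem) h3) H.t_mem using 1
      group

theorem U_t (i : ℕ) : H.U μ i t = 0 := by
  simpa [H.bsw.al_one] using H.U_sec hμ i (y := 1) (by simp)

theorem Th_U {Φ : L → ℂ} (hv : VE Φ) (i : ℕ) : classInner (H.toJT.Th Φ) (H.U μ i) =
    -∑ c ∈ range 3, sgn (i + c) * conj (classInner (al K (irrH (H.mu μ c))) Φ) := by
  rw [H.toJT.inner_Th _ (H.gen_U μ i).isClassFunction, inner_congr hv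
    (b := -∑ c ∈ range 3, sgn (i + c) • al K (irrH (H.mu μ c))) fun y hy => by
      rw [H.U_sec hμ i hy]; simp, classInner_neg_right, classInner_sum_right]
  simp only [classInner_smul_right, conj_sgn, conj_classInner]

theorem flipU {i k : ℕ} (h : i % 3 ≠ k % 3) {f : K → ℂ} [Fintype H.M]
    (hf : ∀ y, f (H.uK * y) = f y) :
    classInner (H.ph μ i) (fun x => H.lam k x * f (H.p x)) = 0 := by
  by_cases e : sgn i * conj (sgn k) = -1
  · refine inner_flip' H.tM e (fun x => ?_) fun x => ?_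
    · rw [H.ph_mul hμ i H.tM2, lam_t]
    · simp [lam_t, mul_assoc]
  · refine inner_flip' (H.jM H.uK) (a := sgn (i + 1)) (b := sgn (k + 1)) ?_ (fun x => ?_) fun x => ?_
    · rw [conj_sgn] at e ⊢
      unfold sgn at e ⊢
      split_ifs at e ⊢ <;> first | omega | simp at e ⊢
    · rw [H.ph_mul hμ i (by rw [← map_mul, uK2, map_one]), lam_u]
    · simp [lam_u, mul_assoc, hf]

theorem U_const (i : ℕ) : classInner (H.U μ i) (fun _ => 1) = 0 := by
  have := Fintype.ofFinite H.M
  rw [U, classInner_indFun_left _ _ (isClassFunction_const 1)]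
  by_cases e : i % 3 = 1
  · refine inner_flip (H.jM H.uK) (fun x => ?_) fun _ _ => rfl
    rw [H.ph_mul hμ i (by rw [← map_mul, uK2, map_one]), lam_u, sgn, if_neg (by omega), neg_one_mul]
  · refine inner_flip H.tM (fun x => ?_) fun _ _ => rfl
    rw [H.ph_mul hμ i H.tM2, lam_t, sgn, if_neg e, neg_one_mul]

theorem U_pair : classInner (H.U μ 0) (pairFun t) = 0 := by
  have := Fintype.ofFinite H.M
  rw [U, classInner_indFun_left _ _ (isClassFunction_pairFun t)]
  refine inner_flip H.tM (fun x => ?_) fun x hx =>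
    H.pair_t x.2 fun e => hx (H.ph_W hμ 0 (Subtype.ext e))
  rw [H.ph_mul hμ 0 H.tM2, lam_t, sgn, if_neg (by omega), neg_one_mul]

theorem U_U (i k : ℕ) : classInner (H.U μ i) (H.U μ k) = ∑ c ∈ range 3,
    if i % 3 = (k + c) % 3 then classInner (al K (irrH μ)) (al K (irrH (H.mu μ c))) else 0 := by
  have := Fintype.ofFinite H.M
  have := Fintype.ofFinite K
  rw [U, classInner_indFun_left _ _ (H.gen_U μ k).isClassFunction,
    show (fun x : H.M => H.U μ k x) = -∑ c ∈ range 3,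
      fun x => H.lam (k + c) x * al K (irrH (H.mu μ c)) (H.p x) from
      funext fun x => by rw [H.U_res hμ]; simp,
    classInner_neg_right, classInner_sum_right, ← sum_neg_distrib]
  refine sum_congr rfl fun c _ => ?_
  split_ifs with h
  · rw [← H.lam_eq h, show al K (irrH μ) = indFun K _ from rfl, classInner_indFun_left _ _ (isGen_al _).isClassFunction,
      ← classInner_comp_of_surjective H.p (fun y => ⟨_, H.p_j y⟩), ← classInner_neg_left,
      classInner_def, classInner_def]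
    congr 1
    refine sum_congr rfl fun x _ => ?_
    have e := congrArg Units.val (H.lam_sq i x)
    simp only [Pi.neg_apply, ph_apply, map_mul, conj_hom, lam_inv, Pi.sub_apply, irrH] at e ⊢
    push_cast at e
    linear_combination (1 - (μ (H.p x) : ℂ)) * conj (al K ⟨_, isIrrCharacter_hom (H.mu μ c)⟩ (H.p x)) * e
  · rw [H.flipU hμ h (f := fun y => al K (irrH (H.mu μ c)) y) fun y => ?_, neg_zero]
    simp only [al_apply H.bsw, irrH, map_mul, H.mu_u hμ, one_mul]

end Loc
end Cfsg.Agent.JT
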