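import Cfsg.Agent.JT.C4

/-! The lattice of generalized characters. -/

set_option autoImplicit false
set_option linter.unusedSectionVars false

namespace Cfsg.Agent.JT

open Cfsg.Agent.PLoc Cfsg.Agent.Inv Cfsg.Agent.Char Cfsg.Agent.Dih Cfsg.Agent.Blk Subgroup Finset
open Cfsg.Agent.Dih.BSW
open scoped ComplexConjugate

variable {G : Type*} [Group G] [Fintype G]

/-- the generalized characters -/
def genS (G : Type*) [Group G] [Fintype G] : AddSubgroup (G → ℂ) where
  carrier := {f | IsGeneralizedCharacter G f}
  zero_mem' := by simpa using (isGen_one (G := G)).sub isGen_one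
  add_mem' := IsGeneralizedCharacter.add
  neg_mem' := IsGeneralizedCharacter.neg

theorem gS (z : genS G) : IsGeneralizedCharacter G z.1 := z.2

/-- an integer valued additive map -/
noncomputable def mkZ {Λ : Type*} [AddCommGroup Λ] (f : Λ →+ ℂ) (hf : ∀ x, ∃ n : ℤ, f x = n) :
    Λ →+ ℤ := AddMonoidHom.mk' (fun x => (hf x).choose) fun x y => by
  have := f.map_add x y
  rw [(hf _).choose_spec, (hf x).choose_spec, (hf y).choose_spec] at this
  exact_mod_cast this

theorem mkZ_cast {Λ : Type*} [AddCommGroup Λ] (f : Λ →+ ℂ) (hf : ∀ x, ∃ n : ℤ, f x = n) (x : Λ) :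
    (mkZ f hf x : ℂ) = f x := (hf x).choose_spec.symm

/-- the cyclic group generated by an involution -/
def hom2 {a : G} (ha : a * a = 1) : ℤˣ →* G :=
  MonoidHom.mk' (fun e => if e = 1 then 1 else a) fun x y => by
    rcases Int.units_eq_one_or x with rfl | rfl <;> rcases Int.units_eq_one_or y with rfl | rfl <;>
      simp [ha]

theorem gen_two {a : G} (ha : a * a = 1) {z : G → ℂ} (hz : IsGeneralizedCharacter G z) :
    ∃ n : ℤ, z a = n := by
  obtain ⟨n, hn⟩ := (hz.comp (hom2 ha)).classInner_int isGen_one
  obtain ⟨m, hm⟩ := hz.exists_int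
  simp [classInner_def, UnitsInt.univ, hom2] at hn
  exact ⟨2 * n - m, by push_cast; linear_combination 2 * hn - hm⟩

theorem gen_four {a b : G} (ha : a * a = 1) (hb : b * b = 1) (hab : a * b = b * a) {z : G → ℂ}
    (hz : IsGeneralizedCharacter G z) : ∃ n : ℤ, z 1 + z a + z b + z (a * b) = 4 * n := by
  obtain ⟨n, hn⟩ := (hz.comp ((hom2 ha).noncommCoprod (hom2 hb) fun x y => by
    rcases Int.units_eq_one_or x with rfl | rfl <;> rcases Int.units_eq_one_or y with rfl | rfl <;>
      simp [hom2, Commute, SemiconjBy, hab])).classInner_int isGen_one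
  simp [classInner_def, UnitsInt.univ, hom2, Fintype.sum_prod_type] at hn
  exact ⟨n, by linear_combination 4 * hn⟩

/-- evaluation -/
def evS (g : G) : genS G →+ ℂ := AddMonoidHom.mk' (fun z => z.1 g) fun _ _ => rfl

/-- inner product with a fixed function -/
noncomputable def inS (f : G → ℂ) : genS G →+ ℂ :=
  AddMonoidHom.mk' (fun z => classInner z.1 f) fun _ _ => classInner_add_left _ _ _

/-- the inner product -/
noncomputable def BS : genS G →+ genS G →+ ℤ :=
  AddMonoidHom.mk' (fun x => mkZ (inS x.1) fun y => (gS y).classInner_int (gS x)) fun x y => by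
    ext z
    apply Int.cast_injective (α := ℂ)
    simp [mkZ_cast, inS, classInner_add_right]

theorem BS_cast' (x y : genS G) : (BS x y : ℂ) = classInner y.1 x.1 :=
  mkZ_cast _ (fun y => (gS y).classInner_int (gS x)) y

theorem BS_cast (x y : genS G) : (BS x y : ℂ) = classInner x.1 y.1 := by
  rw [← conj_classInner, ← BS_cast', map_intCast]

theorem BS_eq {x y : genS G} {n : ℤ} : BS x y = n ↔ classInner x.1 y.1 = n := by
  rw [← BS_cast, Int.cast_inj]

theorem BS_dirr {z : genS G} (h : BS z z = 1) : IsDirr z.1 :=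
  (gS z).irr_or_neg_irr (by rw [← BS_cast, h]; simp)

/-- value at an element of order at most two -/
noncomputable def valS {a : G} (ha : a * a = 1) : genS G →+ ℤ := mkZ (evS a) fun z => gen_two ha (gS z)

theorem valS_cast {a : G} (ha : a * a = 1) (z : genS G) : (valS ha z : ℂ) = z.1 a :=
  mkZ_cast _ (fun z => gen_two ha (gS z)) z

variable {t s : G} (ht : orderOf t = 2) (hs : orderOf s = 2) (hc : t * s = s * t)
  (c1 : IsConj t s) (c2 : IsConj t (t * s))

/-- the lattice of generalized characters of a group with a fused four-group -/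
noncomputable def lat : Lat (genS G) where
  B := BS
  deg := valS (one_mul 1)
  val := valS (sq_of_ord2 ht)
  pr := (AddMonoidHom.mulLeft ((Nat.card G : ℂ) / ((centralizer ({t} : Set G)).index : ℂ) ^ 2)).comp
    (inS (pairFun t))
  g := (centralizer ({t} : Set G)).index
  one := ⟨_, isGen_one⟩
  symm x y := by rw [BS_eq, BS_cast']
  pos x h := Subtype.ext (eq_zero_of_nrm_le (by
    rw [nrm_def, ← BS_cast, Complex.intCast_re]; exact_mod_cast h))
  ex x h := by
    obtain ⟨χ, h1, h2⟩ := (gS x).isClassFunction.exists_irr_classInner_ne_zero fun e => h (Subtype.ext e)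
    exact ⟨⟨χ, h1.isGen⟩, BS_eq.2 (by simpa using h1.isDirr.classInner_self),
      fun e => h2 (by simpa using BS_eq.1 e)⟩
  deg0 z h e := (BS_dirr h).one_ne_zero (by
    have := congrArg (Int.cast (R := ℂ)) e
    rwa [valS_cast, Int.cast_zero] at this)
  pr_eq z h := by
    have e := card_mul_inner_pairFun t (BS_dirr h)
    have h0 := (BS_dirr h).one_ne_zero
    have i0 : ((centralizer ({t} : Set G)).index : ℂ) ≠ 0 := by
      exact_mod_cast index_ne_zero_of_finite
    simp only [valS_cast, inS, AddMonoidHom.comp_apply, AddMonoidHom.coe_mulLeft,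
      AddMonoidHom.mk'_apply]
    rw [div_mul_eq_mul_div, e]
    field_simp
  om z h := by
    have i : IsIntegral ℤ (((centralizer ({t} : Set G)).index : ℂ) * z.1 t / z.1 1) := by
      rcases BS_dirr h with ha | ha
      · exact ha.isIntegral_central t
      · simpa [neg_div_neg_eq] using ha.isIntegral_central t
    refine int_dvd_of_isIntegral_div (fun e => (BS_dirr h).one_ne_zero ?_) ?_
    · have := congrArg (Int.cast (R := ℂ)) e
      rwa [valS_cast, Int.cast_zero] at this
    · push_cast
      rwa [valS_cast, valS_cast]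
  four z := by
    obtain ⟨n, hn⟩ := gen_four (sq_of_ord2 ht) (sq_of_ord2 hs) hc (gS z)
    rw [← (gS z).isClassFunction.of_isConj c1, ← (gS z).isClassFunction.of_isConj c2] at hn
    refine ⟨n - valS (sq_of_ord2 ht) z, Int.cast_injective (α := ℂ) ?_⟩
    push_cast
    simp only [valS_cast]
    linear_combination hn
  one1 := BS_eq.2 (by simpa using dirr_one.classInner_self)
  deg1 := Int.cast_injective (α := ℂ) (by rw [valS_cast]; simp)
  val1 := Int.cast_injective (α := ℂ) (by rw [valS_cast]; simp)
  g0 := by exact_mod_cast Nat.pos_of_ne_zero index_ne_zero_of_finite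

theorem lat_deg (z : genS G) {n : ℤ} : (lat ht hs hc c1 c2).deg z = n ↔ z.1 1 = n := by
  rw [← Int.cast_inj (α := ℂ)]; simp [lat, valS_cast]

theorem lat_val' (z : genS G) : ((lat ht hs hc c1 c2).val z : ℂ) = z.1 t := by
  simp [lat, valS_cast]

theorem lat_val (z : genS G) {n : ℤ} : (lat ht hs hc c1 c2).val z = n ↔ z.1 t = n := by
  rw [← Int.cast_inj (α := ℂ), lat_val']

theorem lat_pr (z : genS G) : (lat ht hs hc c1 c2).g * (lat ht hs hc c1 c2).pr z =
    Nat.card (centralizer ({t} : Set G)) * classInner z.1 (pairFun t) := by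
  have i0 : ((centralizer ({t} : Set G)).index : ℂ) ≠ 0 := by
    exact_mod_cast index_ne_zero_of_finite
  simp only [lat, inS, AddMonoidHom.comp_apply, AddMonoidHom.coe_mulLeft, AddMonoidHom.mk'_apply,
    ← card_mul_index (centralizer ({t} : Set G))]
  push_cast
  field_simp

end Cfsg.Agent.JT
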