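import Cfsg.Agent.JT.C5

/-! The character-theoretic data give the lattice data. -/

set_option autoImplicit false
set_option linter.unusedSectionVars false

namespace Cfsg.Agent.JT

open Cfsg.Agent.PLoc Cfsg.Agent.Inv Cfsg.Agent.Char Cfsg.Agent.Dih Cfsg.Agent.Blk Subgroup Finset
open Cfsg.Agent.Dih.BSW
open scoped ComplexConjugate

theorem KB.y {L : Type*} [Group L] [Fintype L] {M : Ideal AlgInt} {x1 x2 x3 : L → ℂ}
    (k : KB M x1 x2 x3) : IsGeneralizedCharacter L ((fun _ => 1) - x1) ∧ VE ((fun _ => 1) - x1) ∧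
      classInner ((fun _ => 1) - x1) ((fun _ => 1) - x1) = 2 ∧
      classInner ((fun _ => 1) - x1) ((fun _ => 1) - x2) = 1 ∧
      classInner ((fun _ => 1) - x1) (fun _ => 1) = 1 ∧ classInner ((fun _ => 1) - x1) x1 = -1 ∧
      classInner ((fun _ => 1) - x1) x2 = 0 ∧ classInner ((fun _ => 1) - x1) x3 = 0 ∧
      ∀ η ∉ principalBlock M L, classInner ((fun _ => 1) - x1) η.1 = 0 := by
  have := classInner_eq_zero_comm.1 k.o1
  refine ⟨isGen_one.sub k.d1.isGen, fun g hg => by simp [k.ev g hg], ?_, ?_, ?_, ?_, ?_, ?_,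
    fun η hη => ?_⟩ <;>
  simp only [classInner_sub_left, classInner_sub_right, dirr_one.classInner_self, k.o1, k.o2, k.o3,
    k.d1.classInner_self, k.o12, k.o13, this]
  any_goals norm_num
  rw [(k.nblk η hη).1, (k.nblk η hη).2.1, sub_self]

namespace Loc
variable {G L : Type*} [Group G] [Group L] [Fintype G] [Fintype L] {t : G} {j : L →* G}
  {u : L} {K : Subgroup L} {ρ : G} (H : Loc t j u K ρ)

theorem two_card : 2 * (univ.filter fun l : IrrCharacter K => l.1 H.uK = 1).card = Nat.card K := by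
  classical
  have := Fintype.ofFinite K
  have e1 := H.bsw.sum_lin 1
  have e2 := H.bsw.sum_lin H.uK
  rw [if_pos rfl] at e1
  rw [if_neg fun e => ne_one_of_ord2 H.bsw.ord (congrArg Subtype.val e)] at e2
  have e3 : ∑ l : IrrCharacter K, (l.1 1 + l.1 H.uK) =
      ∑ l : IrrCharacter K, if l.1 H.uK = 1 then 2 else 0 := sum_congr rfl fun l _ => by
    rw [H.bsw.lin_one]
    rcases H.bsw.lin_t l with e | e <;> rw [uK, e] <;> norm_num
  rw [sum_add_distrib, e1, e2, add_zero, ← sum_filter, sum_const, nsmul_eq_mul] at e3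
  exact_mod_cast (mul_comm _ _).trans e3.symm

theorem exists_mu : ∃ μ : K →* ℂˣ, μ H.uK = 1 ∧ μ ≠ 1 := by
  have e := H.two_card
  have h2 := H.h2
  have h0 : 0 < Nat.card K := Nat.card_pos
  obtain ⟨l, hl, h1⟩ := exists_mem_ne (s := univ.filter fun l : IrrCharacter K => l.1 H.uK = 1)
    (by omega) (irrOne K)
  obtain ⟨μ, e⟩ := l.2.exists_hom_of_comm fun a b => Subtype.ext (H.bsw.comm a a.2 b b.2)
  refine ⟨μ, Units.ext (by simpa [e] using hl), fun h => h1 (Subtype.ext ?_)⟩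
  rw [e, h]; rfl

variable {μ : K →* ℂˣ} (hμ : μ H.uK = 1) (h1 : μ ≠ 1)
include hμ h1

theorem gd (c : ℕ) : Gd H.bsw (irrH (H.mu μ c)) :=
  ⟨fun e => H.mu_ne_one hμ h1 c (irrH_inj e), congrArg Units.val (H.mu_u hμ c)⟩

theorem dist {a b : ℕ} (ha : a < 3) (hb : b < 3) :
    (irrH (H.mu μ a) = irrH (H.mu μ b) ↔ a = b) ∧ irrBar (irrH (H.mu μ a)) ≠ irrH (H.mu μ b) := by
  rw [irrH_bar]
  rcases le_total a b with h | h <;> obtain ⟨c, rfl⟩ := Nat.exists_eq_add_of_le h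
  · exact ⟨⟨fun e => by_contra fun h => H.mu_ne hμ h1 a (by omega) (irrH_inj e).symm,
      fun e => by rw [← e]⟩, fun e => H.mu_ne_inv hμ h1 a (c := c) (by omega)
        (by rw [← irrH_inj e]; ext; simp)⟩
  · exact ⟨⟨fun e => by_contra fun h => H.mu_ne hμ h1 b (by omega) (irrH_inj e), fun e => by rw [e]⟩,
      fun e => H.mu_ne_inv hμ h1 b (c := c) (by omega) (irrH_inj e)⟩

theorem card_ge : 14 ≤ Nat.card K := by
  classical
  rw [← H.two_card]
  let f : Option (Fin 3 ⊕ Fin 3) → IrrCharacter K := fun o => o.elim (irrOne K)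
    (Sum.elim (fun c => irrH (H.mu μ c)) fun c => irrBar (irrH (H.mu μ c)))
  have fi : Function.Injective f := by
    have g := fun c : ℕ => (H.gd hμ h1 c).1
    have d := fun a b : Fin 3 => H.dist hμ h1 a.2 b.2
    rintro (_ | a | a) (_ | b | b) e <;> simp only [f, Option.elim, Sum.elim_inl, Sum.elim_inr] at e
    · rfl
    · exact absurd e.symm (g _)
    · exact absurd (irrBar_eq_one.1 e.symm) (g _)
    · exact absurd e (g _)
    · rw [Fin.ext ((d a b).1.1 e)]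
    · exact absurd e.symm (d b a).2
    · exact absurd (irrBar_eq_one.1 e) (g _)
    · exact absurd e (d a b).2
    · rw [Fin.ext ((d a b).1.1 (by simpa only [irrBar_irrBar] using congrArg irrBar e))]
  have := card_le_card_of_injOn (s := univ) (t := univ.filter fun l : IrrCharacter K => l.1 H.uK = 1)
    f (by rintro (_ | a | a) - <;> simp [f, irrH, irrBar, H.mu_u hμ]) fi.injOn
  simp at this
  omega

open Classical in
theorem pattern (l : IrrCharacter K) : ∃ a : ℕ, a ≤ 3 ∧ ∀ c < 3,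
    ((if irrH (H.mu μ c) = l then 1 else 0) + if irrBar (irrH (H.mu μ c)) = l then 1 else 0 : ℂ) =
      if c = a then 1 else 0 := by
  by_cases h : ∃ a < 3, irrH (H.mu μ a) = l ∨ irrBar (irrH (H.mu μ a)) = l
  · obtain ⟨a, ha, rfl | rfl⟩ := h <;> refine ⟨a, ha.le, fun c hc => ?_⟩
    · simp [H.dist hμ h1 hc ha]
    · have : irrBar (irrH (H.mu μ c)) = irrBar (irrH (H.mu μ a)) ↔ c = a :=
        ⟨fun e => (H.dist hμ h1 hc ha).1.1 (by simpa only [irrBar_irrBar] using congrArg irrBar e),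
          fun e => by rw [e]⟩
      simp [(H.dist hμ h1 ha hc).2.symm, this]
  · push Not at h
    exact ⟨3, le_rfl, fun c hc => by simp [h c hc, hc.ne]⟩

omit hμ h1 in
/-- the lattice -/
noncomputable def Lt : Lat (genS G) := lat H.ot ((H.toJT.ord_j u).trans H.bsw.ord) (H.comm u).symm
  (isConj_iff.2 ⟨ρ, H.r1⟩) (isConj_iff.2 ⟨_, H.rp2⟩)

theorem exists_Dat {M : Ideal AlgInt} [PMod 2 M] {n : ℤ} {x1 x2 x3 : L → ℂ}
    {Φ : IrrCharacter K → L → ℂ} (D : LD M H.bsw n x1 x2 x3 Φ) : Nonempty (Dat H.Lt n) := by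
  classical
  let J := H.toJT
  obtain ⟨g1, v1, a11, a12, a10, b11, b12, b13, n1⟩ := D.toKB.y
  obtain ⟨g2, v2, a22, a23, a20, b22, b23, b21, n2⟩ := D.toKB.s12.s23.y
  obtain ⟨g3, v3, a33, -, a30, b33, b31, b32, n3⟩ := D.toKB.s23.s12.y
  obtain ⟨-, -, -, a13, -⟩ := D.toKB.s23.y
  have hu : ∀ y, IsConj u y ↔ orderOf y = 2 := fun y => H.bsw.isConj_iff'
  let InB : genS G → Prop := fun z => ∃ χ ∈ principalBlock M G, z.1 = χ.1 ∨ z.1 = -χ.1
  have bin : ∀ z, InB z → ∃ c0 c1 c2 c3 : ℂ, z.1 t = c0 + c1 * (2 * n - 1) + c2 * -n + c3 * -n ∧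
      ∀ Ψ, VE Ψ → classInner (J.Th Ψ) z.1 = conj c0 * classInner Ψ (fun _ => 1) +
        conj c1 * classInner Ψ x1 + conj c2 * classInner Ψ x2 + conj c3 * classInner Ψ x3 := by
    rintro z ⟨χ, hχ, e⟩
    obtain ⟨c0, c1, c2, c3, hc⟩ : ∃ c0 c1 c2 c3 : ℂ, ∀ y, ¬ 2 ∣ orderOf y →
        z.1 (t * j y) = c0 + c1 * x1 y + c2 * x2 y + c3 * x3 y := by
      obtain ⟨c0, c1, c2, c3, hc⟩ := J.blk_in D.toKB hχ
      rcases e with e | e <;> rw [e]
      · exact ⟨c0, c1, c2, c3, hc⟩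
      · exact ⟨-c0, -c1, -c2, -c3, fun y hy => by rw [Pi.neg_apply, hc y hy]; ring⟩
    refine ⟨c0, c1, c2, c3, by simpa [D.v1, D.v2, D.v3] using hc 1 (by simp), fun Ψ hv => ?_⟩
    rw [J.inner_Th _ (gS z).isClassFunction, inner_congr hv
      (b := c0 • (fun _ => 1) + c1 • x1 + c2 • x2 + c3 • x3) fun y hy => by simp [hc y hy]]
    simp only [classInner_add_right, classInner_smul_right]
  have bout : ∀ z, BS z z = 1 → ¬ InB z → ∀ Ψ, IsClassFunction L Ψ → VE Ψ →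
      (∀ η ∉ principalBlock M L, classInner Ψ η.1 = 0) → classInner (J.Th Ψ) z.1 = 0 :=
    fun z hz hb Ψ hc hv h => by
    rcases BS_dirr hz with e | e
    · exact J.blk_out hc hv h (χ := ⟨_, e⟩) fun h => hb ⟨_, h, Or.inl rfl⟩
    · have := J.blk_out hc hv h (χ := ⟨_, e⟩) fun h => hb ⟨_, h, Or.inr (neg_neg _).symm⟩
      rwa [classInner_neg_right, neg_eq_zero] at this
  have xv : ∀ ξ : IrrCharacter L, (∀ y ∈ K, y ≠ 1 → ξ.1 y = 0) → VE ξ.1 := fun ξ h =>
    ve_of H.bsw ξ.2.isClassFunction fun y hy h2 => h y hy (by rintro rfl; simp at h2)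
  have gd := H.gd hμ h1
  have TU := fun Ψ (hv : VE Ψ) i => H.Th_U hμ hv i
  have UU : ∀ i k, classInner (H.U μ i) (H.U μ k) = ∑ c ∈ range 3,
      if i % 3 = (k + c) % 3 then (if c = 0 then 3 else 2) else 0 := fun i k => by
    rw [H.U_U hμ]
    refine sum_congr rfl fun c hc => if_congr Iff.rfl ?_ rfl
    have d := H.dist hμ h1 (a := 0) (by norm_num) (mem_range.1 hc)
    rw [← congrArg irrH (H.mu_zero (μ := μ)), H.bsw.al_al (gd 0).1 (gd c).1, if_neg d.2]
    rcases eq_or_ne c 0 with rfl | h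
    · norm_num
    · rw [if_neg (mt d.1.1 h.symm), if_neg h]; norm_num
  have RU : ∀ l, Gd H.bsw l → ∃ a : ℕ, a ≤ 3 ∧ (l = irrH (H.mu μ 0) → a = 0) ∧ ∀ i,
      classInner (J.Th (Φ l)) (H.U μ i) = if a = 3 then 0 else sgn (i + a) := fun l hl => by
    obtain ⟨a, ha, e⟩ := H.pattern hμ h1 l
    refine ⟨a, ha, fun h => by_contra fun h0 => ?_, fun i => ?_⟩
    · have := e 0 (by norm_num)
      rw [if_pos h.symm, if_neg (Ne.symm h0), h, if_neg (H.dist hμ h1 (by norm_num) (by norm_num)).2]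
        at this
      simp at this
    · rw [TU _ (D.ve l hl), sum_congr rfl fun c hc => by
        rw [D.aΦ l _ hl (gd c), e c (mem_range.1 hc)]]
      rcases (by omega : a = 0 ∨ a = 1 ∨ a = 2 ∨ a = 3) with rfl | rfl | rfl | rfl <;>
        simp [sum_range_succ]
  have pr : ∀ Ψ (h : IsGeneralizedCharacter L Ψ), VE Ψ → H.Lt.g * H.Lt.pr ⟨_, J.gen_Th h⟩ =
      4 * (Nat.card L * classInner Ψ (pairFun u)) := fun Ψ h hv => by
    rw [Lt, lat_pr, J.card_C]
    dsimp only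
    rw [J.Th_pair hu hv]
    push_cast
    ring
  have TT : ∀ {Ψ Ψ'} (h : IsGeneralizedCharacter L Ψ) (h' : IsGeneralizedCharacter L Ψ') {m : ℤ},
      VE Ψ → VE Ψ' → 2 * classInner Ψ Ψ' = m → BS ⟨_, J.gen_Th h⟩ ⟨_, J.gen_Th h'⟩ = m :=
    fun h h' m v v' e => BS_eq.2 ((J.Th_Th v h'.isClassFunction v').trans e)
  have To : ∀ {Ψ} (h : IsGeneralizedCharacter L Ψ), classInner Ψ (fun _ => 1) = 1 →
      BS ⟨_, J.gen_Th h⟩ ⟨_, isGen_one⟩ = 1 := fun h e =>
    BS_eq.2 ((J.inner_Th _ (isClassFunction_const 1)).trans (by simpa using e))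
  have Td : ∀ {Ψ} (h : IsGeneralizedCharacter L Ψ), H.Lt.deg ⟨_, J.gen_Th h⟩ = 0 := fun h =>
    (lat_deg _ _ _ _ _ _).2 (by simp [J.Th_one])
  have oU : ∀ i, BS ⟨_, isGen_one⟩ ⟨_, H.gen_U μ i⟩ = 0 := fun i =>
    BS_eq.2 (by simpa using classInner_eq_zero_comm.1 (H.U_const hμ i))
  have Ud : ∀ i, H.Lt.deg ⟨_, H.gen_U μ i⟩ = 0 := fun i =>
    (lat_deg _ _ _ _ _ _).2 (by simp [H.U_one])
  have Uv : ∀ i, H.Lt.val ⟨_, H.gen_U μ i⟩ = 0 := fun i =>
    (lat_val _ _ _ _ _ _).2 (by simp [H.U_t hμ])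
  have TU' : ∀ {Ψ} (h : IsGeneralizedCharacter L Ψ) {m : ℤ}, VE Ψ →
      (∀ l, Gd H.bsw l → classInner (al K l) Ψ = m) → ∀ i,
      BS ⟨_, J.gen_Th h⟩ ⟨_, H.gen_U μ i⟩ = m := fun h m v e i => BS_eq.2 (by
    simp only [TU _ v, e _ (gd _), sum_range_succ, sum_range_zero, sgn, map_intCast]
    split_ifs <;> first | omega | ring)
  refine ⟨{ T1 := ⟨_, J.gen_Th g1⟩, T2 := ⟨_, J.gen_Th g2⟩, T3 := ⟨_, J.gen_Th g3⟩
            U0 := ⟨_, H.gen_U μ 0⟩, U1 := ⟨_, H.gen_U μ 1⟩, U2 := ⟨_, H.gen_U μ 2⟩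
            R := ⟨_, J.gen_Th (D.gen _ (gd 0))⟩, InB := InB
            RR := {x | ∃ l, ∃ hl : Gd H.bsw l, x = ⟨_, J.gen_Th (D.gen l hl)⟩}
            XX := {x | ∃ ξ : IrrCharacter L, (∀ y ∈ K, y ≠ 1 → ξ.1 y = 0) ∧ x = ⟨_, J.gen_Th ξ.2.isGen⟩}
            t11 := TT g1 g1 v1 v1 (by rw [a11]; norm_num)
            t22 := TT g2 g2 v2 v2 (by rw [a22]; norm_num)
            t33 := TT g3 g3 v3 v3 (by rw [a33]; norm_num)
            t12 := TT g1 g2 v1 v2 (by rw [a12]; norm_num)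
            t13 := TT g1 g3 v1 v3 (by rw [a13]; norm_num)
            t23 := TT g2 g3 v2 v3 (by rw [a23]; norm_num)
            t1o := To g1 a10, t2o := To g2 a20, t3o := To g3 a30
            d1 := Td g1, d2 := Td g2, d3 := Td g3
            p1 := by rw [pr _ g1 v1, D.p1]; ring
            p2 := by rw [pr _ g2 v2, D.p2]; ring
            inb := fun z _ hz => ?_
            nb := fun z h hz => ⟨BS_eq.2 (by simpa using bout z h hz _ g1.isClassFunction v1 n1),
              BS_eq.2 (by simpa using bout z h hz _ g2.isClassFunction v2 n2),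
              BS_eq.2 (by simpa using bout z h hz _ g3.isClassFunction v3 n3)⟩
            rb := ?_, xb := ?_
            u00 := BS_eq.2 (by simp [UU, sum_range_succ])
            u11 := BS_eq.2 (by simp [UU, sum_range_succ])
            u22 := BS_eq.2 (by simp [UU, sum_range_succ])
            u01 := BS_eq.2 (by simp [UU, sum_range_succ])
            u02 := BS_eq.2 (by simp [UU, sum_range_succ])
            u12 := BS_eq.2 (by simp [UU, sum_range_succ])
            u0o := oU 0, u1o := oU 1, u2o := oU 2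
            ud := ⟨Ud 0, Ud 1, Ud 2⟩, uv := ⟨Uv 0, Uv 1, Uv 2⟩
            up := ?_
            ut1 := have := TU' g1 (m := 0) v1 (by simpa using D.a1); ⟨this 0, this 1, this 2⟩
            ut2 := have := TU' g2 (m := 1) v2 (by simpa using D.a2); ⟨this 0, this 1, this 2⟩
            ut3 := have := TU' g3 (m := 1) v3 (by simpa using D.a3); ⟨this 0, this 1, this 2⟩
            rm := ⟨_, gd 0, rfl⟩
            ru := ?_
            rp := by rw [pr _ (D.gen _ (gd 0)) (D.ve _ (gd 0)), D.pp _ (gd 0)]; ring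
            rr := ?_, xx := ?_, comp := fun z hz hb hr hx => ?_ }⟩
  · obtain ⟨c0, c1, c2, c3, e, f⟩ := bin z hz
    apply Int.cast_injective (α := ℂ)
    have e0 : (H.Lt.val z : ℂ) = z.1 t := lat_val' _ _ _ _ _ z
    have e' := congrArg conj (e0.trans e)
    simp only [map_intCast, map_add, map_mul, map_neg, map_sub, map_ofNat, map_one] at e'
    push_cast
    rw [e']
    erw [BS_cast, BS_cast, BS_cast]
    simp only [f _ v1, f _ v2, f _ v3, a10, a20, a30, b11, b12, b13, b21, b22, b23, b31, b32, b33]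
    ring
  · rintro z - hz _ ⟨l, hl, rfl⟩
    obtain ⟨c0, c1, c2, c3, -, f⟩ := bin z hz
    exact BS_eq.2 (by simp [f _ (D.ve l hl), D.orth l hl])
  · rintro z - hz _ ⟨ξ, hξ, rfl⟩
    obtain ⟨c0, c1, c2, c3, -, f⟩ := bin z hz
    have e := hξ u H.bsw.mem (ne_one_of_ord2 H.bsw.ord)
    have ev := D.ev u (by rw [H.bsw.ord])
    have o : ∀ x, IsDirr x → x u = 1 → classInner ξ.1 x = 0 := fun x hx h =>
      dirr_orth ξ.2.isDirr hx (g := u) (by simp [e, h])
    exact BS_eq.2 (by simp [f _ (xv ξ hξ), o _ dirr_one rfl, o _ D.d1 ev.1, o _ D.d2 ev.2.1,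
      o _ D.d3 ev.2.2])
  · have := lat_pr H.ot ((H.toJT.ord_j u).trans H.bsw.ord) (H.comm u).symm
      (isConj_iff.2 ⟨ρ, H.r1⟩) (isConj_iff.2 ⟨_, H.rp2⟩) ⟨_, H.gen_U μ 0⟩
    rw [H.U_pair hμ, mul_zero, mul_eq_zero] at this
    exact this.resolve_left (by exact_mod_cast H.Lt.g0.ne')
  · obtain ⟨a, -, h0, e⟩ := RU _ (gd 0)
    obtain rfl := h0 rfl
    exact ⟨BS_eq.2 (by simp [e, sgn]), BS_eq.2 (by simp [e, sgn]), BS_eq.2 (by simp [e, sgn])⟩
  · rintro _ ⟨l, hl, rfl⟩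
    refine ⟨TT (D.gen l hl) (D.gen l hl) (D.ve l hl) (D.ve l hl) (by rw [D.nrm l hl]; norm_num),
      Td (D.gen l hl),
      (lat_val _ _ _ _ _ _).2 ?_, ?_⟩
    · have := J.Th_sec (D.gen l hl).isClassFunction (D.ve l hl) (y := 1) (by simp)
      rw [map_one, mul_one, D.one l hl] at this
      push_cast
      linear_combination this
    · obtain ⟨a, ha, -, e⟩ := RU l hl
      have e' : ∀ i, H.Lt.B ⟨_, J.gen_Th (D.gen l hl)⟩ ⟨_, H.gen_U μ i⟩ =
          if a = 3 then 0 else if (i + a) % 3 = 1 then 1 else -1 := fun i =>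
        BS_eq.2 (by simp [e, sgn])
      simp only [e']
      rcases (by omega : a = 0 ∨ a = 1 ∨ a = 2 ∨ a = 3) with rfl | rfl | rfl | rfl <;> simp
  · rintro _ ⟨ξ, hξ, rfl⟩
    have := TU' ξ.2.isGen (m := 0) (xv ξ hξ) fun l hl => by
      have := Fintype.ofFinite K
      rw [al, classInner_indFun_left _ _ ξ.2.isClassFunction, classInner_def, sum_eq_zero fun y _ => ?_]
      · simp
      · rcases eq_or_ne y 1 with rfl | h
        · simp [H.bsw.lin_one]
        · simp [hξ y y.2 fun e => h (Subtype.ext e)]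
    exact ⟨TT ξ.2.isGen ξ.2.isGen (xv ξ hξ) (xv ξ hξ) (by rw [ξ.2.isDirr.classInner_self]; norm_num),
      this 0, this 1, this 2⟩
  · let F : L → ℂ := fun y => if 2 ∣ orderOf y then 0 else z.1 (t * j y)
    have f : ∀ Ψ, VE Ψ → classInner (J.Th Ψ) z.1 = 0 → classInner Ψ F = 0 := fun Ψ hv e => by
      rw [← e, J.inner_Th _ (gS z).isClassFunction]
      exact inner_congr hv fun y hy => if_neg hy
    have := D.comp F (fun y g => by
        have e1 : t * j (g * y * g⁻¹) = j g * (t * j y) * (j g)⁻¹ := by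
          rw [← mul_assoc (j g), H.comm]; simp [mul_assoc]
        simp only [F, ← Inv.orderOf_isConj (isConj_iff.2 ⟨g, rfl⟩ : IsConj y _), e1,
          (gS z).isClassFunction _ _]) (fun y hy => if_pos hy)
      (f _ v1 (bout z hz hb _ g1.isClassFunction v1 n1))
      (f _ v2 (bout z hz hb _ g2.isClassFunction v2 n2))
      (f _ v3 (bout z hz hb _ g3.isClassFunction v3 n3))
      (fun l hl => f _ (D.ve l hl) (by simpa using BS_eq.1 (hr _ ⟨l, hl, rfl⟩)))
      fun ξ hξ => f _ (xv ξ hξ) (by simpa using BS_eq.1 (hx _ ⟨ξ, hξ, rfl⟩))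
    exact (lat_val _ _ _ _ _ _).2 (by simpa [F] using this)

end Loc
end Cfsg.Agent.JT
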