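import Cfsg.Agent.JT.C6

/-! The order of a group of Ree type. -/

set_option autoImplicit false

namespace Cfsg.Agent.JT

open Cfsg.Agent.Char Cfsg.Agent.Dih Cfsg.Agent.Blk Subgroup

theorem three_pow {p e : ℕ} (hp : p.Prime) {x y : ℤ} (hy : y ≠ 0)
    (h : 3 * x ^ 2 = (p : ℤ) ^ e * y ^ 2) : p = 3 ∧ Odd e := by
  have : Fact (Nat.Prime 3) := ⟨Nat.prime_three⟩
  have p0 : p ^ e ≠ 0 := pow_ne_zero _ hp.ne_zero
  have hy' : y.natAbs ≠ 0 := by simpa using hy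
  have h1 : 3 * x.natAbs ^ 2 = p ^ e * y.natAbs ^ 2 := by
    simpa [Int.natAbs_mul, Int.natAbs_pow] using congrArg Int.natAbs h
  have hx : x.natAbs ≠ 0 := fun e0 => by
    rw [e0] at h1
    exact mul_ne_zero p0 (pow_ne_zero 2 hy') (by omega)
  have h2 := congrArg (padicValNat 3) h1
  rw [padicValNat.mul (by norm_num) (pow_ne_zero _ hx), padicValNat.mul p0 (pow_ne_zero _ hy'),
    padicValNat.pow, padicValNat.pow, padicValNat_self, padicValNat.pow] at h2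
  obtain rfl : p = 3 := by
    by_contra h3
    rw [padicValNat.eq_zero_of_not_dvd fun h =>
      h3 ((Nat.prime_dvd_prime_iff_eq Nat.prime_three hp).1 h).symm] at h2
    omega
  rw [padicValNat_self] at h2
  exact ⟨rfl, Nat.odd_iff.2 (by omega)⟩

theorem Loc.main {G L : Type*} [Group G] [Group L] [Finite G] {t : G} {j : L →* G} {u : L}
    {K : Subgroup L} {ρ : G} (H : Loc t j u K ρ) {p e : ℕ} (hp : p.Prime) (p2 : p ≠ 2)
    (hL : 2 * Nat.card L = p ^ e * ((p ^ e) ^ 2 - 1)) : ∃ m : ℕ, 1 ≤ m ∧ p ^ e = 3 ^ (2 * m + 1) ∧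
      Nat.card G = (3 ^ (2 * m + 1)) ^ 3 * ((3 ^ (2 * m + 1)) ^ 3 + 1) * (3 ^ (2 * m + 1) - 1) := by
  have := Fintype.ofFinite G
  have : Finite L := Finite.of_injective j H.inj
  have := Fintype.ofFinite L
  obtain ⟨M, hM⟩ := exists_isPModular 2 Nat.prime_two
  have : PMod 2 M := ⟨hM⟩
  obtain ⟨P, hP⟩ := H.kl
  obtain ⟨n, x1, x2, x3, Φ, D⟩ := exists_LD (M := M) H.bsw H.h4 H.h2 P hP
  obtain ⟨μ, hμ, h1⟩ := H.exists_mu
  obtain ⟨E⟩ := H.exists_Dat hμ h1 D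
  have k14 := H.card_ge hμ h1
  have k2 := H.two_card
  have nK := D.nK
  have q1 : 1 ≤ p ^ e := Nat.one_le_pow _ _ hp.pos
  have hL' : 2 * (Nat.card L : ℤ) = (p : ℤ) ^ e * (((p : ℤ) ^ e) ^ 2 - 1) := by
    have := congrArg (Nat.cast (R := ℤ)) hL
    rwa [Nat.cast_mul, Nat.cast_mul, Nat.cast_sub (Nat.one_le_pow _ _ q1), Nat.cast_pow,
      Nat.cast_pow] at this
  have cL : (Nat.card L : ℤ) = 2 * Nat.card K * ((2 * n - 1) * n) := by
    rw [← D.idx, H.bsw.card_G]; push_cast; ring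
  have q1' : (1 : ℤ) ≤ (p : ℤ) ^ e := by exact_mod_cast q1
  have inj : ∀ a : ℤ, 1 ≤ a → a * (a ^ 2 - 1) = (p : ℤ) ^ e * (((p : ℤ) ^ e) ^ 2 - 1) →
      a = (p : ℤ) ^ e := fun a ha h => by
    generalize (p : ℤ) ^ e = q at *
    have : (a - q) * (a ^ 2 + a * q + q ^ 2 - 1) = 0 := by linear_combination h
    rcases mul_eq_zero.1 this with h | h
    · omega
    · nlinarith
  have hQ : |2 * n - 1| = (p : ℤ) ^ e := by
    rcases nK with h | h
    · rw [abs_of_pos (by omega)]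
      exact inj _ (by omega) (by rw [← hL', cL, ← h]; ring)
    · rw [abs_of_neg (by omega)]
      exact inj _ (by omega) (by rw [← hL', cL, (by omega : (Nat.card K : ℤ) = 1 - n)]; ring)
  obtain ⟨hg, x, hx⟩ := E.final hp p2 (by omega) (by omega) hQ
  have y0 : 2 * n * (2 * n - 1 - 1) ≠ 0 := mul_ne_zero (by omega) (by omega)
  have Qn : 2 * n - 1 = -(p : ℤ) ^ e := by
    rw [← hQ, abs_of_nonpos, neg_neg]
    by_contra h
    nlinarith [sq_nonneg x, mul_pos (not_le.1 h) (sq_pos_of_ne_zero y0)]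
  rw [Qn, neg_neg] at hx
  obtain ⟨rfl, m, rfl⟩ := three_pow hp (by rwa [← Qn]) hx
  refine ⟨m, Nat.one_le_iff_ne_zero.2 (by rintro rfl; norm_num at Qn; omega), rfl, ?_⟩
  have cG : (Nat.card G : ℤ) = 2 * Nat.card L * H.Lt.g := by
    rw [← card_mul_index (centralizer ({t} : Set G)), H.toJT.card_C]; rfl
  rw [hL', hg, Qn] at cG
  apply Nat.cast_injective (R := ℤ)
  rw [cG, Nat.cast_mul, Nat.cast_sub q1]
  push_cast
  ring

end Cfsg.Agent.JT
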