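import Cfsg.Agent.Dih.BSW2
import Cfsg.Agent.Blk.BS1

/-! Characters of a group with the Brauer–Suzuki–Wall configuration and Klein four Sylow
2-subgroups. -/

set_option autoImplicit false
set_option linter.unusedSectionVars false

namespace Cfsg.Agent.JT

open Cfsg.Agent.PLoc Cfsg.Agent.Inv Cfsg.Agent.Char Cfsg.Agent.Dih Cfsg.Agent.Blk Subgroup Finset
open Cfsg.Agent.Dih.BSW
open scoped ComplexConjugate

variable {L : Type*} [Group L] [Fintype L]

/-- vanishing on elements of even order -/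
def VE (φ : L → ℂ) : Prop := ∀ g, 2 ∣ orderOf g → φ g = 0

theorem inner_congr {φ a b : L → ℂ} (h : VE φ) (e : ∀ g, ¬ 2 ∣ orderOf g → a g = b g) :
    classInner φ a = classInner φ b := by
  simp only [classInner_def]
  congr 1
  refine sum_congr rfl fun g _ => ?_
  by_cases hg : 2 ∣ orderOf g
  · simp [h g hg]
  · rw [e g hg]

theorem dirr_orth {a b : L → ℂ} (ha : IsDirr a) (hb : IsDirr b) {g : L} (h : a g ^ 2 ≠ b g ^ 2) :
    classInner a b = 0 := by
  rcases ha.classInner_cases hb with e | ⟨rfl, -⟩ | ⟨rfl, -⟩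
  · exact e
  · exact absurd rfl h
  · exact absurd (by simp) h

theorem dirr_one : IsDirr (fun _ : L => (1 : ℂ)) := isIrrCharacter_one.isDirr

/-- symmetric form of the principal block of a group with Klein four Sylow subgroups -/
structure KB (M : Ideal AlgInt) (x1 x2 x3 : L → ℂ) : Prop where
  d1 : IsDirr x1
  d2 : IsDirr x2
  d3 : IsDirr x3
  o1 : classInner (fun _ => 1) x1 = 0
  o2 : classInner (fun _ => 1) x2 = 0
  o3 : classInner (fun _ => 1) x3 = 0
  o12 : classInner x1 x2 = 0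
  o13 : classInner x1 x3 = 0
  o23 : classInner x2 x3 = 0
  ev : ∀ g, 2 ∣ orderOf g → x1 g = 1 ∧ x2 g = 1 ∧ x3 g = 1
  od : ∀ g, ¬ 2 ∣ orderOf g → 1 + x1 g + x2 g + x3 g = 0
  blk : ∀ ζ ∈ principalBlock M L, ∃ c0 c1 c2 c3 : ℂ,
    ∀ g, (ζ : L → ℂ) g = c0 + c1 * x1 g + c2 * x2 g + c3 * x3 g
  nblk : ∀ ζ ∉ principalBlock M L, classInner (fun _ => 1) (ζ : L → ℂ) = 0 ∧
    classInner x1 ζ = 0 ∧ classInner x2 ζ = 0 ∧ classInner x3 ζ = 0

variable {M : Ideal AlgInt}

theorem KB.s12 {x1 x2 x3 : L → ℂ} (k : KB M x1 x2 x3) : KB M x2 x1 x3 :=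
  ⟨k.d2, k.d1, k.d3, k.o2, k.o1, k.o3, classInner_eq_zero_comm.1 k.o12, k.o23, k.o13,
    fun g hg => by have := k.ev g hg; tauto, fun g hg => by linear_combination k.od g hg,
    fun ζ hζ => by
      obtain ⟨a, b, c, d, e⟩ := k.blk ζ hζ
      exact ⟨a, c, b, d, fun g => by rw [e]; ring⟩,
    fun ζ hζ => by have := k.nblk ζ hζ; tauto⟩

theorem KB.s23 {x1 x2 x3 : L → ℂ} (k : KB M x1 x2 x3) : KB M x1 x3 x2 :=
  ⟨k.d1, k.d3, k.d2, k.o1, k.o3, k.o2, k.o13, k.o12, classInner_eq_zero_comm.1 k.o23,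
    fun g hg => by have := k.ev g hg; tauto, fun g hg => by linear_combination k.od g hg,
    fun ζ hζ => by
      obtain ⟨a, b, c, d, e⟩ := k.blk ζ hζ
      exact ⟨a, b, d, c, fun g => by rw [e]; ring⟩,
    fun ζ hζ => by have := k.nblk ζ hζ; tauto⟩

theorem exists_KB [PMod 2 M] (P : Sylow 2 L) (hP : IsKleinFour (P : Subgroup L))
    (hone : ∀ s t : L, orderOf s = 2 → orderOf t = 2 → IsConj s t) :
    ∃ x1 x2 x3 : L → ℂ, KB M x1 x2 x3 := by
  classical
  obtain ⟨a, b, c, ε, k⟩ := exists_kleinBlk (M := M) P hP hone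
  have he : (ε : ℂ) = 1 ∨ (ε : ℂ) = -1 := by rcases k.eps with e | e <;> simp [e]
  have ee : (ε : ℂ) * ε = 1 := by rcases he with e | e <;> simp [e]
  have o : ∀ {χ ψ : IrrCharacter L}, χ ≠ ψ → classInner (χ : L → ℂ) ψ = 0 := fun h => by
    rw [irr_classInner, if_neg h]
  refine ⟨a, (ε : ℂ) • (b : L → ℂ), -(c : L → ℂ), a.2.isDirr, b.2.isDirr.smul he, c.2.isDirr.neg,
    o k.n12, ?_, ?_, ?_, ?_, ?_, fun g hg => ?_, fun g hg => ?_, fun ζ hζ => ?_, fun ζ hζ => ?_⟩
  · rw [classInner_smul_right, ← irrOne_coe, o k.n13, mul_zero]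
  · rw [classInner_neg_right, ← irrOne_coe, o k.n14, neg_zero]
  · rw [classInner_smul_right, o k.n23, mul_zero]
  · rw [classInner_neg_right, o k.n24, neg_zero]
  · rw [classInner_neg_right, classInner_smul_left, o k.n34, mul_zero, neg_zero]
  · obtain ⟨h1, h2, h3⟩ := k.val g hg
    simp [h1, h2, h3, ee]
  · simp only [Pi.smul_apply, Pi.neg_apply, smul_eq_mul]
    linear_combination k.rel g hg
  · rcases (k.mem ζ).1 hζ with rfl | rfl | rfl | rfl
    · exact ⟨1, 0, 0, 0, fun g => by simp⟩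
    · exact ⟨0, 1, 0, 0, fun g => by simp⟩
    · exact ⟨0, 0, ε, 0, fun g => by simp [← mul_assoc, ee]⟩
    · exact ⟨0, 0, 0, -1, fun g => by simp⟩
  · rw [k.mem] at hζ
    push Not at hζ
    obtain ⟨h1, h2, h3, h4⟩ := hζ
    refine ⟨by rw [← irrOne_coe, o h1.symm], o h2.symm, ?_, ?_⟩
    · rw [classInner_smul_left, o h3.symm, mul_zero]
    · rw [classInner_neg_left, o h4.symm, neg_zero]

section
variable {u : L} {K : Subgroup L} (h : BSW u K)
include h

theorem ev_conj {g : L} (hg : 2 ∣ orderOf g) : ∃ y ∈ K, 2 ∣ orderOf y ∧ IsConj g y := by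
  have h1 : orderOf (g ^ (orderOf g / 2)) = 2 := orderOf_pow_orderOf_div (orderOf_pos g).ne' hg
  obtain ⟨w, hw⟩ := isConj_iff.1 (h.cls _ h1).symm
  have h2 : w * g * w⁻¹ ∈ centralizer {u} := by
    rw [mem_centralizer_singleton_iff, ← hw, ← conj_pow]
    exact (Commute.self_pow _ _).eq
  by_cases h3 : w * g * w⁻¹ ∈ K
  · exact ⟨_, h3, by rwa [← Inv.orderOf_isConj (isConj_iff.2 ⟨w, rfl⟩)], isConj_iff.2 ⟨w, rfl⟩⟩
  · exact ⟨u, h.mem, by rw [h.ord], (isConj_iff.2 ⟨w, rfl⟩).trans (h.cls _ (h.ord_out h2 h3)).symm⟩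

theorem ve_of {φ : L → ℂ} (hφ : IsClassFunction L φ) (e : ∀ y ∈ K, 2 ∣ orderOf y → φ y = 0) :
    VE φ := fun g hg => by
  obtain ⟨y, hy, h1, h2⟩ := ev_conj h hg
  rw [hφ.of_isConj h2, e y hy h1]

theorem al_apply (l : IrrCharacter K) (y : K) : al K l y = 2 - l.1 y - conj (l.1 y) := by
  have := congrFun (h.al_res l) y
  simp only [Pi.add_apply, Pi.sub_apply, irrBar] at this
  rw [this]; ring

omit h in
theorem al_out (l : IrrCharacter K) {g : L} (hg : ∀ y ∈ K, ¬ IsConj g y) : al K l g = 0 :=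
  indFun_eq_zero_of_not_conj K _ fun x hx => hg _ hx (isConj_iff.2 ⟨x⁻¹, by simp⟩)

theorem inner_al_const {φ : L → ℂ} (hφ : IsClassFunction L φ) (e : ∀ y ∈ K, y ≠ 1 → φ y = 1)
    {l : IrrCharacter K} (hl : l ≠ irrOne K) : classInner φ (al K l) = 1 := by
  have := Fintype.ofFinite K
  rw [← one_al hl, al, classInner_indFun_right K _ hφ,
    classInner_indFun_right K _ (isClassFunction_const 1)]
  simp only [classInner_def]
  congr 1
  refine sum_congr rfl fun y _ => ?_
  by_cases hy : y = 1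
  · simp [hy, h.lin_one]
  · rw [e y y.2 fun e => hy (Subtype.ext e)]

variable (h4 : ¬ 4 ∣ Nat.card K)
include h4

theorem split {y : L} (hy : y ∈ K) : ¬ 2 ∣ orderOf y ∨ ¬ 2 ∣ orderOf (u * y) := by
  by_contra hc
  push Not at hc
  have f : ∀ z ∈ K, 2 ∣ orderOf z → z ^ (Nat.card K / 2) = u := fun z hz h2 => by
    obtain ⟨k, hk⟩ := h.even_card
    have e : Nat.card K / 2 = k := by omega
    refine h.eq_t (pow_mem hz _) (ord2_iff.2 ⟨?_, fun e1 => h4 ?_⟩)
    · rw [← pow_add, e, ← hk, ← orderOf_dvd_iff_pow_eq_one]; exact orderOf_dvd_card_of_mem hz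
    · have := h2.trans (orderOf_dvd_iff_pow_eq_one.2 e1)
      omega
  have e1 := f _ hy hc.1
  have e2 := f _ (mul_mem h.mem hy) hc.2
  have e3 := f _ h.mem (by rw [h.ord])
  rw [Commute.mul_pow (h.comm u h.mem y hy), e1, e3, (ord2_iff.1 h.ord).1] at e2
  exact ne_one_of_ord2 h.ord e2.symm

theorem real_odd {l : IrrCharacter K} (hl : irrBar l = l) (y : K) (hy : ¬ 2 ∣ orderOf (y : L)) :
    l.1 y = 1 := by
  obtain ⟨f, hf⟩ := l.2.isCharacter.exists_hom (h.lin_one l)
  have e1 : conj (l.1 y) = l.1 y := congrFun (congrArg Subtype.val hl) y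
  have e2 := hom_mul_conj f y
  have e3 := hom_pow_orderOf f y
  rw [hf] at e1 ⊢
  simp only at e1 ⊢
  rw [e1] at e2
  rw [← orderOf_coe] at e3
  obtain ⟨m, hm⟩ : Odd (orderOf (y : L)) := odd_iff_not_dvd.2 hy
  rwa [hm, pow_succ, pow_mul, sq, e2, one_pow, one_mul] at e3

theorem real_even {l : IrrCharacter K} (hl : irrBar l = l) (h1 : l ≠ irrOne K) (y : K)
    (hy : 2 ∣ orderOf (y : L)) : l.1 y = -1 := by
  let u' : K := ⟨u, h.mem⟩
  have f : ∀ y : K, 2 ∣ orderOf (y : L) → l.1 y = l.1 u' := fun y hy => by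
    have e := real_odd h h4 hl (u' * y) ((split h h4 y.2).resolve_left (not_not.2 hy))
    rw [h.lin_mul] at e
    rcases h.lin_t l with e1 | e1 <;> rw [e1] at e ⊢
    · linear_combination e
    · linear_combination -e
  rw [f y hy]
  refine (h.lin_t l).resolve_left fun e => h1 (Subtype.ext (funext fun z => ?_))
  by_cases hz : 2 ∣ orderOf (z : L)
  · rw [f z hz, e]; rfl
  · exact real_odd h h4 hl z hz

theorem al_real {l : IrrCharacter K} (hl : irrBar l = l) (h1 : l ≠ irrOne K) {x1 x2 x3 : L → ℂ}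
    (k : KB M x1 x2 x3) : al K l = (fun _ => 1) + x1 + x2 + x3 := by
  funext g
  simp only [Pi.add_apply]
  by_cases hg : ∃ y ∈ K, IsConj g y
  · obtain ⟨y, hy, e⟩ := hg
    rw [(isGen_al l).isClassFunction.of_isConj e, k.d1.isClassFunction.of_isConj e,
      k.d2.isClassFunction.of_isConj e, k.d3.isClassFunction.of_isConj e, al_apply h l ⟨y, hy⟩]
    by_cases h2 : 2 ∣ orderOf y
    · obtain ⟨a, b, c⟩ := k.ev y h2
      rw [a, b, c, real_even h h4 hl h1 ⟨y, hy⟩ h2]; norm_num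
    · rw [k.od y h2, real_odd h h4 hl ⟨y, hy⟩ h2]; norm_num
  · push Not at hg
    rw [al_out l hg, k.od g fun h2 => ?_]
    obtain ⟨y, hy, -, e⟩ := ev_conj h h2
    exact hg y hy e

end

/-- the characters of `K` trivial on `u` but not trivial -/
def Gd {u : L} {K : Subgroup L} (h : BSW u K) (l : IrrCharacter K) : Prop :=
  l ≠ irrOne K ∧ l.1 ⟨u, h.mem⟩ = 1

open Classical in
/-- the data about the characters of `L` -/
structure LD (M : Ideal AlgInt) {u : L} {K : Subgroup L} (h : BSW u K) (n : ℤ) (x1 x2 x3 : L → ℂ)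
    (Φ : IrrCharacter K → L → ℂ) : Prop extends KB M x1 x2 x3 where
  v1 : x1 1 = 2 * n - 1
  v2 : x2 1 = -n
  v3 : x3 1 = -n
  nK : n - 1 = Nat.card K ∨ n - 1 = -Nat.card K
  idx : ((centralizer ({u} : Set L)).index : ℤ) = (2 * n - 1) * n
  p1 : (Nat.card L : ℂ) * classInner ((fun _ => 1) - x1) (pairFun u) =
    (2 * n - 1) * (n ^ 2 * (2 * n - 2))
  p2 : (Nat.card L : ℂ) * classInner ((fun _ => 1) - x2) (pairFun u) =
    (2 * n - 1) ^ 2 * (n * (n + 1))
  a1 : ∀ l, Gd h l → classInner (al K l) ((fun _ => 1) - x1) = 0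
  a2 : ∀ l, Gd h l → classInner (al K l) ((fun _ => 1) - x2) = 1
  a3 : ∀ l, Gd h l → classInner (al K l) ((fun _ => 1) - x3) = 1
  gen : ∀ l, Gd h l → IsGeneralizedCharacter L (Φ l)
  ve : ∀ l, Gd h l → VE (Φ l)
  nrm : ∀ l, Gd h l → classInner (Φ l) (Φ l) = 2
  one : ∀ l, Gd h l → Φ l 1 = 4 * n
  orth : ∀ l, Gd h l → classInner (Φ l) (fun _ => 1) = 0 ∧ classInner (Φ l) x1 = 0 ∧
    classInner (Φ l) x2 = 0 ∧ classInner (Φ l) x3 = 0
  pp : ∀ l, Gd h l → (Nat.card L : ℂ) * classInner (Φ l) (pairFun u) = 4 * (2 * n - 1) ^ 2 * n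
  aΦ : ∀ l m, Gd h l → Gd h m → classInner (al K m) (Φ l) =
    -((if m = l then 1 else 0) + if irrBar m = l then 1 else 0)
  comp : ∀ F : L → ℂ, IsClassFunction L F → VE F → classInner ((fun _ => 1) - x1) F = 0 →
    classInner ((fun _ => 1) - x2) F = 0 → classInner ((fun _ => 1) - x3) F = 0 →
    (∀ l, Gd h l → classInner (Φ l) F = 0) →
    (∀ ξ : IrrCharacter L, (∀ y ∈ K, y ≠ 1 → ξ.1 y = 0) → classInner ξ.1 F = 0) → F 1 = 0

theorem exists_LD' {u : L} {K : Subgroup L} (h : BSW u K) (h4 : ¬ 4 ∣ Nat.card K)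
    {x1 x2 x3 : L → ℂ} (k : KB M x1 x2 x3) {x : ℤ} (hx : x = 1 + 2 * Nat.card K ∨ x = 1 - 2 * Nat.card K)
    (hN : 2 * ((centralizer ({u} : Set L)).index : ℤ) = x * (x + 1)) (a1 : x1 1 = x)
    (av : ∀ y ∈ K, y ≠ 1 → x1 y = 1) : ∃ n Φ, LD M h n x1 x2 x3 Φ := by
  classical
  have := Fintype.ofFinite K
  obtain ⟨n, rfl⟩ : ∃ n, x = 2 * n - 1 := ⟨(x + 1) / 2, by omega⟩
  have idx : ((centralizer ({u} : Set L)).index : ℤ) = (2 * n - 1) * n := by linarith
  have idx' : ((centralizer ({u} : Set L)).index : ℂ) = (2 * n - 1) * n := by exact_mod_cast idx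
  have i0 : ((centralizer ({u} : Set L)).index : ℤ) ≠ 0 := by exact_mod_cast index_ne_zero_of_finite
  have n0 : (n : ℂ) ≠ 0 := by
    have : n ≠ 0 := by rintro rfl; exact i0 (by rw [idx]; ring)
    exact_mod_cast this
  have Q0 : (2 * n - 1 : ℂ) ≠ 0 := by exact_mod_cast (by omega : 2 * n - 1 ≠ 0)
  push_cast at a1
  have kk : (Nat.card K : ℂ) ^ 2 = (n - 1) ^ 2 := by
    have : (Nat.card K : ℤ) ^ 2 = (n - 1) ^ 2 := by
      rcases hx with e | e
      · rw [(by omega : n - 1 = Nat.card K)]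
      · rw [(by omega : n - 1 = -Nat.card K)]; ring
    exact_mod_cast this
  have u2 : 2 ∣ orderOf u := by rw [h.ord]
  obtain ⟨u1, u2', u3⟩ := k.ev u u2
  obtain ⟨l0, n0', r0, hr⟩ := h.exists_real
  have e0 := al_real h h4 r0 n0' k
  have pf : ∀ {a : L → ℂ}, IsDirr a → (Nat.card L : ℂ) * classInner a (pairFun u) =
      ((2 * n - 1) * n) ^ 2 * (a u ^ 2 / a 1) := fun ha => by rw [card_mul_inner_pairFun u ha, idx']
  have s1 := k.od 1 (by simp)
  obtain ⟨v2, v3⟩ : x2 1 = -n ∧ x3 1 = -n := by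
    have e1 := congrArg ((Nat.card L : ℂ) * ·) (h.al_pairFun n0')
    simp only [e0, classInner_add_left, mul_add, pf dirr_one, pf k.d1, pf k.d2, pf k.d3, u1, u2',
      u3, a1] at e1
    rw [h.card_G] at e1
    push_cast at e1
    rw [idx'] at e1
    have b2 := k.d2.one_ne_zero
    have b3 := k.d3.one_ne_zero
    have e2 : x3 1 = -2 * n - x2 1 := by linear_combination s1 - a1
    field_simp at e1
    have e3 : (x2 1 + n) ^ 2 = 0 := by
      refine mul_left_cancel₀ (mul_ne_zero two_ne_zero Q0) ?_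
      rw [e2] at e1
      linear_combination -e1 - 2 * x2 1 * (-2 * n - x2 1) * kk
    have e4 : x2 1 = -n := eq_neg_of_add_eq_zero_left (pow_eq_zero_iff two_ne_zero |>.1 e3)
    exact ⟨e4, by rw [e2, e4]; ring⟩
  let u' : K := ⟨u, h.mem⟩
  have l0u : l0.1 u' = -1 := real_even h h4 r0 n0' u' u2
  let b : IrrCharacter K → L → ℂ := fun l => al K l - (fun _ => 1) - x1
  have eb : ∀ l, al K l = (fun _ => 1) + x1 + b l := fun l => by simp [b]
  have gb : ∀ l, IsGeneralizedCharacter L (b l) := fun l => ((isGen_al l).sub isGen_one).sub k.d1.isGen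
  have xa : ∀ l, l ≠ irrOne K → classInner x1 (al K l) = 1 := fun l =>
    inner_al_const h k.d1.isClassFunction av
  have o1' := classInner_eq_zero_comm.1 k.o1
  have ob : ∀ l, l ≠ irrOne K → classInner (fun _ => 1) (b l) = 0 ∧ classInner x1 (b l) = 0 :=
    fun l hl => by
      simp only [b, classInner_sub_right, one_al hl, xa l hl, k.o1, o1', dirr_one.classInner_self,
        k.d1.classInner_self]
      simp
  have bb : ∀ l m, l ≠ irrOne K → m ≠ irrOne K → classInner (b l) (b m) =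
      (if l = m then 1 else 0) + if irrBar l = m then 1 else 0 := fun l m hl hm => by
    have := h.al_al hl hm
    rw [eb l, eb m] at this
    simp only [classInner_add_left, classInner_add_right, (ob m hm).1, (ob m hm).2,
      classInner_eq_zero_comm.1 (ob l hl).1, classInner_eq_zero_comm.1 (ob l hl).2, k.o1, o1',
      dirr_one.classInner_self, k.d1.classInner_self] at this
    split_ifs at this ⊢ <;> linear_combination this
  have nr : ∀ l, l ≠ irrOne K → l ≠ l0 → irrBar l ≠ l := fun l h1 h2 e => (hr l e).elim h1 h2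
  have db : ∀ l, l ≠ irrOne K → l ≠ l0 → IsDirr (b l) := fun l h1 h2 =>
    (gb l).isDirr (by rw [bb l l h1 h1, if_pos rfl, if_neg (nr l h1 h2), add_zero])
  have bv : ∀ l (y : K), y ≠ 1 → b l y = -(l.1 y + conj (l.1 y)) := fun l y hy => by
    simp only [b, Pi.sub_apply, al_apply h l y, av y y.2 fun e => hy (Subtype.ext e)]; ring
  have b1 : ∀ l, b l 1 = -2 * n := fun l => by simp only [b, Pi.sub_apply, h.al_one, a1]; ring
  have u1' : u' ≠ 1 := fun e => ne_one_of_ord2 h.ord (congrArg Subtype.val e)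
  have bu : ∀ l, b l u ^ 2 = 4 := fun l => by
    rw [bv l u' u1']
    rcases h.lin_t l with e | e <;> simp only [u', e] <;> norm_num
  have xb : ∀ l, l ≠ irrOne K → l ≠ l0 → classInner (b l) x2 = 0 ∧ classInner (b l) x3 = 0 :=
    fun l h1 h2 => ⟨dirr_orth (db l h1 h2) k.d2 (g := u) (by rw [bu, u2']; norm_num),
      dirr_orth (db l h1 h2) k.d3 (g := u) (by rw [bu, u3]; norm_num)⟩
  let tw : IrrCharacter K → IrrCharacter K := fun l =>
    ⟨l.1 * l0.1, l.2.mul_linear l0.2.isCharacter (h.lin_one l0)⟩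
  have tv : ∀ l y, (tw l).1 y = l.1 y * l0.1 y := fun l y => rfl
  have l00 : ∀ y : K, l0.1 y * l0.1 y = 1 := fun y => by
    by_cases hy : 2 ∣ orderOf (y : L)
    · rw [real_even h h4 r0 n0' y hy]; norm_num
    · rw [real_odd h h4 r0 y hy]; norm_num
  have tt : ∀ l, tw (tw l) = l := fun l => Subtype.ext (funext fun y => by
    rw [tv, tv, mul_assoc, l00, mul_one])
  have t1 : tw (irrOne K) = l0 := Subtype.ext (funext fun y => by rw [tv]; simp)
  have t0 : tw l0 = irrOne K := by rw [← t1, tt]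
  have g0 : ∀ l, Gd h l → l ≠ l0 := fun l hl e => by
    have := hl.2
    rw [e] at this
    exact absurd (this.symm.trans l0u) (by norm_num)
  have g1 : ∀ l, Gd h l → tw l ≠ irrOne K ∧ tw l ≠ l0 := fun l hl =>
    ⟨fun e => g0 l hl (by rw [← tt l, e, t1]), fun e => hl.1 (by rw [← tt l, e, t0])⟩
  have g2 : ∀ l m, Gd h l → Gd h m → classInner (b m) (b (tw l)) = 0 := fun l m hl hm => by
    have e1 : (tw l).1 u' = -1 := by rw [tv, hl.2, l0u]; ring
    rw [bb m _ hm.1 (g1 l hl).1, if_neg, if_neg, add_zero]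
    · intro e
      rw [← e] at e1
      simp only [irrBar, u', hm.2] at e1
      norm_num at e1
    · intro e
      rw [← e, hm.2] at e1
      norm_num at e1
  have ve : ∀ l, VE (-(b l + b (tw l))) := fun l =>
    ve_of h ((gb _).add (gb _)).neg.isClassFunction fun y hy h2 => by
      have y1 : (⟨y, hy⟩ : K) ≠ 1 := fun e => by
        rw [show y = 1 from congrArg Subtype.val e] at h2; simp at h2
      simp only [Pi.neg_apply, Pi.add_apply, bv _ ⟨y, hy⟩ y1, tv, real_even h h4 r0 n0' ⟨y, hy⟩ h2,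
        mul_neg, mul_one, map_neg]
      ring
  have vo : ∀ l g, ¬ 2 ∣ orderOf g → b l g = b (tw l) g := fun l g hg => by
    simp only [b, Pi.sub_apply]
    congr 2
    by_cases hc : ∃ y ∈ K, IsConj g y
    · obtain ⟨y, hy, e⟩ := hc
      rw [(isGen_al _).isClassFunction.of_isConj e, (isGen_al _).isClassFunction.of_isConj e,
        al_apply h _ ⟨y, hy⟩, al_apply h _ ⟨y, hy⟩, tv,
        real_odd h h4 r0 ⟨y, hy⟩ (by rwa [← Inv.orderOf_isConj e]), mul_one]
    · push Not at hc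
      rw [al_out _ hc, al_out _ hc]
  have ax : ∀ l, Gd h l → ∀ x, classInner (fun _ => 1) x = 0 → classInner x1 x = 0 →
      classInner (b l) x = 0 → classInner (al K l) ((fun _ => 1) - x) = 1 :=
    fun l hl x c1 c2 c3 => by
      simp only [eb l, classInner_add_left, classInner_sub_right, c1, c2, c3, o1',
        classInner_eq_zero_comm.1 (ob l hl.1).1, dirr_one.classInner_self]
      simp
  refine ⟨n, fun l => -(b l + b (tw l)), k, a1, v2, v3, by omega, idx, ?_, ?_, fun l hl => ?_,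
    fun l hl => ax l hl _ k.o2 k.o12 (xb l hl.1 (g0 l hl)).1,
    fun l hl => ax l hl _ k.o3 k.o13 (xb l hl.1 (g0 l hl)).2, fun l _ => ((gb _).add (gb _)).neg,
    fun l _ => ve l, fun l hl => ?_, fun l hl => ?_, fun l hl => ?_, fun l hl => ?_,
    fun l m hl hm => ?_, fun F hF hv c1 c2 c3 c4 c5 => ?_⟩
  · rw [classInner_sub_left, mul_sub, pf dirr_one, pf k.d1, u1, a1]; field_simp; ring
  · rw [classInner_sub_left, mul_sub, pf dirr_one, pf k.d2, u2', v2]; field_simp; ring
  · simp only [eb l, classInner_add_left, classInner_sub_right, o1', k.o1,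
      classInner_eq_zero_comm.1 (ob l hl.1).1, classInner_eq_zero_comm.1 (ob l hl.1).2,
      dirr_one.classInner_self, k.d1.classInner_self]
    simp
  · simp only [classInner_neg_left, classInner_neg_right, classInner_add_left, classInner_add_right,
      g2 l l hl hl, classInner_eq_zero_comm.1 (g2 l l hl hl),
      (db l hl.1 (g0 l hl)).classInner_self, (db _ (g1 l hl).1 (g1 l hl).2).classInner_self]
    norm_num
  · simp only [Pi.neg_apply, Pi.add_apply, b1]; ring
  · simp only [classInner_neg_left, classInner_add_left, xb l hl.1 (g0 l hl),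
      xb _ (g1 l hl).1 (g1 l hl).2, classInner_eq_zero_comm.1 (ob l hl.1).1,
      classInner_eq_zero_comm.1 (ob l hl.1).2, classInner_eq_zero_comm.1 (ob _ (g1 l hl).1).1,
      classInner_eq_zero_comm.1 (ob _ (g1 l hl).1).2]
    simp
  · rw [classInner_neg_left, classInner_add_left, mul_neg, mul_add, pf (db l hl.1 (g0 l hl)),
      pf (db _ (g1 l hl).1 (g1 l hl).2), bu, bu, b1, b1]
    field_simp; ring
  · simp only [eb m, classInner_neg_right, classInner_add_left, classInner_add_right, ob l hl.1,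
      ob _ (g1 l hl).1, g2 l m hl hm, bb m l hm.1 hl.1]
    ring_nf
  · have z : ∀ {a : L → ℂ}, (∀ g, ¬ 2 ∣ orderOf g → a g = 0) → classInner a F = 0 := fun {a} ha => by
      rw [classInner_eq_zero_comm, inner_congr hv (b := 0) ha, classInner_zero_right]
    have z0 := z (a := (fun _ => 1) + x1 + x2 + x3) k.od
    simp only [classInner_add_left, classInner_sub_left] at z0 c1 c2 c3
    have f0 : classInner (fun _ => 1) F = 0 := by linear_combination (z0 + c1 + c2 + c3) / 4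
    have f1 : classInner x1 F = 0 := by linear_combination f0 - c1
    have f2 : classInner x2 F = 0 := by linear_combination f0 - c2
    have f3 : classInner x3 F = 0 := by linear_combination f0 - c3
    have f4 : ∀ l, Gd h l → classInner (b l) F = 0 ∧ classInner (b (tw l)) F = 0 := fun l hl => by
      have z1 := z (a := b l - b (tw l)) fun g hg => sub_eq_zero.2 (vo l g hg)
      have z2 := c4 l hl
      simp only [classInner_neg_left, classInner_add_left, classInner_sub_left] at z1 z2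
      exact ⟨by linear_combination (z1 - z2) / 2, by linear_combination (-z1 - z2) / 2⟩
    have f5 : ∀ l, l ≠ irrOne K → l ≠ l0 → classInner (b l) F = 0 := fun l h1 h2 => by
      rcases h.lin_t l with e | e
      · exact (f4 l ⟨h1, e⟩).1
      · rw [← tt l]
        exact (f4 _ ⟨fun e => h2 (by rw [← tt l, e, t1]), by rw [tv, e, l0u]; ring⟩).2
    have f6 : ∀ (ζ : IrrCharacter L) {a : L → ℂ}, IsDirr a → classInner a F = 0 →
        classInner ζ.1 F ≠ 0 → classInner ζ.1 a = 0 := fun ζ a ha h0 h1 => by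
      by_contra h2
      rw [ζ.2.isDirr.eq_smul ha h2, classInner_smul_left, h0, mul_zero] at h1
      exact h1 rfl
    rw [hF.apply_eq_sum_irr]
    refine sum_eq_zero fun ζ _ => mul_eq_zero_of_left (classInner_eq_zero_comm.1 ?_) _
    by_contra hz
    refine hz (c5 ζ fun y hy y1 => ?_)
    rw [h.apply_eq ζ.2.isClassFunction ⟨y, hy⟩, if_neg (by simpa using y1), mul_zero, zero_sub,
      neg_eq_zero]
    refine sum_eq_zero fun l _ => mul_eq_zero_of_left ?_ _
    by_cases h1 : l = irrOne K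
    · rw [h1, al_irrOne, classInner_zero_right]
    by_cases h2 : l = l0
    · simp only [h2, e0, classInner_add_right, f6 ζ dirr_one f0 hz, f6 ζ k.d1 f1 hz,
        f6 ζ k.d2 f2 hz, f6 ζ k.d3 f3 hz, add_zero]
    · simp only [eb l, classInner_add_right, f6 ζ dirr_one f0 hz, f6 ζ k.d1 f1 hz,
        f6 ζ (db l h1 h2) (f5 l h1 h2) hz, add_zero]

theorem exists_LD [PMod 2 M] {u : L} {K : Subgroup L} (h : BSW u K) (h4 : ¬ 4 ∣ Nat.card K)
    (h2 : Nat.card K ≠ 2) (P : Sylow 2 L) (hP : IsKleinFour (P : Subgroup L)) :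
    ∃ n x1 x2 x3 Φ, LD M h n x1 x2 x3 Φ := by
  obtain ⟨x1, x2, x3, k⟩ := exists_KB (M := M) P hP fun s t hs ht =>
    (h.cls s hs).symm.trans (h.cls t ht)
  obtain ⟨a, -, x, ha, -, hx, hN, a1, -, av, -, ao, -⟩ := h.exists_data h2
  obtain ⟨l0, n0, r0, -⟩ := h.exists_real
  have e := inner_al_const h ha.isClassFunction av n0
  rw [al_real h h4 r0 n0 k] at e
  simp only [classInner_add_right, ao, zero_add] at e
  have u2 : 2 ∣ orderOf u := by rw [h.ord]
  have au := av u h.mem (ne_one_of_ord2 h.ord)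
  have f : ∀ {x : L → ℂ}, IsDirr x → x u = 1 → classInner a x = 0 ∨ a = x := fun hx h1 => by
    rcases ha.classInner_cases hx with e | ⟨e, -⟩ | ⟨e, -⟩
    · exact Or.inl e
    · exact Or.inr e
    · rw [e, Pi.neg_apply, h1] at au; norm_num at au
  obtain ⟨u1, u2', u3⟩ := k.ev u u2
  rcases f k.d1 u1 with e1 | rfl
  · rcases f k.d2 u2' with e2 | rfl
    · rcases f k.d3 u3 with e3 | rfl
      · rw [e1, e2, e3] at e; norm_num at e
      · obtain ⟨n, Φ, d⟩ := exists_LD' h h4 k.s23.s12 hx hN a1 av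
        exact ⟨n, _, _, _, Φ, d⟩
    · obtain ⟨n, Φ, d⟩ := exists_LD' h h4 k.s12 hx hN a1 av
      exact ⟨n, _, _, _, Φ, d⟩
  · obtain ⟨n, Φ, d⟩ := exists_LD' h h4 k hx hN a1 av
    exact ⟨n, _, _, _, Φ, d⟩

end Cfsg.Agent.JT
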