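import Cfsg.Agent.JT.Red

/-! The local analysis: centralizers of the elements of `O(C(V))`, `V` a four-group. -/

set_option autoImplicit false
set_option linter.unusedVariables false
set_option linter.unusedSectionVars false

namespace Cfsg.Agent.JT.Rd

open Cfsg Cfsg.Agent.BG Cfsg.Agent.Inv Subgroup
open GW (VV mem_VV C_VV l_mem_VV r_mem_VV VV_le odd_iff pie2 pig2 mem_zp2)

variable {G : Type*} [Group G] [Finite G]

theorem mem_of_sq {A : Subgroup G} {g : G} (o : Odd (orderOf g)) (h : g * g ∈ A) : g ∈ A := by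
  obtain ⟨m, e⟩ := exists_sqrt_of_odd o
  rw [← e, ← (Commute.refl g).mul_pow]; exact pow_mem h m

theorem eq_one_of_odd {g : G} (o : Odd (orderOf g)) (h : g * g = 1) : g = 1 :=
  mem_bot.1 (mem_of_sq o (mem_bot.2 h))

theorem not_inv {g y : G} (o : Odd (orderOf g)) (oy : Odd (orderOf y)) (h : g * y * g⁻¹ = y⁻¹) : y = 1 := by
  have : g ∈ C1[y] := mem_of_sq o (mem_C1.2 (by
    calc _ = g * (g * y * g⁻¹) * g := by group
      _ = (g * y * g⁻¹)⁻¹ * (g * g) := by nth_rw 1 [h]; group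
      _ = _ := by rw [h, inv_inv]))
  rw [mem_C1.1 this, mul_inv_cancel_right] at h
  exact eq_one_of_odd oy (mul_eq_one_iff_eq_inv.2 h)

theorem conj3 {p : ℕ} (hp : p.Prime) {M : Subgroup G} (h : ∀ P ≤ M, PiG {p} P → Cyc P) {x y : G} (hx : x ∈ M)
    (hy : y ∈ M) (ox : orderOf x = p) (oy : orderOf y = p) : ∃ g ∈ M, g * x * g⁻¹ ∈ zpowers y := by
  obtain ⟨P, hP, l⟩ := syl_superset hp (zpowers_le.2 hy) (pig_of_card' hp ((card_zpowers' y).trans oy))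
  obtain ⟨g, hg, e⟩ := hP.cj_sub hp (zpowers_le.2 hx) (pig_of_card' hp ((card_zpowers' x).trans ox))
  exact ⟨g, hg, ((h P hP.le hP.pi).eq_of_card e l (by rw [card_cj, card_zpowers', card_zpowers', ox, oy])).le
    (mem_cj_conj.2 (mem_zpowers x))⟩

theorem zp3 {x y : G} (h : orderOf y = 3) (hx : x ∈ zpowers y) : x = 1 ∨ x = y ∨ x = y⁻¹ := by
  obtain ⟨k, rfl⟩ := mem_zpowers_iff.1 hx
  have e : y ^ (3 : ℤ) = 1 := by exact_mod_cast h ▸ pow_orderOf_eq_one y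
  obtain ⟨j, rfl | rfl | rfl⟩ : ∃ j, k = 3 * j ∨ k = 3 * j + 1 ∨ k = 3 * j + -1 := by
    rcases (by omega : k % 3 = 0 ∨ k % 3 = 1 ∨ k % 3 = 2) with a | a | a
    exacts [⟨k / 3, by omega⟩, ⟨k / 3, by omega⟩, ⟨k / 3 + 1, by omega⟩]
  all_goals simp [zpow_add, zpow_mul, e]

/-- the configuration `V = ⟨t, a⟩`, `C(V) = V × R⟨s⟩`, `N(V) = C(V)⟨ρ⟩` -/
structure Cf (t a s ρ : G) (R : Subgroup G) : Prop where
  ot : orderOf t = 2
  oa : orderOf a = 2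
  os : orderOf s = 2
  at' : a * t = t * a
  ne : a ≠ t
  sC : s ∈ C[VV t a]
  r3 : orderOf ρ = 3
  rs : ρ * s = s * ρ
  r1 : ρ * t * ρ⁻¹ = a
  r2 : ρ * a * ρ⁻¹ = t * a
  cls : ∀ v, orderOf v = 2 → IsConj t v
  sq : ∀ g : G, Odd (orderOf (g * g))
  odd : Odd #R
  cyc : Cyc R
  RC : R ≤ C[VV t a]
  inv : ∀ y ∈ R, s * y * s⁻¹ = y⁻¹
  CV : ∀ g ∈ C[VV t a], g ∈ VV t a ⊔ R ∨ g * s ∈ VV t a ⊔ R
  Cy : ∀ y ∈ R, y ≠ 1 → C1[t] ⊓ C1[y] ≤ VV t a ⊔ R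
  four : ∀ v w : G, orderOf v = 2 → orderOf w = 2 → v ≠ w → v * w = w * v → ∃ g, cj g (VV v w) = VV t a
  c3 : 3 ∣ #R → ∀ v : G, orderOf v = 2 → ∀ P ≤ C1[v], PiG {3} P → Cyc P
  c3' : ¬ 3 ∣ #R → ∃ n : ℕ, #(C1[ρ] ⊓ C1[s]) = 2 * n ∧ (#R : ℤ) ∣ n ^ 2 - 1

namespace Cf
variable {t a s ρ : G} {R : Subgroup G} (h : Cf t a s ρ R) {g y v : G}
include h

local notation "V" => VV t a

theorem t2 : t * t = 1 := sq_of_ord2 h.ot
theorem a2 : a * a = 1 := sq_of_ord2 h.oa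
theorem s2 : s * s = 1 := sq_of_ord2 h.os
theorem memV : g ∈ V ↔ g = 1 ∨ g = t ∨ g = a ∨ g = t * a := mem_VV h.t2 h.a2 h.at'
theorem abV : Abel V := (abel_zpowers _).sup (abel_zpowers _) (by
  rw [C_zpowers, zpowers_le]; exact mem_C1.2 h.at'.symm)
theorem ta2 : t * a * (t * a) = 1 := by
  rw [mul_assoc, ← mul_assoc a, h.at', mul_assoc, h.a2, mul_one, h.t2]
theorem sqV (hg : g ∈ V) : g * g = 1 := by
  rcases h.memV.1 hg with rfl | rfl | rfl | rfl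
  exacts [mul_one 1, h.t2, h.a2, h.ta2]
theorem pigV : PiG {2} V := pig_of_elts fun x hx => pie_of_pow Nat.prime_two (by rw [pow_two, h.sqV hx])
theorem ta1 : t * a ≠ 1 := fun e => h.ne (by rw [← mul_mul_of_ord2 h.ot a, e, mul_one])
theorem ncV : ¬ Cyc V := fun c => h.ne (((mem_zp2 h.t2).1 ((c.eq_of_card (zpowers_le.2 (r_mem_VV t a))
  (zpowers_le.2 (l_mem_VV t a)) (by rw [card_zpowers', card_zpowers', h.oa, h.ot])).le
  (mem_zpowers a))).resolve_left (ne_one_of_ord2 h.oa))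
theorem r3' : ρ * (t * a) * ρ⁻¹ = t := by
  rw [show ρ * (t * a) * ρ⁻¹ = ρ * t * ρ⁻¹ * (ρ * a * ρ⁻¹) by group, h.r1, h.r2, ← mul_assoc, h.at', mul_assoc,
    h.a2, mul_one]
theorem ρN : ρ ∈ N[V] := mem_N_of fun x hx => by
  rcases h.memV.1 hx with rfl | rfl | rfl | rfl <;> simp [h.r1, h.r2, h.r3', h.memV]
theorem oρ : Odd (orderOf ρ) := h.r3 ▸ by decide
theorem oR (hy : y ∈ R) : Odd (orderOf y) := odd_orderOf_of_mem h.odd hy
theorem sq2 (hg : PiE {2} g) : g * g = 1 :=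
  (hg.mul hg rfl).eq_one (odd_iff.2 (h.sq g))
theorem ab2 {P : Subgroup G} (hP : PiG {2} P) : Abel P := le_C_iff.2 fun x hx y hy => by
  have := h.sq2 (hP.elt (mul_mem hx hy))
  rw [← inv_eq_of_mul_eq_one_left this, mul_inv_rev, inv_eq_of_mul_eq_one_left (h.sq2 (hP.elt hx)),
    inv_eq_of_mul_eq_one_left (h.sq2 (hP.elt hy))]
theorem memW : g ∈ V ⊔ R ↔ ∃ v ∈ V, ∃ y ∈ R, g = v * y := mem_sup_l (cents_norm h.RC)
theorem abW : Abel (V ⊔ R) := h.abV.sup h.cyc.abel (cent_symm h.RC)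
theorem WC : V ⊔ R ≤ C[V] := h.abW.trans (centS le_sup_left)
theorem WH (hy : y ∈ R) : V ⊔ R ≤ C1[y] := h.abW.trans (C_le_C1 (mem_sup_right hy))
theorem VH (hy : y ∈ R) : V ≤ C1[y] := le_sup_left.trans (h.WH hy)
theorem Rs (hy : y ∈ R) (c : y ∈ C1[s]) : y = 1 := by
  have := h.inv y hy
  rw [← mem_C1.1 c, mul_inv_cancel_right] at this
  exact eq_one_of_odd (h.oR hy) (mul_eq_one_iff_eq_inv.2 this)
theorem Ws (hg : g ∈ V ⊔ R) (c : g ∈ C1[s]) : g ∈ V := by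
  obtain ⟨v, hv, y, hy, rfl⟩ := h.memW.1 hg
  rwa [h.Rs hy ((mul_mem_cancel_left (le_C1_iff.2 h.sC hv)).1 c), mul_one]
theorem sqW (hv : v ∈ V) (hy : y ∈ R) : v * y * (v * y) = y * y := by
  rw [mul_assoc, ← mul_assoc y, mem_C_comm h.RC hy hv, mul_assoc, ← mul_assoc, h.sqV hv, one_mul]
theorem W2 (hg : g ∈ V ⊔ R) (c : g * g = 1) : g ∈ V := by
  obtain ⟨v, hv, y, hy, rfl⟩ := h.memW.1 hg
  rwa [eq_one_of_odd (h.oR hy) (h.sqW hv hy ▸ c), mul_one]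
theorem invW (hg : g * s ∈ V ⊔ R) (hy : y ∈ R) : g * y * g⁻¹ = y⁻¹ := by
  have := mem_C1.1 (h.WH (inv_mem hy) hg)
  calc _ = g * s * (s * y * s⁻¹) * (g * s)⁻¹ := by
        rw [mul_assoc g s, ← mul_assoc s, ← mul_assoc s s, h.s2, inv_of_ord2 h.os, mul_inv_rev, inv_of_ord2 h.os,
          mul_assoc, mul_assoc, mul_assoc, mul_mul_of_ord2 h.os]; group
    _ = _ := by rw [h.inv y hy, this, mul_inv_cancel_right]
theorem oddR (hg : g ∈ C[V]) (o : Odd (orderOf g)) : g ∈ R := by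
  rcases h.CV g hg with c | c
  · obtain ⟨v, hv, y, hy, rfl⟩ := h.memW.1 c
    exact mem_of_sq o (h.sqW hv hy ▸ mul_mem hy hy)
  · obtain ⟨v, hv, y, hy, e⟩ := h.memW.1 c
    obtain rfl : g = v * y * s := by rw [← e, mul_assoc, h.s2, mul_one]
    refine mem_of_sq o ?_
    rw [show v * y * s * (v * y * s) = v * y * (s * v * s⁻¹) * (s * y * s⁻¹) * (s * s) by group, h.inv y hy, h.s2,
      ← mem_C.1 h.sC v hv, mul_inv_cancel_right, mul_one, show v * y * v * y⁻¹ = v * y * (v * y) * (y * y)⁻¹ by group,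
      h.sqW hv hy, mul_inv_cancel]
    exact one_mem _
theorem NR : N[V] ≤ N[R] := le_N_iff.2 fun g hg y hy =>
  h.oddR (conj_mem (normC le_rfl hg) (h.RC hy)) ((orderOf_conj' g y).symm ▸ h.oR hy)
theorem conjt (hv : v ∈ V) (v1 : v ≠ 1) : ∃ c ∈ zpowers ρ, c * v * c⁻¹ = t := by
  rcases h.memV.1 hv with rfl | rfl | rfl | rfl
  · exact absurd rfl v1
  · exact ⟨1, one_mem _, by simp⟩
  · exact ⟨ρ⁻¹, inv_mem (mem_zpowers ρ), by rw [← h.r1]; group⟩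
  · exact ⟨ρ, mem_zpowers ρ, h.r3'⟩
theorem Cy' (hv : v ∈ V) (v1 : v ≠ 1) (hy : y ∈ R) (y1 : y ≠ 1) : C1[v] ⊓ C1[y] ≤ V ⊔ R := fun g hg => by
  obtain ⟨c, hc, e⟩ := h.conjt hv v1
  have n := zpowers_le.2 h.ρN hc
  refine (mem_N.1 (normY le_rfl h.NR n) g).2 (h.Cy _ (conj_mem (h.NR n) hy) (by simpa [conj_eq_one_iff]) ?_)
  rw [← e, ← cj_C1, ← cj_C1, ← cj_inf]; exact mem_cj_conj.2 hg
theorem NV (hg : g ∈ N[V]) : ∃ c ∈ zpowers ρ, c * g ∈ C[V] := by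
  obtain ⟨c, hc, e⟩ := h.conjt (conj_mem hg (l_mem_VV t a)) (by simpa [conj_eq_one_iff] using ne_one_of_ord2 h.ot)
  have n : c * g ∈ N[V] := mul_mem (zpowers_le.2 h.ρN hc) hg
  have c1 : c * g * t = t * (c * g) := mul_inv_eq_iff_eq_mul.1 (by simpa [mul_assoc] using e)
  refine ⟨c, hc, C_VV t a ▸ ⟨mem_C1.2 c1, mem_C1.2 (mul_inv_eq_iff_eq_mul.1 ?_)⟩⟩
  generalize c * g = k at n c1
  rcases h.memV.1 (conj_mem n (r_mem_VV t a)) with e | e | e | e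
  · exact absurd (conj_eq_one_iff.1 e) (ne_one_of_ord2 h.oa)
  · exact absurd (mul_left_cancel ((mul_inv_eq_iff_eq_mul.1 e).trans c1.symm)) h.ne
  · exact e
  have o := h.sq (a * k)
  rw [show a * k * (a * k) = a * (k * a * k⁻¹) * (k * k) by group, e, ← mul_assoc a, h.at', mul_assoc t, h.a2,
    mul_one] at o
  have p := PiE.mul (odd_iff.2 o) (PiE.inv (odd_iff.2 (h.sq k))) (by
    have : Commute t (k * k) := (Commute.symm c1).mul_right (Commute.symm c1)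
    exact ((this.mul_left (.refl _)).inv_right).eq)
  rw [mul_inv_cancel_right] at p
  exact absurd ((pie2 h.ot).eq_one p) (ne_one_of_ord2 h.ot)
theorem Vρ (hv : v ∈ V) (c : v ∈ C1[ρ]) : v = 1 := by
  have e : ρ * v * ρ⁻¹ = v := by rw [← mem_C1.1 c, mul_inv_cancel_right]
  rcases h.memV.1 hv with rfl | rfl | rfl | rfl
  · rfl
  · exact absurd (h.r1.symm.trans e) h.ne
  · exact absurd (mul_eq_right.1 (h.r2.symm.trans e)) (ne_one_of_ord2 h.ot)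
  · exact absurd (mul_eq_left.1 (h.r3'.symm.trans e).symm) (ne_one_of_ord2 h.oa)

section
variable (hy : y ∈ R) (y1 : y ≠ 1)
include hy y1

theorem sH : s ∉ C1[y] := fun c => y1 (h.Rs hy (C1_symm c))
theorem sN : s ∈ N[C1[y]] := mem_N_iff_cj.2 (by rw [cj_C1, h.inv y hy, C1_inv])
theorem JV (hv : v ∈ V) (v1 : v ≠ 1) (h1 : g ∈ C1[v]) (h2 : g ∈ C1[y]) (h3 : g ∈ C1[s]) : g ∈ V :=
  h.Ws (h.Cy' hv v1 hy y1 ⟨h1, h2⟩) h3
theorem sylV : Syl 2 V C1[y] := syl_of_max Nat.prime_two (h.VH hy) h.pigV fun Q h1 h2 h3 =>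
  le_antisymm (fun x hx => h.W2 (h.Cy y hy y1 ⟨C_le_C1 (h3 (l_mem_VV t a)) (h.ab2 h1 hx), h2 hx⟩)
    (h.sq2 (h1.elt hx))) h3
theorem odd_le {O : Subgroup G} (o : PiG {2}ᶜ O) (h1 : O ≤ C1[y]) (h2 : V ≤ N[O]) : O ≤ R :=
  cop_gen_cent1 h.abV h.ncV h2 (h.pigV.coprime o) fun v hv v1 x hx =>
    h.oddR (h.WC (h.Cy' hv v1 hy y1 ⟨hx.2, h1 hx.1⟩)) (odd_iff.1 (o.elt hx.1))

theorem bad (n : ¬ C1[y] ≤ C1[t]) : ρ ∈ C1[y] := by
  by_cases c : C1[y] ⊓ N[V] ≤ C[V]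
  · have p := (burnside Nat.prime_two (h.sylV hy y1) c).sdprod (h.sylV hy y1)
    refine absurd (p.sup.ge.trans (sup_le ((h.odd_le hy y1 (O_pig _ _) (O_le _ _) p.norm).trans ?_) ?_)) n
    · exact h.RC.trans (C_le_C1 (l_mem_VV t a))
    · exact h.abV.trans (C_le_C1 (l_mem_VV t a))
  obtain ⟨g, hg, n⟩ := SetLike.not_le_iff_exists.1 c
  obtain ⟨c, hc, e⟩ := h.NV hg.2
  have cH : c ∈ C1[y] := by
    rcases h.CV _ e with k | k
    · exact (Subgroup.mul_mem_cancel_right _ hg.1).1 (h.WH hy k)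
    · have := h.invW k hy
      rw [show c * g * y * (c * g)⁻¹ = c * (g * y * g⁻¹) * c⁻¹ by group, mem_C1.1 hg.1, mul_inv_cancel_right] at this
      exact absurd (not_inv (odd_orderOf_of_mem (by rw [card_zpowers']; exact h.oρ) hc) (h.oR hy) this) y1
  rcases zp3 h.r3 hc with rfl | rfl | rfl
  · exact absurd (one_mul g ▸ e) n
  · exact cH
  · exact inv_mem_iff.1 cH

theorem memX : g ∈ C1[y] ⊔ zpowers s ↔ g ∈ C1[y] ∨ g * s⁻¹ ∈ C1[y] :=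
  mem_sup_zpowers_iff (fun a ha => conj_mem (h.sN hy y1) ha) (h.s2 ▸ one_mem _)
theorem invX (c : g * s⁻¹ ∈ C1[y]) : g * y * g⁻¹ = y⁻¹ := by
  rw [show g * y * g⁻¹ = g * s⁻¹ * (s * y * s⁻¹) * (g * s⁻¹)⁻¹ by group, h.inv y hy,
    mem_C1.1 (C1_inv y ▸ c : g * s⁻¹ ∈ C1[y⁻¹]), mul_inv_cancel_right]

/-- `C(y) = R C(y, s)` -/
theorem dec (hg : g ∈ C1[y]) : ∃ b ∈ R, ∃ j ∈ C1[y] ⊓ C1[s], g = b * j := by
  set X := C1[y] ⊔ zpowers s
  have sX : s ∈ X := mem_sup_right (mem_zpowers s)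
  have XN : X ≤ N[C1[y]] := sup_le (normG _) (zpowers_le.2 (h.sN hy y1))
  set S := V ⊔ zpowers s
  have mS : ∀ x, x ∈ S ↔ x ∈ V ∨ x * s⁻¹ ∈ V := fun x =>
    mem_sup_zpowers_iff (fun a ha => conj_mem (C_le_N _ h.sC) ha) (h.s2 ▸ one_mem _)
  have p2 : PiG {2} S := h.pigV.sup_l (pig2 h.os) (zpowers_le.2 (C_le_N _ h.sC))
  have sS : s ∈ S := mem_sup_right (mem_zpowers s)
  have hS : Syl 2 S ⊤ := syl_of_max Nat.prime_two le_top p2 fun Q h1 _ h3 => le_antisymm (fun x hx => by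
    have c := h.ab2 h1 hx
    have c1 := C_le_C1 (h3 sS) c
    rcases h.CV x (centS (le_sup_left.trans h3) c) with k | k
    · exact mem_sup_left (h.Ws k c1)
    · exact (mS x).2 (.inr (by rw [inv_of_ord2 h.os]; exact h.Ws k (mul_mem c1 (mem_C1_self s))))) h3
  have SX : S ≤ X := sup_le_sup_right (h.VH hy) _
  have SH : S ⊓ C1[y] = V := le_antisymm (fun x hx => ((mS x).1 hx.1).resolve_right fun k => h.sH hy y1 (by
    simpa using mul_mem (inv_mem (h.VH hy k)) hx.2)) (le_inf le_sup_left (h.VH hy))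
  have iso : IsIsolatedInvolution (⟨s, sX⟩ : X) := ⟨(orderOf_coe _).symm.trans h.os, fun x c => Subtype.ext (by
    have c' : s * (x * s * x⁻¹) = x * s * x⁻¹ * s := congrArg Subtype.val c.eq
    have m : x * s * x⁻¹ ∈ X := (x * ⟨s, sX⟩ * x⁻¹).2
    have l : S ≤ X ⊓ C1[s] := le_inf SX (le_C1_iff.2 (h.ab2 p2 sS))
    obtain ⟨c, hc, e⟩ := Syl.cj_sub (hS.sub l le_top) Nat.prime_two (zpowers_le.2 ⟨m, mem_C1.2 c'.symm⟩)
      (pig2 ((orderOf_conj' _ s).trans h.os))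
    obtain ⟨n, hn, e'⟩ := abel_fusion Nat.prime_two (hS.sub SX le_top) (h.ab2 p2) sS (mul_mem hc.1 x.2)
      (by simpa [mul_assoc] using e (mem_cj_conj.2 (mem_zpowers _)))
    obtain ⟨d, hd, k⟩ := h.NV (SH ▸ normI (le_refl (zpowers n)|>.trans (zpowers_le.2 hn.2)) (zpowers_le.2 (XN hn.1))
      (mem_zpowers n))
    have ds : d ∈ C1[s] := zpowers_le.2 (mem_C1.2 h.rs) hd
    have dn : d * n ∈ N[S] := mul_mem (normY (zpowers_le.2 h.ρN) (norm_zpowers (zpowers_le.2 (mem_C1.2 h.rs))) hd) hn.2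
    have key : ∀ w ∈ V ⊔ R, w ∈ N[S] → w ∈ C1[s] := fun w hw nw => by
      obtain ⟨v, hv, b, hb, rfl⟩ := h.memW.1 hw
      have nb : b ∈ N[S] := (mul_mem_cancel_left (normG S (mem_sup_left hv))).1 nw
      have := mul_mem (conj_mem nb sS) (inv_mem sS)
      rw [show b * s * b⁻¹ * s⁻¹ = b * (s * b * s⁻¹)⁻¹ by group, h.inv b hb, inv_inv] at this
      rw [eq_one_of_odd (h.oR hb) ((p2.elt this).eq_one (odd_iff.2 (h.sq b))), mul_one]
      exact le_C1_iff.2 h.sC hv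
    have ns : n ∈ C1[s] := (mul_mem_cancel_left ds).1 ((h.CV _ k).elim (fun k => key _ k dn) fun k =>
      (mul_mem_cancel_right (mem_C1_self s)).1 (key _ k (mul_mem dn (normG S sS))))
    rw [mem_C1.1 ns, mul_inv_cancel_right] at e'
    calc (x * s * (x : G)⁻¹ : G) = c⁻¹ * (c * x * s * (c * x)⁻¹) * c := by group
      _ = s := by rw [← e', mul_assoc, ← mem_C1.1 hc.2]; group)⟩
  have z : s * g * s⁻¹ * g⁻¹ ∈ O[{2}ᶜ](X) := by
    rw [← pPrimeCore_map Nat.prime_two]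
    exact ⟨_, Blk.zstar iso ⟨g, mem_sup_left hg⟩, rfl⟩
  have OR : O[{2}ᶜ](X) ≤ R := h.odd_le hy y1 (O_pig _ _) (fun x hx => ((h.memX hy y1).1 (O_le _ _ hx)).resolve_right
    fun k => y1 (not_inv (odd_iff.1 ((O_pig _ _).elt hx)) (h.oR hy) (h.invX hy y1 k)))
    ((le_sup_left.trans SX).trans (O_norm _ _))
  obtain ⟨m, e⟩ := exists_sqrt_of_odd (h.oR (OR z))
  set b := (s * g * s⁻¹ * g⁻¹) ^ m
  have hb : b ∈ R := pow_mem (OR z) m
  refine ⟨b⁻¹, inv_mem hb, b * g, ⟨mul_mem (h.WH hy (mem_sup_right hb)) hg, mem_C1'.2 ?_⟩, by group⟩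
  rw [show s * (b * g) = s * b * s⁻¹ * (s * g * s⁻¹ * g⁻¹) * g * s by group, h.inv b hb, ← e]; group

end

theorem not_three : ¬ 3 ∣ #R := fun d => by
  obtain ⟨y, hy, oy⟩ := cauchy Nat.prime_three d
  have y1 : y ≠ 1 := fun e => by simp [e] at oy
  have ρy : ρ ∈ C1[y] := C_zpowers y ▸ PiG.cent_of_prime (pig_of_card' Nat.prime_three ((card_zpowers' ρ).trans h.r3))
    Nat.prime_three ((card_zpowers' y).trans oy) (h.cyc.norm_sub (zpowers_le.2 hy) (zpowers_le.2 (h.NR h.ρN)))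
    (mem_zpowers ρ)
  obtain ⟨c, e⟩ := isConj_iff.1 (h.cls s h.os).symm
  have tH := h.VH hy (l_mem_VV t a)
  obtain ⟨c', hc, e'⟩ := conj3 Nat.prime_three (h.c3 d t h.ot) (x := c * ρ * c⁻¹)
    (by rw [← e, ← cj_C1]; exact mem_cj_conj.2 (mem_C1.2 h.rs)) (C1_symm tH) ((orderOf_conj' c ρ).trans h.r3) oy
  obtain ⟨g, g1, g2⟩ : ∃ g, g * s * g⁻¹ = t ∧ g * ρ * g⁻¹ ∈ zpowers y := ⟨c' * c, by
    rw [show c' * c * s * (c' * c)⁻¹ = c' * (c * s * c⁻¹) * c'⁻¹ by group, e, mem_C1.1 hc, mul_inv_cancel_right],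
    by simpa [mul_assoc] using e'⟩
  have pm : ∀ {x z : G}, orderOf x = 3 → orderOf z = 3 → z ∈ zpowers x → z = x ∨ z = x⁻¹ := fun hx hz m =>
    (zp3 hx m).resolve_left fun e => by simp [e] at hz
  have zH : g * y * g⁻¹ ∈ C1[y] := by
    have : g * y * g⁻¹ ∈ C1[g * ρ * g⁻¹] := cj_C1 g ρ ▸ mem_cj_conj.2 (C1_symm ρy)
    rcases pm oy ((orderOf_conj' g ρ).trans h.r3) g2 with e | e <;> rw [e] at this
    exacts [this, C1_inv y ▸ this]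
  set z := g * y * g⁻¹ with hz
  have oz : orderOf z = 3 := (orderOf_conj' g y).trans oy
  have tz : t * z * t⁻¹ = z⁻¹ := by
    rw [← g1, show g * s * g⁻¹ * z * (g * s * g⁻¹)⁻¹ = g * (s * y * s⁻¹) * g⁻¹ by rw [hz]; group, h.inv y hy, hz]; group
  obtain ⟨b, hb, j, hj, k⟩ := h.dec hy y1 (inv_mem zH)
  have tJ : t ∈ C1[y] ⊓ C1[s] := ⟨tH, le_C1_iff.2 h.sC (l_mem_VV t a)⟩
  have zJ : z ∈ C1[y] ⊓ C1[s] := mem_of_sq (oz ▸ by decide) (by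
    have := mul_mem (conj_mem' (normG _ hj) tJ) (inv_mem tJ)
    rwa [show j⁻¹ * t * j = (b * j)⁻¹ * (b * t * b⁻¹) * (b * j) by group, ← k, ← mem_C.1 (h.RC hb) t (l_mem_VV t a),
      mul_inv_cancel_right, inv_inv, show z * t * z⁻¹ * t⁻¹ = z * (t * z * t⁻¹)⁻¹ by group, tz, inv_inv] at this)
  obtain ⟨k, hk, e⟩ := conj3 Nat.prime_three (M := C1[y] ⊓ C1[s]) (fun P l => h.c3 d s h.os P (l.trans inf_le_right))
    zJ ⟨ρy, mem_C1.2 h.rs⟩ oz h.r3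
  have f1 : k * g * ρ * (k * g)⁻¹ ∈ zpowers y := by
    simpa [mul_assoc] using conj_mem (norm_zpowers le_rfl hk.1) g2
  have f2 : k * g * y * (k * g)⁻¹ ∈ zpowers ρ := by simpa [hz, mul_assoc] using e
  generalize k * g = x at f1 f2
  have sρ : s * ρ * s⁻¹ = ρ := by rw [← h.rs, mul_inv_cancel_right]
  have A := fun e => y1 (not_inv (h.sq x) (h.oR hy) e)
  have B := fun e => y1 (not_inv (h.sq (x * s)) (h.oR hy) e)
  rw [show x * x * y * (x * x)⁻¹ = x * (x * y * x⁻¹) * x⁻¹ by group] at A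
  rw [show x * s * (x * s) * y * (x * s * (x * s))⁻¹ = x * (s * (x * (s * y * s⁻¹)⁻¹ * x⁻¹) * s⁻¹)⁻¹ * x⁻¹ by group,
    h.inv y hy, inv_inv] at B
  rcases pm oy ((orderOf_conj' x ρ).trans h.r3) f1 with e1 | e1 <;>
    rcases pm h.r3 ((orderOf_conj' x y).trans oy) f2 with e2 | e2 <;> rw [e2] at A B
  · exact B (by rw [sρ, ← e1]; group)
  · exact A (by rw [← e1]; group)
  · exact A e1
  · exact B (by rw [← e1, show (s * ρ⁻¹ * s⁻¹)⁻¹ = s * ρ * s⁻¹ by group, sρ])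

theorem no4 (hv : orderOf v = 2) (hg : orderOf g = 2) (n : v ≠ g) (c : v * g = g * v) (h1 : v ∈ C1[ρ])
    (h2 : g ∈ C1[ρ]) : False := by
  obtain ⟨x, e⟩ := h.four v g hv hg n c
  have := h.oddR (g := x * ρ * x⁻¹) (by
    rw [← e, ← cj_C]; exact mem_cj_conj.2 (le_C1_iff.1 (VV_le.2 ⟨h1, h2⟩))) ((orderOf_conj' x ρ).symm ▸ h.oρ)
  exact h.not_three (h.r3 ▸ orderOf_conj' x ρ ▸ orderOf_dvd this)

theorem lemK (hy : y ∈ R) (y1 : y ≠ 1) (ρy : ρ ∈ C1[y]) (h1 : g ∈ C1[y] ⊓ C1[s]) (h2 : g ∈ C1[ρ]) :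
    g ∈ zpowers ρ := by
  have tV := l_mem_VV t a
  have t1 := ne_one_of_ord2 h.ot
  have VJ : V ≤ C1[y] ⊓ C1[s] := le_inf (h.VH hy) (le_C1_iff.2 h.sC)
  have m : g * t * g⁻¹ ∈ C1[y] ⊓ C1[s] := conj_mem (normG _ h1) (VJ tV)
  have o := (orderOf_conj' g t).trans h.ot
  rcases Nat.even_or_odd (orderOf (t * (g * t * g⁻¹))) with ev | od
  · obtain ⟨z1, z2, z3⟩ := s0209 _ _ h.ot o ev
    have zJ := pow_mem (mul_mem (VJ tV) m) (orderOf (t * (g * t * g⁻¹)) / 2)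
    have zV := h.JV hy y1 tV t1 (mem_C1.2 z2.eq) zJ.1 zJ.2
    have a1 := h.JV hy y1 zV (ne_one_of_ord2 z1) (mem_C1'.2 z3.eq) m.1 m.2
    have a2 : g * a * g⁻¹ ∈ V := by
      have := conj_mem h.ρN a1
      rwa [show ρ * (g * t * g⁻¹) * ρ⁻¹ = ρ * g * t * (ρ * g)⁻¹ by group, ← mem_C1.1 h2,
        show g * ρ * t * (g * ρ)⁻¹ = g * (ρ * t * ρ⁻¹) * g⁻¹ by group, h.r1] at this
    obtain ⟨c, hc, e⟩ := h.NV (mem_N_of_cj_le (by rw [GW.cj_VV]; exact VV_le.2 ⟨a1, a2⟩))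
    have cJ : c * g ∈ C1[y] ⊓ C1[s] := mul_mem (zpowers_le.2 (mem_inf.2 ⟨ρy, mem_C1.2 h.rs⟩) hc) h1
    have := h.Vρ (h.JV hy y1 tV t1 (C_le_C1 tV e) cJ.1 cJ.2) (mul_mem (zpowers_le.2 (mem_C1_self ρ) hc) h2)
    rw [eq_inv_of_mul_eq_one_right this]; exact inv_mem hc
  obtain ⟨k, e⟩ := exists_zpow_conj_of_odd h.t2 (sq_of_ord2 o) od
  set d := (t * (g * t * g⁻¹)) ^ k
  have dJ : d ∈ C1[y] ⊓ C1[s] := zpow_mem (mul_mem (VJ tV) m) k
  have j2 : d * t * (d * t) = 1 := by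
    have := conj_zpow_inv (inverts_left h.t2 (sq_of_ord2 o)) k
    rw [show d * t * (d * t) = d * (t * d * t⁻¹) * (t * t) by group, this, h.t2, zpow_neg]; simp [d]
  have eJ : g⁻¹ * (d * t) ∈ C1[y] ⊓ C1[s] := mul_mem (inv_mem h1) (mul_mem dJ (VJ tV))
  have eV := h.JV hy y1 tV t1 (mem_C1.2 (by
    calc _ = g⁻¹ * (d * t * d⁻¹) * d * t := by group
      _ = _ := by rw [e]; group)) eJ.1 eJ.2
  obtain ⟨v, hv, k⟩ : ∃ v ∈ V, g * v * (g * v) = 1 := ⟨_, eV, by simpa using j2⟩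
  have g1 : g ∈ V → g ∈ zpowers ρ := fun c => h.Vρ c h2 ▸ one_mem _
  by_cases v1 : v = 1
  · rw [v1, mul_one] at k
    by_contra n
    exact h.no4 (ord2_iff.2 ⟨k, fun e => n (e ▸ one_mem _)⟩) h.os (fun e => h.sH hy y1 (e ▸ h1.1)) (mem_C1.1 h1.2) h2
      (mem_C1'.2 h.rs)
  have v' := conj_mem h.ρN hv
  have k' : g * (ρ * v * ρ⁻¹) * (g * (ρ * v * ρ⁻¹)) = 1 := by
    have c : ρ * g * ρ⁻¹ = g := by rw [← mem_C1.1 h2, mul_inv_cancel_right]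
    rw [← c, show ρ * g * ρ⁻¹ * (ρ * v * ρ⁻¹) * (ρ * g * ρ⁻¹ * (ρ * v * ρ⁻¹)) = ρ * (g * v * (g * v)) * ρ⁻¹ by group, k]
    simp
  have ne : v * (ρ * v * ρ⁻¹) ≠ 1 := fun e => v1 (h.Vρ hv (mem_C1'.2 (mul_inv_eq_iff_eq_mul.1
    (mul_left_cancel (e.trans (h.sqV hv).symm)))))
  generalize ρ * v * ρ⁻¹ = w at v' k' ne
  refine g1 (h.JV hy y1 (mul_mem hv v') ne (mem_C1.2 ?_) h1.1 h1.2)
  have i1 : v * g * v = g⁻¹ := eq_inv_of_mul_eq_one_right (by rw [← k]; group)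
  have i2 : w * g⁻¹ * w = g := by
    have : (w * g * w)⁻¹ = g := inv_eq_of_mul_eq_one_left (by rw [← k']; group)
    rwa [mul_inv_rev, mul_inv_rev, inv_eq_of_mul_eq_one_left (h.sqV v'), ← mul_assoc] at this
  calc g * (v * w) = w * (v * g * v) * w * (v * w) := by rw [i1, i2]
    _ = w * v * g * (v * w * (v * w)) := by group
    _ = _ := by rw [h.sqV (mul_mem hv v'), mul_one, mem_C_comm h.abV hv v']

theorem main (hy : y ∈ R) (y1 : y ≠ 1) : C1[y] ≤ C1[t] := by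
  by_contra n
  obtain ⟨y', m, pr⟩ := exists_prime_pow_mem y1
  replace n : ¬ C1[y'] ≤ C1[t] := fun c => n ((C1_le_of_mem_zpowers m).trans c)
  replace hy := zpowers_le.2 hy m
  replace y1 : y' ≠ 1 := fun e => by simp [e, Nat.not_prime_one] at pr
  clear m
  have ρy := h.bad hy y1 n
  set m := orderOf y' with hm
  have mR : m ∣ #R := orderOf_dvd hy
  have m3 : m ≠ 3 := fun e => h.not_three (e ▸ mR)
  have m2 : m ≠ 2 := fun e => absurd (h.oR hy) (by rw [← hm, e]; decide)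
  set M := C1[ρ]
  have sM : s ∈ M := mem_C1'.2 h.rs
  have syl : Syl 2 (zpowers s) M := syl_of_max Nat.prime_two (zpowers_le.2 sM) (pig2 h.os) fun Q h1 h2 h3 =>
    le_antisymm (fun x hx => by_contra fun k => h.no4 (ord2_iff.2 ⟨h.sq2 (h1.elt hx), fun e => k (e ▸ one_mem _)⟩) h.os
      (fun e => k (e ▸ mem_zpowers s)) (mem_C_comm (h.ab2 h1) hx (h3 (mem_zpowers s))) (h2 hx) sM) h3
  have pn := burnside Nat.prime_two syl fun x hx => C_zpowers s ▸ mem_C1.2 (mul_inv_eq_iff_eq_mul.1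
    (((mem_zp2 h.s2).1 (conj_mem hx.2 (mem_zpowers s))).resolve_left
      fun e => ne_one_of_ord2 h.os (conj_eq_one_iff.1 e)))
  have sd := pn.sdprod syl
  set Y := O[{2}ᶜ](M)
  have inY : ∀ x ∈ M, Odd (orderOf x) → x ∈ Y := fun x hx o => pn.mem_of_normal (O_norm _ _) (odd_iff.2 o) hx
  have oY : PiG {2}ᶜ Y := O_pig _ _
  set B := R ⊓ M ⊔ zpowers ρ
  have cB : zpowers ρ ≤ C[R ⊓ M] := cent_symm (C_zpowers ρ ▸ inf_le_right)
  have aB : Abel B := (h.cyc.abel.of_le inf_le_left).sup (abel_zpowers ρ) (cent_symm cB)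
  have HB : ∀ x ∈ M, x ∈ C1[y'] → x ∈ B := fun x h1 h2 => by
    obtain ⟨b, hb, j, hj, rfl⟩ := h.dec hy y1 h2
    have e : b⁻¹ * (ρ * b * ρ⁻¹) = j * (ρ * j⁻¹ * ρ⁻¹) := by
      calc _ = b⁻¹ * (ρ * (b * j)) * j⁻¹ * ρ⁻¹ := by group
        _ = _ := by rw [← mem_C1.1 h1]; group
    have := h.Rs (mul_mem (inv_mem hb) (conj_mem (h.NR h.ρN) hb))
      (e ▸ mul_mem hj.2 (conj_mem (normG _ (mem_C1.2 h.rs)) (inv_mem hj.2)))
    have bM : b ∈ M := mem_C1'.2 (mul_inv_eq_iff_eq_mul.1 (inv_mul_eq_one.1 this).symm)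
    exact mul_mem (mem_sup_left ⟨hb, bM⟩) (mem_sup_right (h.lemK hy y1 ρy hj ((mul_mem_cancel_left bM).1 h1)))
  have NH : ∀ x ∈ N[zpowers y'], Odd (orderOf x) → x ∈ C1[y'] := fun x hx o => by
    obtain ⟨c, hc, k, hk, rfl⟩ := ((h.sylV hy y1).frattini Nat.prime_two (M := N[zpowers y'])
      (C_zpowers y' ▸ C_le_N _) (C_zpowers y' ▸ normC le_rfl)).ex x hx
    obtain ⟨d, hd, e⟩ := h.NV hk.2
    have dH := zpowers_le.2 ρy hd
    rcases h.CV _ e with l | l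
    · exact mul_mem hc ((mul_mem_cancel_left dH).1 (h.WH hy l))
    · refine absurd (not_inv o (h.oR hy) (h.invX hy y1 ?_)) y1
      rw [inv_of_ord2 h.os, mul_assoc]
      exact mul_mem hc ((mul_mem_cancel_left dH).1 (mul_assoc d k s ▸ h.WH hy l))
  have pK : PiG {m} (zpowers y') := pig_of_card' pr (card_zpowers' y')
  obtain ⟨Q, hQ, l⟩ := syl_superset pr (M := R ⊓ M) (zpowers_le.2 (mem_inf.2 ⟨hy, C1_symm ρy⟩)) pK
  have QY : Q ≤ Y := fun x hx => inY x (hQ.le hx).2 (h.oR (hQ.le hx).1)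
  have NB : Y ⊓ N[Q] ≤ B := fun x hx => HB x (O_le _ _ hx.1) (NH x ((h.cyc.of_le (hQ.le.trans inf_le_left)).norm_sub l
    le_rfl hx.2) (odd_iff.1 (oY.elt hx.1)))
  have p3 : PiE {m}ᶜ ρ := by
    show PiN _ _
    rw [h.r3]; exact (pin_prime Nat.prime_three).2 m3.symm
  have sB : Syl m Q B := hQ.trans' le_sup_left (by
    rw [relIndex_sup_l (cents_norm cB)]; exact (pig_zpowers.2 p3).relIndex _)
  have sY : Syl m Q Y := Syl.of_norm (sB.sub (le_inf QY (normG Q)) NB) pr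
  have pm := burnside pr sY (NB.trans (aB.trans (centS sB.le)))
  set P := O[{m}ᶜ](Y)
  have PY : P ≤ Y := O_le _ _
  have yY : zpowers y' ≤ Y := l.trans QY
  have w := wielandt_aux _ (K := zpowers y') (R := zpowers s) (M := P) rfl
    (fun x hx x1 => eq_bot_iff.2 fun b hb => h.Rs (zpowers_le.2 hy hb.1)
      (((mem_zp2 h.s2).1 hx).resolve_left x1 ▸ hb.2))
    (h.cyc.norm_sub (zpowers_le.2 hy) (zpowers_le.2 (h.NR (C_le_N _ h.sC)))) (yY.trans (O_norm _ _)) (normO _ sd.norm)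
    (PiN.cop (π := {m, 2}) (ρ := {m}ᶜ ∩ {2}ᶜ) (PiG.sup_l (pK.single_mono (by simp)) ((pig2 h.os).single_mono (by simp))
      (h.cyc.norm_sub (zpowers_le.2 hy) (zpowers_le.2 (h.NR (C_le_N _ h.sC))))) ((O_pig _ _).inter (oY.of_le PY))
      fun p _ a b => a.elim b.1 b.2) ((SE.sol_of_odd (odd_iff.1 oY)).of_le PY)
  have e1 : P ⊓ C[zpowers y' ⊔ zpowers s] = zpowers ρ := by
    rw [C_sup, C_zpowers, C_zpowers]
    exact le_antisymm (fun x hx => h.lemK hy y1 ρy hx.2 (O_le _ _ (PY hx.1))) (zpowers_le.2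
      ⟨pm.mem_of_normal (O_norm _ _) p3 (inY ρ (mem_C1_self ρ) h.oρ), ρy, mem_C1.2 h.rs⟩)
  obtain ⟨k, c1, c2⟩ := h.c3' h.not_three
  have c3 := (sd.modr (zpowers_le.2 (mem_C1_self s))).card
  rw [c1, card_zpowers', h.os] at c3
  have d1 : (m : ℤ) ∣ k ^ 2 - 1 := (Int.natCast_dvd_natCast.2 mR).trans c2
  have mk : ¬ m ∣ k := fun d => pr.one_lt.ne' (by
    have := (dvd_sub_right ((Int.natCast_dvd_natCast.2 d).trans (dvd_pow_self _ two_ne_zero))).1 d1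
    exact_mod_cast Int.eq_one_of_dvd_one (by positivity) this)
  have e2 : P ⊓ C[zpowers s] = Y ⊓ C1[s] := by
    rw [C_zpowers]
    exact le_antisymm (inf_le_inf_right _ PY) (le_inf (pm.le_O inf_le_left
      ((pin_compl pr).2 (by rwa [show #(Y ⊓ C1[s]) = k by omega]))) inf_le_right)
  rw [e1, e2, card_zpowers', card_zpowers', h.r3, h.os, show #(Y ⊓ C1[s]) = k by omega] at w
  have md := pK.card_modEq pr (yY.trans (O_norm {m}ᶜ Y))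
  have cm : ¬ m ∣ #(P ⊓ C[zpowers y']) := (pin_compl pr).1 ((O_pig _ _).of_le inf_le_left)
  set c := #(P ⊓ C[zpowers y'])
  have d2 := (Nat.modEq_iff_dvd.1 md)
  have w' : (9 : ℤ) * #P = k ^ 2 * c := by exact_mod_cast w
  have d3 : (m : ℤ) ∣ 2 ^ 3 * c := by
    have := (d2.mul_left 9).add (d1.mul_right c)
    rwa [show 9 * ((c : ℤ) - #P) + (k ^ 2 - 1) * c = 2 ^ 3 * c by linear_combination -w'] at this
  rcases (Nat.Prime.dvd_mul pr).1 (show m ∣ 2 ^ 3 * c by exact_mod_cast d3) with d | d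
  · exact m2 ((Nat.prime_dvd_prime_iff_eq pr Nat.prime_two).1 (pr.dvd_of_dvd_pow d))
  · exact cm d

end Cf
end Cfsg.Agent.JT.Rd
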