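import Cfsg.Agent.JT.Red
import Cfsg.Agent.SE.Fin
import Cfsg.Agent.Class.Uni

/-! The cases `q` even and `q = 3` of the Janko–Thompson–Ward theorem. -/

set_option autoImplicit false
set_option linter.unusedVariables false
set_option linter.unusedSectionVars false

namespace Cfsg.Agent.JT.Rd

open Cfsg Cfsg.Agent.BG Cfsg.Agent.Inv Subgroup
open GW (mkS mt_inj ent mt_det)
open scoped MatrixGroups

theorem even_facts {F : Type*} [Field F] [Finite F] (h2 : (2 : F) = 0) {L : Type*} [Group L]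
    (e : L ≃* PSL(2, F)) : ∃ u : L, orderOf u = 2 ∧ (∀ v, orderOf v = 2 → IsConj u v) ∧
      #C1[u] = Nat.card F ∧ ∀ x ∈ C1[u], x * x = 1 := by
  have := Fintype.ofFinite F
  have ng : ∀ a : F, -a = a := fun a => by linear_combination -a * h2
  let e' : SL(2, F) ≃* L := (MulEquiv.ofBijective (QuotientGroup.mk' _) ⟨fun A B h =>
    ((Class.psl_eq_iff.1 h).elim id fun e => e.trans (by ext i j; simp [ng])).symm,
    QuotientGroup.mk'_surjective _⟩).trans e.symm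
  let f : F → SL(2, F) := fun b => mkS !![1, b; 0, 1] (by simp [Matrix.det_fin_two])
  have ff : ∀ b, f b * f b = 1 := fun b => mt_inj.1 (by
    ext i j; fin_cases i <;> fin_cases j <;> simp [f]
    linear_combination b * h2)
  have f1 : f 1 ≠ 1 := fun h => by simpa [f] using (ent (mt_inj.2 h)).2.1
  have mC : ∀ A : SL(2, F), A * f 1 = f 1 * A ↔ ∃ b, A = f b := fun A => by
    refine ⟨fun h => ⟨GW.mt A 0 1, mt_inj.1 ?_⟩, ?_⟩
    · obtain ⟨a, b, -⟩ := ent (mt_inj.2 h)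
      have d := (Matrix.det_fin_two _).symm.trans (mt_det A)
      simp [f, Matrix.mul_apply] at a b
      have c : GW.mt A 0 0 = 1 := by
        have : (GW.mt A 0 0 - 1) ^ 2 = 0 := by
          linear_combination d + GW.mt A 0 1 * a + GW.mt A 0 0 * b + (1 - GW.mt A 0 0) * h2
        exact sub_eq_zero.1 (pow_eq_zero_iff two_ne_zero |>.1 this)
      ext i j; fin_cases i <;> fin_cases j <;> simp [f, a, c]
      linear_combination c - b
    · rintro ⟨b, rfl⟩
      refine mt_inj.1 ?_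
      ext i j; fin_cases i <;> fin_cases j <;> simp [f, add_comm]
  have mC' : ∀ x, x ∈ C1[e' (f 1)] ↔ ∃ b, x = e' (f b) := fun x => by
    obtain ⟨A, rfl⟩ := e'.surjective x
    simp only [mem_C1, ← map_mul, e'.injective.eq_iff, mC]
  refine ⟨e' (f 1), ord2_iff.2 ⟨by rw [← map_mul, ff, map_one], by simpa using f1⟩, fun v hv => ?_,
    (Nat.card_congr (Equiv.ofBijective (fun b => ⟨e' (f b), (mC' _).2 ⟨b, rfl⟩⟩) ⟨fun a b h => ?_, fun x => ?_⟩)).symm,
    fun x hx => ?_⟩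
  · obtain ⟨A, rfl⟩ := e'.surjective v
    refine e'.toMonoidHom.map_isConj ?_
    obtain ⟨v1, v2⟩ := ord2_iff.1 hv
    rw [← map_mul, map_eq_one_iff _ e'.injective] at v1
    obtain ⟨a, -, -, b⟩ := ent (mt_inj.2 v1)
    have sq := FiniteField.isSquare_of_char_two (F := F) (((Nat.dvd_prime Nat.prime_two).1
      ((ringChar.spec F 2).1 (by exact_mod_cast h2))).resolve_left CharP.ringChar_ne_one)
    simp [Matrix.mul_apply] at a b
    obtain ⟨β, hb⟩ := sq (GW.mt A 0 1)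
    obtain ⟨γ, hc⟩ := sq (GW.mt A 1 0)
    have a0 : GW.mt A 0 0 = 1 + β * γ := by
      have : (GW.mt A 0 0 - (1 + β * γ)) ^ 2 = 0 := by
        rw [hb, hc] at a
        linear_combination a + (1 + β * γ - GW.mt A 0 0 * (1 + β * γ)) * h2
      exact sub_eq_zero.1 (pow_eq_zero_iff two_ne_zero |>.1 this)
    have a1 : GW.mt A 1 1 = 1 + β * γ := by
      have : (GW.mt A 1 1 - (1 + β * γ)) ^ 2 = 0 := by
        rw [hb, hc] at b
        linear_combination b + (1 + β * γ - GW.mt A 1 1 * (1 + β * γ)) * h2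
      exact sub_eq_zero.1 (pow_eq_zero_iff two_ne_zero |>.1 this)
    obtain ⟨x, y, k⟩ : ∃ x y, β * y - x * γ = 1 := by
      by_cases b0 : β = 0
      · by_cases c0 : γ = 0
        · refine absurd ?_ v2
          rw [map_eq_one_iff _ e'.injective, ← mt_inj]
          ext i j; fin_cases i <;> fin_cases j <;> simp [a0, a1, hb, hc, b0, c0]
        exact ⟨-γ⁻¹, 0, by field_simp; simp⟩
      exact ⟨0, β⁻¹, by field_simp; simp⟩
    refine isConj_iff.2 ⟨mkS !![β, x; γ, y] (by simpa [Matrix.det_fin_two] using k),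
      mul_inv_eq_iff_eq_mul.2 (mt_inj.1 ?_)⟩
    ext i j; fin_cases i <;> fin_cases j <;> 
      simp [f, Matrix.mul_apply, a0, a1, hb, hc]
    · linear_combination -(β * β * γ) * h2
    · linear_combination -β * k - (β * γ * x) * h2
    · linear_combination -(β * γ * γ) * h2
    · linear_combination -γ * k - (γ * γ * x) * h2
  · simpa [f] using (ent (mt_inj.2 (e'.injective (congrArg Subtype.val h)))).2.1
  · obtain ⟨b, h⟩ := (mC' _).1 x.2
    exact ⟨b, Subtype.ext h.symm⟩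
  · obtain ⟨b, rfl⟩ := (mC' _).1 hx
    rw [← map_mul, ff, map_one]

variable {G L : Type*} [Group G] [Group L] [Finite G]

theorem pig_of_sq {S : Subgroup G} (h : ∀ x ∈ S, x * x = 1) : PiG {2} S :=
  pig_of_elts fun x hx => pie_of_pow Nat.prime_two (by rw [pow_two, h x hx])

namespace CT
variable {t : G} {ι : L →* G} (h : CT t ι) (hab : ∀ S : Subgroup G, Syl 2 S ⊤ → Abel S) {u : L}
  (hu : orderOf u = 2) (hc : ∀ v, orderOf v = 2 → IsConj u v) (h2 : ∀ x ∈ C1[u], x * x = 1)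
include h h2

theorem S_sq {s : G} (hs : s ∈ C1[t] ⊓ C1[ι u]) : s * s = 1 := by
  obtain ⟨x, a, rfl | rfl⟩ := h.mem_map.1 (h.C_eq u ▸ hs)
  · rw [← map_mul, h2 x a, map_one]
  · rw [h.sq, h2 x a, map_one]

include hab hu in
theorem S_syl : Syl 2 (C1[t] ⊓ C1[ι u]) ⊤ := by
  obtain ⟨S, hS, l⟩ := syl_superset (M := ⊤) Nat.prime_two le_top ((GW.pig2 h.ot).sup_l (GW.pig2 ((h.ord u).trans hu))
    (zpowers_le.2 (norm_zpowers le_rfl (h.memC u))))
  rwa [hS.max (pig_of_sq fun _ => h.S_sq h2) le_top (le_inf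
    (le_C1_iff.2 (hab S hS (l (mem_sup_left (mem_zpowers t)))))
    (le_C1_iff.2 (hab S hS (l (mem_sup_right (mem_zpowers _))))))]

include hab hu hc in
theorem even_case [IsSimpleGroup G] (h3 : 3 ≤ #C1[u]) : #C1[u] = 4 := by
  have hS := h.S_syl hab hu h2
  have cS := h.card_C u
  have sq := @h.S_sq _ _ _ _ _ _ _ _ h2
  set S := C1[t] ⊓ C1[ι u] with eS
  have aS := hab S hS
  have tS : t ∈ S := ⟨mem_C1_self t, C1_symm (h.memC u)⟩
  have sN := hS.sub (normG S) le_top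
  obtain ⟨X, sd⟩ := sN.exists_sdprod le_rfl
  have oX : Odd #X := GW.odd_iff.1 (sd.hall_compl sN).pi
  have dec : ∀ n ∈ N[S], ∃ a ∈ S, ∃ x ∈ X, n = a * x ∧ ∀ s ∈ S, x * s * x⁻¹ = n * s * n⁻¹ := fun n hn => by
    obtain ⟨a, ha, x, hx, rfl⟩ := sd.prod.ex n hn
    refine ⟨a, ha, x, hx, rfl, fun s hs => ?_⟩
    rw [show a * x * s * (a * x)⁻¹ = a * (x * s * x⁻¹) * a⁻¹ by group,
      mem_C_comm aS ha (conj_mem (sd.norm hx) hs), mul_inv_cancel_right]
  have tr : ∀ s ∈ S, s ≠ 1 → ∃ x ∈ X, x * t * x⁻¹ = s := fun s hs s1 => by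
    obtain ⟨g, rfl⟩ := isConj_iff.1 (h.cls hab hu hc (ord2_iff.2 ⟨sq hs, s1⟩))
    obtain ⟨n, hn, e⟩ := abel_fusion Nat.prime_two hS aS tS (mem_top g) hs
    obtain ⟨a, -, x, hx, -, k⟩ := dec n hn.2
    exact ⟨x, hx, (k t tS).trans e⟩
  have fx : ∀ k ∈ X, k ≠ 1 → k ∈ C1[t] → S ⊓ C1[k] ≤ zpowers t := fun k hk k1 kt s hs => by
    have o := odd_orderOf_of_mem oX hk
    obtain ⟨z, rfl⟩ := h.of_odd kt o
    by_cases s1 : s = 1
    · exact s1 ▸ one_mem _
    rcases h.invol hs.1.1 (ord2_iff.2 ⟨sq hs.1, s1⟩) with rfl | ⟨v, hv, e⟩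
    · exact mem_zpowers _
    have c : z * v = v * z := h.inj (by
      have := mem_C1.1 hs.2
      rcases e with rfl | rfl
      · simpa using this.symm
      · rw [← mul_assoc, h.comm, mul_assoc, mul_assoc, mul_right_inj] at this
        simpa using this.symm)
    obtain ⟨g, rfl⟩ := isConj_iff.1 (hc v hv)
    have := h2 (g⁻¹ * z * g) (mem_C1.2 (by
      calc _ = g⁻¹ * (z * (g * u * g⁻¹)) * g := by group
        _ = _ := by rw [c]; group))
    have z2 : ι z * ι z = 1 := by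
      rw [← map_mul, show z * z = g * (g⁻¹ * z * g * (g⁻¹ * z * g)) * g⁻¹ by group, this]; simp
    exact absurd (ord2_iff.2 ⟨z2, k1⟩ ▸ o) (by decide)
  have fx' : ∀ k ∈ X, k ≠ 1 → ∀ s ∈ S, s ≠ 1 → k ∈ C1[s] → ∀ y ∈ S ⊓ C1[k], y = 1 ∨ y = s :=
      fun k hk k1 s hs s1 ks y hy => by
    obtain ⟨x, hx, rfl⟩ := tr s hs s1
    have := (GW.mem_zp2 h.t2).1 (fx (x⁻¹ * k * x) (conj_mem' (normG X hx) hk) (by simpa [conj_eq_one_iff] using fun e => k1 (by
      rw [show k = x * (x⁻¹ * k * x) * x⁻¹ by group, e]; simp)) (mem_C1.2 (by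
        calc _ = x⁻¹ * (k * (x * t * x⁻¹)) * x := by group
          _ = _ := by rw [mem_C1.1 ks]; group)) (x := x⁻¹ * y * x) ⟨conj_mem' (sd.norm hx) hy.1, mem_C1.2 (by
        calc _ = x⁻¹ * (y * k) * x := by group
          _ = _ := by rw [mem_C1.1 hy.2]; group)⟩)
    exact this.imp (fun e => by rw [show y = x * (x⁻¹ * y * x) * x⁻¹ by group, e]; simp) fun e => by
      rw [← e]; group
  have uS : ι u ∈ S := ⟨h.memC u, mem_C1_self _⟩
  have u1 := ne_one_of_ord2 ((h.ord u).trans hu)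
  have X0 : X ≠ ⊥ := fun e => by
    obtain ⟨x, hx, k⟩ := tr _ uS u1
    rw [e, mem_bot] at hx
    exact h.nm u (by simpa [hx] using k.symm)
  obtain ⟨A, AX, mA⟩ := exists_minN X0 (normG X)
  obtain ⟨p, -, ⟨aA, -⟩⟩ := mA.abelem ((SE.sol_of_odd oX).of_le AX)
  have hA : ∀ a ∈ A, a ∈ C1[t] → a = 1 := fun a ha c => by_contra fun a1 => by
    have l : A ≤ C1[t] := fun b hb => by
      rcases fx' a (AX ha) a1 t tS (ne_one_of_ord2 h.ot) c (b * t * b⁻¹) ⟨conj_mem (sd.norm (AX hb)) tS,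
        conj_mem (normC1 (le_C1_iff.2 (aA ha)) hb) (C1_symm c)⟩ with e | e
      · exact absurd (conj_eq_one_iff.1 e) (ne_one_of_ord2 h.ot)
      · exact mem_C1.2 (mul_inv_eq_iff_eq_mul.1 e)
    obtain ⟨x, hx, e⟩ := tr _ uS u1
    have := mem_C1.1 (l (conj_mem' (mA.norm hx) ha))
    rcases fx' a (AX ha) a1 t tS (ne_one_of_ord2 h.ot) c (ι u) ⟨uS, mem_C1.2 (by
      rw [← e]
      calc _ = x * (t * (x⁻¹ * a * x)) * x⁻¹ := by group
        _ = _ := by rw [← this]; group)⟩ with e | e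
    exacts [u1 e, h.nm u e]
  set H := X ⊓ C1[t]
  have SA : S ⊓ C[A] = ⊥ := eq_bot_iff.2 fun s hs => by_contra fun s1 => by
    obtain ⟨x, hx, rfl⟩ := tr s hs.1 s1
    obtain ⟨a, ha, a1⟩ := exists_mem_ne_one mA.ne
    have := mem_C.1 hs.2 _ (conj_mem (mA.norm hx) ha)
    exact a1 (hA a ha (mem_C1.2 (by
      calc _ = x⁻¹ * (x * a * x⁻¹ * (x * t * x⁻¹)) * x := by group
        _ = _ := by rw [this]; group)))
  have w := wielandt_aux _ (K := A) (R := H) (M := S) rfl (fun k hk k1 => eq_bot_iff.2 fun a ha => hA a ha.1 (by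
      rcases fx' k hk.1 k1 t tS (ne_one_of_ord2 h.ot) hk.2 (a * t * a⁻¹) ⟨conj_mem (sd.norm (AX ha.1)) tS,
        conj_mem (normC1 le_rfl ha.2) (C1_symm hk.2)⟩ with e | e
      · exact absurd (conj_eq_one_iff.1 e) (ne_one_of_ord2 h.ot)
      · exact mem_C1.2 (mul_inv_eq_iff_eq_mul.1 e)))
    (inf_le_left.trans mA.norm) (AX.trans sd.norm) (inf_le_left.trans sd.norm)
    (PiN.coprime' ((sd.hall_compl sN).pi.of_le (sup_le AX inf_le_left)) hS.pi) aS.sol
  rw [SA, eq_bot_iff.2 ((inf_le_inf_left S (centS le_sup_left)).trans SA.le), card_bot', one_pow, one_mul,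
    mul_one, cS] at w
  have c2 : 2 ≤ #(S ⊓ C[H]) := one_lt_card (ne_bot_of_mem ⟨tS, le_C1_iff.1 inf_le_right⟩ (ne_one_of_ord2 h.ot))
  have cH : #C1[u] - 1 ≤ #H := by
    have c := SE.card_conj H (ι u)
    refine le_trans ?_ ((Nat.le_mul_of_pos_left _ (card_pos _)).trans c.ge)
    have : Finite L := Finite.of_injective _ h.inj
    rw [show #C1[u] = (C1[u] : Set L).ncard from rfl, ← Set.ncard_diff_singleton_of_mem (one_mem C1[u]), ← Set.ncard_image_of_injective _ h.inj]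
    refine Set.ncard_le_ncard ?_
    rintro _ ⟨v, ⟨v1, v2⟩, rfl⟩
    obtain ⟨g, rfl⟩ := isConj_iff.1 (hc v (ord2_iff.2 ⟨h2 v v1, v2⟩))
    obtain ⟨n, hn, e⟩ := abel_fusion Nat.prime_two (hS.sub inf_le_left le_top) aS uS (h.memC g)
      ⟨h.memC (g * u * g⁻¹) |> (by simpa using ·), mem_C1.2 (by simpa using congrArg ι (mem_C1.1 v1))⟩
    obtain ⟨a, ha, x, hx, rfl, k⟩ := dec n hn.2
    exact ⟨x, ⟨hx, (Subgroup.mul_mem_cancel_left _ ha.1).1 hn.1⟩, by rw [k _ uS, e]; simp⟩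
  have b : 2 ^ (#C1[u] - 1) ≤ 2 * #C1[u] :=
    w ▸ (Nat.pow_le_pow_right two_pos cH).trans (Nat.pow_le_pow_left c2 _)
  have ev : 2 ∣ #C1[u] := hu ▸ Subgroup.orderOf_dvd_natCard _ (mem_C1_self u)
  by_contra n
  obtain ⟨k, hk⟩ : ∃ k, #C1[u] = k + 5 := ⟨#C1[u] - 5, by omega⟩
  have : ∀ k, 2 * (k + 5) < 2 ^ (k + 4) := fun k => by
    induction k with
    | zero => norm_num
    | succ k ih => rw [add_right_comm k 1 4, pow_succ]; omega
  exact absurd (this k) (by rw [hk] at b; simpa using b)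

include hab hu hc in
theorem three_case [IsSimpleGroup G] (h4 : #C1[u] = 4) (h12 : Nat.card L = 12) : False := by
  have : Finite L := Finite.of_injective _ h.inj
  have hS := h.S_syl hab hu h2
  have cS := h.card_C u
  have sq := @h.S_sq _ _ _ _ _ _ _ _ h2
  set S := C1[t] ⊓ C1[ι u] with eS
  have aS := hab S hS
  have tS : t ∈ S := ⟨mem_C1_self t, C1_symm (h.memC u)⟩
  have c := SE.card_conj ⊤ u
  rw [top_inf_eq, h4, card_top, h12] at c
  have all : ∀ v : L, orderOf v = 2 → v ∈ C1[u] := fun v hv => by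
    have : (C1[u] : Set L) \ {1} = {x | ∃ d ∈ (⊤ : Subgroup L), d * u * d⁻¹ = x} :=
      Set.eq_of_subset_of_ncard_le (fun x hx => (isConj_iff.1 (hc x (ord2_iff.2 ⟨h2 x hx.1, hx.2⟩))).imp
        fun _ e => ⟨trivial, e⟩) (by
        rw [Set.ncard_diff_singleton_of_mem (one_mem C1[u]), show (C1[u] : Set L).ncard = 4 from h4]; omega)
    exact (this.ge ((isConj_iff.1 (hc v hv)).imp fun _ e => ⟨trivial, e⟩)).1
  have CN : C1[t] ≤ N[S] := le_N_iff.2 fun g hg s hs => by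
    by_cases s1 : s = 1
    · simp [s1]
    have m := conj_mem (normG _ hg) hs.1
    rcases h.invol m ((orderOf_conj' g s).trans (ord2_iff.2 ⟨sq hs, s1⟩)) with e | ⟨v, hv, e⟩
    · rwa [e]
    rw [eS, h.C_eq, h.mem_map]
    exact ⟨v, all v hv, e⟩
  have inS : ∀ z ∈ N[S], orderOf z = 2 → z ∈ S := fun z hz o =>
    (hS.sub (normG S) le_top).mem_of_normal le_rfl (GW.pie2 o) hz
  have tr : ∀ z ∈ N[S], orderOf z = 2 → ∃ n ∈ N[S], n * t * n⁻¹ = z := fun z hz o => by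
    obtain ⟨g, rfl⟩ := isConj_iff.1 (h.cls hab hu hc o)
    obtain ⟨n, hn, e⟩ := abel_fusion Nat.prime_two hS aS tS (mem_top g) (inS _ hz o)
    exact ⟨n, hn.2, e⟩
  have cG := card_mul_relIndex (le_top : S ≤ ⊤)
  have n16 : ¬ 16 ∣ Nat.card G := fun d => hS.not_dvd Nat.prime_two (by
    rw [card_top, cS, h4] at cG; omega)
  obtain ⟨ρ, -, o3⟩ := cauchy (A := (⊤ : Subgroup L)) Nat.prime_three (by rw [card_top, h12]; norm_num)
  have se : IsStronglyEmbedded N[S] := se_iff.2 ⟨fun e => ?_, even_iff_two_dvd.2 (h.ot ▸ orderOf_dvd (normG S tS)),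
    fun z hz o g hg => ?_⟩
  · rcases SE.s0222 se with ⟨F, _, _, _, _, ⟨e⟩⟩ | ⟨-, m, h1, e⟩ | ⟨F, _, _, q, h1, h2, h3, ⟨e⟩⟩
    · obtain ⟨v, a1, a2, -, a3⟩ := even_facts (CharP.cast_eq_zero F 2 |> (by exact_mod_cast ·)) e
      obtain ⟨g, e⟩ := isConj_iff.1 (a2 t h.ot).symm
      have := a3 (g * ι ρ * g⁻¹) (mem_C1.2 (by
        rw [← e]
        calc _ = g * (ι ρ * t) * g⁻¹ := by group
          _ = _ := by rw [h.comm]; group))
      have := orderOf_dvd_of_pow_eq_one (pow_two (g * ι ρ * g⁻¹) ▸ this)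
      rw [orderOf_conj', h.ord, o3] at this
      omega
    · refine n16 (e ▸ Dvd.dvd.mul_right (Dvd.dvd.mul_right ?_ _) _)
      rw [← pow_mul]; exact pow_dvd_pow 2 (n := (2 * m + 1) * 2) (m := 4) (by omega)
    · obtain ⟨σ, hσ⟩ := Class.exists_UF h1
      have k := Class.card_PSU hσ (n := 3) (by omega)
      rw [← Nat.card_congr e.toEquiv, ← mul_assoc] at k
      obtain ⟨p, hp, n, hpp, hn⟩ := FiniteField.card' F
      have d : 4 ∣ q := by
        have : q ∣ p ^ (n : ℕ) := by rw [← hn, h1]; exact dvd_pow_self q two_ne_zero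
        obtain ⟨j, -, rfl⟩ := (Nat.dvd_prime_pow hpp).1 this
        obtain rfl : p = 2 := (Nat.Prime.even_iff hpp).1 (Nat.even_pow.1 h2).1
        rcases j with _ | _ | j
        · omega
        · omega
        · exact ⟨2 ^ j, by ring⟩
      refine n16 (Nat.Coprime.dvd_of_dvd_mul_left ?_ (Dvd.dvd.trans ?_ k.symm.dvd))
      · refine Nat.Coprime.pow_left 4 (m := 2) (Nat.coprime_two_left.2 (Odd.mul
          (Odd.of_dvd_nat (by decide) (Nat.gcd_dvd_left 3 _)) h2.add_one))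
      · obtain ⟨j, rfl⟩ := d
        exact Dvd.dvd.mul_right ⟨4 * j ^ 3, by norm_num; ring⟩ _
  · rcases IsSimpleGroup.eq_bot_or_eq_top_of_normal S (normal_iff.2 e.ge) with e | e
    · exact ne_one_of_ord2 h.ot (mem_bot.1 (e ▸ tS))
    · have := orderOf_dvd_of_pow_eq_one (pow_two (ι ρ) ▸ sq (e.ge (mem_top _)))
      rw [h.ord, o3] at this
      omega
  · obtain ⟨n, hn, rfl⟩ := tr z hz o
    obtain ⟨m, hm, e⟩ := tr _ hg ((orderOf_conj' g _).trans o)
    have : m⁻¹ * g * n ∈ N[S] := CN (mem_C1.2 (by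
      calc _ = m⁻¹ * (g * (n * t * n⁻¹) * g⁻¹) * g * n := by group
        _ = _ := by rw [← e]; group))
    exact (mul_mem_cancel_left (inv_mem hm)).1 ((mul_mem_cancel_right hn).1 this)

end CT
end Cfsg.Agent.JT.Rd
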