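import Cfsg.Agent.JT.Loc
import Cfsg.Agent.JT.RedE
import Cfsg.Agent.JT.Ifc
import Cfsg.Agent.S0448
import Cfsg.Agent.S0252
import Cfsg.Agent.S0253
import Cfsg.Agent.S0276

/-! Reduction of the Janko–Thompson–Ward theorem to the local configuration `Loc`. -/

set_option autoImplicit false
set_option linter.unusedVariables false
set_option linter.unusedSectionVars false

namespace Cfsg.Agent.JT.Rd

open Cfsg Cfsg.Agent.BG Cfsg.Agent.Inv Cfsg.Agent.Dih Subgroup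
open GW (VV mem_VV C_VV l_mem_VV r_mem_VV VV_le odd_iff pie2 pig2 mem_zp2)

variable {G L : Type*} [Group G] [Group L] [Finite G] [Fintype L]

theorem CT.cj {t : G} {ι : L →* G} (h : CT t ι) (c : G) :
    CT (c * t * c⁻¹) ((MulAut.conj c).toMonoidHom.comp ι) := by
  refine ⟨(orderOf_conj' c t).trans h.ot, (MulAut.conj c).injective.comp h.inj,
    fun x e => h.nm x ((MulAut.conj c).injective e), fun g => ?_⟩
  rw [← cj_C1, mem_cj, h.mem]
  refine exists_congr fun x => or_congr ?_ ?_ <;> simp only [MonoidHom.comp_apply, MulEquiv.coe_toMonoidHom,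
    MulAut.conj_apply] <;> constructor <;> intro e
  · rw [← e]; group
  · rw [e]; group
  · rw [show c * t * c⁻¹ * (c * ι x * c⁻¹) = c * (t * ι x) * c⁻¹ by group, ← e]; group
  · rw [e]; group

theorem bsw_mul {u x w : L} {K : Subgroup L} (b : BSW u K) (hx : x ∈ C1[u]) (hw : w ∈ C1[u]) (h1 : x ∉ K)
    (h2 : w ∉ K) : x * w ∈ K :=
  (mul_mem_iff_of_index_two (H := K.subgroupOf C1[u]) b.idx (a := ⟨x, hx⟩) (b := ⟨w, hw⟩)).2 (iff_of_false h1 h2)

theorem bsw_two {u x : L} {K : Subgroup L} (b : BSW u K) (hx : x ∈ K) (h : x * x = 1) : x = 1 ∨ x = u :=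
  or_iff_not_imp_left.2 fun n => b.eq_t hx (ord2_iff.2 ⟨h, n⟩)

theorem exists_rot {u : L} {K : Subgroup L} (b : BSW u K) (sq : ∀ x : L, Odd (orderOf (x * x))) :
    ∃ w σ : L, orderOf w = 2 ∧ w ≠ u ∧ w * u = u * w ∧ orderOf σ = 3 ∧ σ * u * σ⁻¹ = w ∧ σ * w * σ⁻¹ = u * w := by
  obtain ⟨w, hw, wK⟩ := SetLike.not_le_iff_exists.1 fun e : C1[u] ≤ K => by
    have := b.idx; rw [relIndex_eq_one.2 e] at this; omega
  have ow := b.ord_out hw wK
  have u2 := sq_of_ord2 b.ord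
  have w2 := sq_of_ord2 ow
  have c := mem_C1.1 hw
  have wu : w ≠ u := fun e => wK (e ▸ b.mem)
  have mU : ∀ {x}, x ∈ VV u w ↔ _ := mem_VV u2 w2 c
  have CU : ∀ x ∈ C[VV u w], x ∈ VV u w := fun x hx => by
    rw [C_VV] at hx
    have k : ∀ x ∈ K, x ∈ C1[w] → x = 1 ∨ x = u := fun x h1 h2 => bsw_two b h1 (by
      have := b.inv_of_out hw wK h1
      rw [← mem_C1.1 h2, mul_inv_cancel_right] at this
      exact mul_eq_one_iff_eq_inv.2 this)
    by_cases xK : x ∈ K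
    · rcases k x xK hx.2 with rfl | rfl
      exacts [one_mem _, l_mem_VV _ _]
    · rw [← mul_mem_cancel_right (r_mem_VV u w)]
      rcases k _ (bsw_mul b hx.1 hw xK wK) (mul_mem hx.2 (mem_C1_self w)) with e | e <;> rw [e]
      exacts [one_mem _, l_mem_VV _ _]
  have s2 : ∀ x : L, PiE {2} x → x * x = 1 := fun x hx => (hx.mul hx rfl).eq_one (odd_iff.2 (sq x))
  have ab : ∀ P : Subgroup L, PiG {2} P → Abel P := fun P hP => le_C_iff.2 fun x hx y hy => by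
    have := s2 _ (hP.elt (mul_mem hx hy))
    rw [← inv_eq_of_mul_eq_one_left this, mul_inv_rev, inv_eq_of_mul_eq_one_left (s2 _ (hP.elt hx)),
      inv_eq_of_mul_eq_one_left (s2 _ (hP.elt hy))]
  have pU : PiG {2} (VV u w) := (pig2 b.ord).sup_l (pig2 ow) (zpowers_le.2 (norm_zpowers le_rfl hw))
  have hU : Syl 2 (VV u w) ⊤ := syl_of_max Nat.prime_two le_top pU fun Q h1 _ h3 =>
    le_antisymm (fun x hx => CU x (centS h3 (ab Q h1 hx))) h3
  obtain ⟨g, e⟩ := isConj_iff.1 (b.cls w ow)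
  obtain ⟨n, ⟨-, hn⟩, e'⟩ := abel_fusion Nat.prime_two hU (ab _ pU) (l_mem_VV u w) (mem_top g) (e ▸ r_mem_VV u w)
  rw [e] at e'
  obtain ⟨a, ha, σ, hσ, rfl, pa, pσ⟩ := exists_pi_part {2} n
  have σN := zpowers_le.2 hn hσ
  have aU := (hU.sub (normG _) le_top).mem_of_normal le_rfl pa (zpowers_le.2 hn ha)
  have oσ := odd_iff.1 pσ
  have r1 : σ * u * σ⁻¹ = w := by
    rw [← e', show a * σ * u * (a * σ)⁻¹ = a * (σ * u * σ⁻¹) * a⁻¹ by group,
      mem_C_comm (ab _ pU) aU (conj_mem σN (l_mem_VV u w)), mul_inv_cancel_right]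
  have nc : σ ∉ C1[u] := fun k => wu (by rw [← r1, mem_C1.1 k, mul_inv_cancel_right])
  have r2 : σ * w * σ⁻¹ = u * w := by
    rcases mU.1 (conj_mem σN (r_mem_VV u w)) with k | k | k | k
    · exact absurd (conj_eq_one_iff.1 k) (ne_one_of_ord2 ow)
    · exact absurd (mem_of_sq oσ (mem_C1.2 (by
        calc _ = σ * (σ * u * σ⁻¹) * σ⁻¹ * (σ * σ) := by group
          _ = _ := by rw [r1, k]))) nc
    · exact absurd ((MulAut.conj σ).injective (k.trans r1.symm)) wu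
    · exact k
  have r3 : σ * (u * w) * σ⁻¹ = u := by
    rw [show σ * (u * w) * σ⁻¹ = σ * u * σ⁻¹ * (σ * w * σ⁻¹) by group, r1, r2, ← mul_assoc, c, mul_assoc, w2, mul_one]
  refine ⟨w, σ, ow, wu, c, orderOf_eq_prime ((pU.elt (CU _ (C_VV u w ▸ ⟨mem_C1.2 ?_, mem_C1.2 ?_⟩))).eq_one (pσ.pow 3))
    fun e => nc (e ▸ one_mem _), r1, r2⟩
  · calc _ = σ * (σ * (σ * u * σ⁻¹) * σ⁻¹) * σ⁻¹ * σ ^ 3 := by simp [pow_succ, mul_assoc]
      _ = _ := by rw [r1, r2, r3]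
  · calc _ = σ * (σ * (σ * w * σ⁻¹) * σ⁻¹) * σ⁻¹ * σ ^ 3 := by simp [pow_succ, mul_assoc]
      _ = _ := by rw [r2, r3, r1]

variable {q τ : ℕ} {ε : ℤ} {T : L → Subgroup L}

theorem exists_cf {s : G} {ι : L →* G} (h : CT s ι) (lf : LF L q τ ε T) (cls : ∀ y, orderOf y = 2 → IsConj s y)
    {u₀ w σ u : L} (o₀ : orderOf u₀ = 2) (c₀ : w * u₀ = u₀ * w) (n₀ : w ≠ u₀) (oσ : orderOf σ = 3)
    (r1 : σ * u₀ * σ⁻¹ = w) (r2 : σ * w * σ⁻¹ = u₀ * w) {j : L →* G} (h' : CT (ι u₀) j) (ou : orderOf u = 2)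
    (e : ι w = j u) : Cf (ι u₀) (j u) s (ι σ) (O[{2}ᶜ](T u).map j) := by
  set t := ι u₀
  have b := lf.bsw u ou
  have sq := h.odd_sq cls
  have cls' : ∀ y, orderOf y = 2 → IsConj t y := fun y hy => (cls t h'.ot).symm.trans (cls y hy)
  have hall := (lf.cyc u ou).nil.hall_O {2}ᶜ
  have oO := odd_iff.1 (O_pig {2}ᶜ (T u))
  have st : s ∈ C1[t] := C1_symm (h.memC u₀)
  have sa : s ∈ C1[j u] := e ▸ C1_symm (h.memC w)
  have TW : ∀ x ∈ T u, j x ∈ VV t (j u) ⊔ O[{2}ᶜ](T u).map j := fun x hx => by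
    obtain ⟨a, ha, c, hc, rfl, pa, pc⟩ := exists_pi_part {2} x
    rw [map_mul]
    refine mul_mem (mem_sup_left ?_) (mem_sup_right ⟨c, (lf.cyc u ou).nil.mem_O (zpowers_le.2 hx hc) pc, rfl⟩)
    rcases bsw_two b (zpowers_le.2 hx ha) ((pa.mul pa rfl).eq_one (odd_iff.2 (h.ord _ ▸ map_mul ι a a ▸ sq (ι a))))
      with rfl | rfl
    exacts [map_one j ▸ one_mem _, r_mem_VV _ _]
  have tW : t ∈ VV t (j u) ⊔ O[{2}ᶜ](T u).map j := mem_sup_left (l_mem_VV _ _)
  obtain ⟨s', sC, es⟩ := h'.mem_map.1 ((h'.C_eq u).le (mem_inf.2 ⟨st, sa⟩))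
  have sT : s' ∉ T u := fun k => by
    have : s' * s' = 1 := h'.inj (by
      rcases es with es | es
      · rw [map_mul, ← es, h.t2, map_one]
      · rw [← h'.sq, ← es, h.t2, map_one])
    rcases bsw_two b k this with rfl | rfl <;> rcases es with es | es
    · exact ne_one_of_ord2 h.ot (by simpa using es)
    · exact h.nm u₀ (by simpa using es.symm)
    · exact h.nm w (e.trans es.symm)
    · exact h.nm (u₀ * w) (by rw [map_mul, e, es])
  have dτ : #(O[{2}ᶜ](T u).map j) ∣ τ := by rw [card_map_inj h'.inj, ← lf.cT u ou]; exact cardS (O_le _ _)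
  refine ⟨h'.ot, (h'.ord u).trans ou, h.ot, h'.comm u, h'.nm u, (C_VV _ _).ge ⟨st, sa⟩, (h.ord σ).trans oσ, h.comm σ,
    by rw [← e, ← r1]; simp [t], by simpa [← e] using congrArg ι r2, cls', sq, by rwa [card_map_inj h'.inj],
    ((lf.cyc u ou).of_le (O_le _ _)).map j, ?_, ?_, fun g hg => ?_, ?_, fun v x hv hx n c => ?_,
    fun d v hv P hP p3 => ?_, fun d => ⟨#C1[σ], by rw [inf_comm, h.card_C], ?_⟩⟩
  · rintro _ ⟨y, hy, rfl⟩
    exact (C_VV _ _).ge ⟨h'.memC y, mem_C1.2 (by rw [← map_mul, ← map_mul, mem_C1.1 (b.le (O_le _ _ hy))])⟩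
  · rintro _ ⟨y, hy, rfl⟩
    have := congrArg j (b.inv_of_out sC sT (O_le _ _ hy))
    rw [map_inv, map_mul, map_mul, map_inv] at this
    rcases es with rfl | rfl
    · exact this
    · rw [show t * j s' * j y * (t * j s')⁻¹ = t * (j s' * j y * (j s')⁻¹) * t⁻¹ by group, this, ← map_inv, ← h'.comm,
        mul_inv_cancel_right]
  · obtain ⟨x, hx, k⟩ := h'.mem_map.1 (h'.C_eq u ▸ C_VV t (j u) ▸ hg)
    by_cases xT : x ∈ T u
    · exact .inl (k.elim (fun k => k ▸ TW x xT) fun k => k ▸ mul_mem tW (TW x xT))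
    have m := TW _ (bsw_mul b hx sC xT sT)
    rw [map_mul] at m
    right
    rcases k with rfl | rfl <;> rcases es with rfl | rfl
    · exact m
    · rw [← mul_assoc, h'.comm, mul_assoc]; exact mul_mem tW m
    · rw [mul_assoc]; exact mul_mem tW m
    · rwa [mul_assoc, ← mul_assoc (j x), h'.comm, mul_assoc, mul_mul_of_ord2 h'.ot]
  · rintro _ ⟨y, hy, rfl⟩ y1 g hg
    obtain ⟨x, hx, k⟩ := h'.mem_map.1 (h'.C_eq y ▸ hg)
    have y1' : y ≠ 1 := fun e => y1 (by rw [e, map_one])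
    have yT := O_le _ _ hy
    have e1 : x * y * x⁻¹ = y := by rw [mem_C1.1 hx, mul_inv_cancel_right]
    have xT : x ∈ T u := by_contra fun n => y1' (eq_one_of_odd (odd_orderOf_of_mem oO hy) (mul_eq_one_iff_eq_inv.2
      (e1.symm.trans (b.inv_of_out (by_contra fun k => y1' (b.ti x k y yT (e1.symm ▸ yT))) n yT))))
    exact k.elim (fun k => k ▸ TW x xT) fun k => k ▸ mul_mem tW (TW x xT)
  · obtain ⟨c', k⟩ := isConj_iff.1 (cls' v hv).symm
    obtain ⟨u', ou', k'⟩ := (h'.invol (y := c' * x * c'⁻¹) (by rw [← k, ← cj_C1]; exact mem_cj_conj.2 (mem_C1'.2 c))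
      ((orderOf_conj' c' x).trans hx)).resolve_left fun e => n ((MulAut.conj c').injective (k.trans e.symm))
    obtain ⟨g, rfl⟩ := isConj_iff.1 (b.cls u' ou').symm
    refine ⟨j g * c', ?_⟩
    have : VV t (c' * x * c'⁻¹) = VV t (j u') := by
      rcases k' with k' | k' <;> rw [k']
      exact le_antisymm (VV_le.2 ⟨l_mem_VV _ _, mul_mem (l_mem_VV _ _) (r_mem_VV _ _)⟩)
        (VV_le.2 ⟨l_mem_VV _ _, (mul_mem_cancel_left (l_mem_VV t _)).1 (r_mem_VV _ _)⟩)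
    rw [cj_mul, GW.cj_VV, k, this, GW.cj_VV, h'.comm, mul_inv_cancel_right]; simp
  · obtain ⟨c', k⟩ := isConj_iff.1 (cls' v hv).symm
    obtain ⟨Q, hQ⟩ := syl_exists Nat.prime_three ((T u).map j)
    have l : (T u).map j ≤ C1[t] := map_le_iff_le_comap.2 fun x _ => h'.memC x
    have i := card_mul_relIndex l
    rw [card_map_inj h'.inj, lf.cT u ou, h'.card] at i
    have t0 : (τ : ℤ) ≠ 0 := by exact_mod_cast lf.cT u ou ▸ card_ne (T u)
    have i' : (((T u).map j).relIndex C1[t] : ℤ) = 4 * (2 * τ + ε) * (τ + ε) := mul_left_cancel₀ t0 (by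
      have := congrArg (Nat.cast : ℕ → ℤ) i
      push_cast at this
      rw [this, lf.card, lf.qeq]; ring)
    obtain ⟨m, hm⟩ := d.trans dτ
    obtain ⟨g, -, a⟩ := Syl.sub_cj (hQ.trans' l ((pin_compl Nat.prime_three).2 fun d => by
      have := Int.natCast_dvd_natCast.2 d
      rw [i', hm] at this
      have p := Int.prime_three
      push_cast at this
      rcases p.dvd_or_dvd this with a | a
      · rcases p.dvd_or_dvd a with a | a <;> rcases lf.eps with rfl | rfl <;> omega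
      · rcases lf.eps with rfl | rfl <;> omega)) Nat.prime_three (U := cj c' P) (by rw [← k, ← cj_C1]; exact cj_mono _ hP)
      (p3.cj c')
    exact cyc_cj.1 ((cyc_cj.2 (((lf.cyc u ou).map j).of_le hQ.le)).of_le a)
  · refine (Int.natCast_dvd_natCast.2 dτ).trans ?_
    rcases lf.cent σ (oσ ▸ by decide) (fun e => by simp [e] at oσ) with k | k | k
    · obtain ⟨y, hy, oy⟩ := cauchy Nat.prime_three (A := T u)
        (by rw [lf.cT u ou, ← k, ← oσ]; exact orderOf_dvd (mem_C1_self σ))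
      exact absurd (by
        rw [card_map_inj h'.inj, ← oy]
        exact orderOf_dvd ((lf.cyc u ou).nil.mem_O hy (odd_iff.2 (oy ▸ by decide)))) d
    · exact ⟨τ + 2 * ε, by rw [k]; rcases lf.eps with rfl | rfl <;> ring⟩
    · exact ⟨4 * (τ + ε), by rw [k, lf.qeq]; rcases lf.eps with rfl | rfl <;> ring⟩

theorem exists_loc {s : G} {ι : L →* G} (h : CT s ι) (lf : LF L q τ ε T) (cls : ∀ y, orderOf y = 2 → IsConj s y)
    (h2 : τ ≠ 2) (h4 : ¬ 4 ∣ τ) (kl : ∃ P : Sylow 2 L, IsKleinFour (P : Subgroup L)) :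
    ∃ (t : G) (j : L →* G) (u : L) (K : Subgroup L) (ρ : G), Loc t j u K ρ := by
  obtain ⟨u₀, o₀⟩ := lf.ex
  obtain ⟨w, σ, ow, n, c, oσ, r1, r2⟩ := exists_rot (lf.bsw u₀ o₀) fun x => h.ord _ ▸ map_mul ι x x ▸ h.odd_sq cls (ι x)
  obtain ⟨g, e⟩ := isConj_iff.1 (cls _ ((h.ord u₀).trans o₀))
  have h' := e ▸ h.cj g
  generalize (MulAut.conj g).toMonoidHom.comp ι = j at h'
  have fin : ∀ {σ u}, orderOf u = 2 → Cf (ι u₀) (j u) s σ (O[{2}ᶜ](T u).map j) →
      ∃ (t : G) (j : L →* G) (u : L) (K : Subgroup L) (ρ : G), Loc t j u K ρ := fun {σ u} ou f =>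
    ⟨_, j, u, T u, σ, ⟨h'.ot, h'.inj, h'.comm, fun g hg => (h'.mem g).1 (mem_C1.2 hg), h'.nm, f.cls⟩, lf.bsw u ou,
      lf.cT u ou ▸ h4, lf.cT u ou ▸ h2, kl, f.r1, f.r2, fun y hy o y1 g c => mem_C1.1 (f.main
        ⟨y, (lf.cyc u ou).nil.mem_O hy ((pin_compl Nat.prime_two).2 o), rfl⟩
        (fun e => y1 (h'.inj (e.trans (map_one j).symm))) (mem_C1.2 c))⟩
  obtain ⟨u, ou, k | k⟩ := (h'.invol (y := ι w) (mem_C1.2 (by rw [← map_mul, c, map_mul]))
    ((h.ord w).trans ow)).resolve_left fun e => n (h.inj e)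
  · exact fin ou (exists_cf h lf cls o₀ c n oσ r1 r2 h' ou k)
  have w2 := sq_of_ord2 ow
  have r3 : σ * (u₀ * w) * σ⁻¹ = u₀ := by
    rw [show σ * (u₀ * w) * σ⁻¹ = σ * u₀ * σ⁻¹ * (σ * w * σ⁻¹) by group, r1, r2, ← mul_assoc, c, mul_assoc, w2, mul_one]
  refine fin ou (exists_cf (w := u₀ * w) (σ := σ⁻¹) h lf cls o₀ (by rw [mul_assoc, c])
    (by simpa using ne_one_of_ord2 ow) (by simpa) (by nth_rw 1 [← r3]; group) ?_ h' ou
    (by rw [map_mul, k, mul_mul_of_ord2 h'.ot]))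
  rw [mul_mul_of_ord2 o₀]; nth_rw 1 [← r2]; group

end Cfsg.Agent.JT.Rd

namespace Cfsg.Agent.JT
open Cfsg Cfsg.Agent.BG Cfsg.Agent.Inv Cfsg.Agent.Dih Subgroup Rd

theorem reduce {G : Type*} [Group G] [Finite G] [IsSimpleGroup G] (hab : ∀ P : Sylow 2 G, ∀ a b : P, a * b = b * a)
    {F : Type*} [Field F] [Fintype F] (hq : 3 ≤ Fintype.card F) (t : G) (ht : orderOf t = 2)
    (hC : Nonempty (Subgroup.centralizer ({t} : Set G) ≃*
      Multiplicative (ZMod 2) × Matrix.ProjectiveSpecialLinearGroup (Fin 2) F)) :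
    ((Fintype.card F = 4 ∨ Fintype.card F = 5) ∧ Cfsg.IsJ1 G) ∨ (¬ 2 ∣ Fintype.card F ∧
      ∃ (t' : G) (j : Matrix.ProjectiveSpecialLinearGroup (Fin 2) F →* G)
        (u : Matrix.ProjectiveSpecialLinearGroup (Fin 2) F)
        (K : Subgroup (Matrix.ProjectiveSpecialLinearGroup (Fin 2) F)) (ρ : G), Loc t' j u K ρ) := by
  obtain ⟨e⟩ := hC
  obtain ⟨ι, h⟩ := exists_CT ht Class.center_PSL2 e
  have hab' : ∀ S : Subgroup G, Syl 2 S ⊤ → Abel S := fun S hS => by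
    obtain ⟨P, rfl⟩ := hS.exists_sylow_top Nat.prime_two
    exact le_C_iff.2 fun a ha b hb => congrArg Subtype.val (hab P ⟨a, ha⟩ ⟨b, hb⟩)
  have J : Nonempty (Matrix.ProjectiveSpecialLinearGroup (Fin 2) F ≃* alternatingGroup (Fin 5)) → IsJ1 G :=
    fun ⟨f⟩ => S0448.result t ⟨ht, by
      obtain ⟨S, hS, l⟩ := syl_superset (M := ⊤) Nat.prime_two le_top (GW.pig2 ht)
      have a := hab' S hS
      obtain ⟨P, rfl⟩ := hS.exists_sylow_top Nat.prime_two
      exact ⟨P, l (mem_zpowers t), fun x hx => mem_C_comm a hx (l (mem_zpowers t))⟩⟩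
      (e.trans (MulEquiv.prodCongr (.refl _) f))
  by_cases h2 : (2 : F) = 0
  · obtain ⟨u, hu, hc, c, sq⟩ := even_facts h2 (MulEquiv.refl (Matrix.ProjectiveSpecialLinearGroup (Fin 2) F))
    rw [Nat.card_eq_fintype_card (α := F)] at c
    have := c ▸ h.even_case hab' hu hc sq (c ▸ hq)
    exact .inl ⟨.inl this, J (S0252.result this)⟩
  have ho : ¬ 2 ∣ Fintype.card F := fun d => h2 (by
    obtain ⟨p, hp, n, pp, hn⟩ := FiniteField.card' F
    obtain rfl := (Nat.prime_dvd_prime_iff_eq Nat.prime_two pp).1 (Nat.prime_two.dvd_of_dvd_pow (hn ▸ d))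
    exact_mod_cast CharP.cast_eq_zero F 2)
  have := Fintype.ofFinite (Matrix.ProjectiveSpecialLinearGroup (Fin 2) F)
  obtain ⟨τ, ε, T, lf⟩ := exists_LF (F := F) (by rw [Nat.card_eq_fintype_card, Nat.odd_iff]; omega) (.refl _)
  rw [Nat.card_eq_fintype_card (α := F)] at lf
  obtain ⟨u, hu⟩ := lf.ex
  have b := lf.bsw u hu
  have cls := fun y => h.cls (y := y) hab' hu b.cls
  have h4 : ¬ 4 ∣ τ := fun d => by
    obtain ⟨x, k⟩ := cyc_iff.1 (lf.cyc u hu)
    have o := h.ord _ ▸ map_mul ι x x ▸ h.odd_sq cls (ι x)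
    rw [← lf.cT u hu, ← k, card_zpowers'] at d
    obtain ⟨m, hm⟩ := o
    have := orderOf_dvd_of_pow_eq_one (x := x) (n := 2 * orderOf (x * x)) (by rw [pow_mul, pow_two, pow_orderOf_eq_one])
    have := d.trans this
    omega
  have q := lf.qeq
  obtain ⟨k, hk⟩ := lf.ev
  by_cases t2 : τ = 2
  · rcases lf.eps with rfl | rfl
    · have : Fintype.card F = 5 := by omega
      exact .inl ⟨.inr this, J (S0253.result this)⟩
    have c := lf.card
    refine (h.three_case hab' hu b.cls (fun x hx => ?_) (by rw [b.card_C, lf.cT u hu, t2])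
      (by rw [q, t2] at c; omega)).elim
    by_cases n : x ∈ T u
    · simpa [lf.cT u hu, t2, pow_two] using congrArg Subtype.val (pow_card_eq_one' (x := (⟨x, n⟩ : T u)))
    · exact b.out x hx n
  obtain ⟨P⟩ : Nonempty (Sylow 2 (Matrix.ProjectiveSpecialLinearGroup (Fin 2) F)) := inferInstance
  exact .inr ⟨ho, exists_loc h lf cls t2 h4 ⟨P, S0276.result rfl (by rcases lf.eps with rfl | rfl <;> omega) P⟩⟩

end Cfsg.Agent.JT
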