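import Mathlib

/-! Number theory for the Janko–Thompson–Ward theorem. -/

set_option autoImplicit false

namespace Cfsg.Agent.JT

theorem not_sq_between {n x a : ℤ} (h0 : 0 ≤ a) (h1 : a ^ 2 < n) (h2 : n < (a + 1) ^ 2) :
    x ^ 2 ≠ n := by
  rintro rfl
  have e1 : a < |x| := by
    by_contra h
    push Not at h
    nlinarith [abs_nonneg x, sq_abs x]
  have e2 : |x| < a + 1 := by
    by_contra h
    push Not at h
    nlinarith [abs_nonneg x, sq_abs x]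
  omega

theorem ineq1 {H P k : ℤ} (H13 : 13 ≤ H) (P3 : 3 ≤ P) (k1 : 1 ≤ k) (h2 : 3 * P ≤ 2 * H + 1)
    (key2 : H ^ 2 * 4 * (k * (2 * (H - 1) * P - 1)) ≤ ((P + 1) * (2 + P)) ^ 2) : False := by
  have h3 : (P + 1) * (2 + P) ≤ H * H := by
    have : (3 * P + 3) * (3 * P + 6) ≤ (2 * H + 4) * (2 * H + 7) :=
      mul_le_mul (by omega) (by omega) (by omega) (by omega)
    nlinarith
  have h4 : ((P + 1) * (2 + P)) ^ 2 ≤ (P + 1) * (2 + P) * (H * H) := by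
    rw [sq]; gcongr
  have h5 : (P + 1) * (2 + P) < 4 * (2 * (H - 1) * P - 1) := by nlinarith
  have h0 : 0 ≤ 2 * (H - 1) * P - 1 := by nlinarith
  have h6 : 2 * (H - 1) * P - 1 ≤ k * (2 * (H - 1) * P - 1) := le_mul_of_one_le_left h0 k1
  have h7 : 0 < H * H := by positivity
  have h8 : (P + 1) * (2 + P) * (H * H) < 4 * (k * (2 * (H - 1) * P - 1)) * (H * H) :=
    mul_lt_mul_of_pos_right (by omega) h7
  linarith

theorem ineq2 {H P k : ℤ} (H13 : 13 ≤ H) (h2 : 2 ≤ k) (PH : P ≤ 2 * H + 1) (PH' : 2 * H - 1 ≤ P)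
    (key2 : H ^ 2 * 4 * (k * (2 * (H - 1) * P - 1)) ≤ ((P + 1) * (2 + P)) ^ 2) : False := by
  have P0 : 0 ≤ P := by omega
  have h3 : (P + 1) * (2 + P) ≤ (2 * H + 2) * (2 * H + 3) :=
    mul_le_mul (by omega) (by omega) (by omega) (by omega)
  have h4 : ((P + 1) * (2 + P)) ^ 2 ≤ ((2 * H + 2) * (2 * H + 3)) ^ 2 := by gcongr
  have h0 : 0 ≤ 2 * (H - 1) * (2 * H - 1) - 1 := by nlinarith
  have h5 : 2 * (2 * (H - 1) * (2 * H - 1) - 1) ≤ k * (2 * (H - 1) * P - 1) :=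
    mul_le_mul h2 (by nlinarith) h0 (by omega)
  have h6 : H ^ 2 * 4 * (2 * (2 * (H - 1) * (2 * H - 1) - 1)) ≤
      ((2 * H + 2) * (2 * H + 3)) ^ 2 := by
    refine le_trans ?_ (key2.trans h4)
    gcongr
  clear key2 h3 h4 h5
  obtain ⟨s, rfl⟩ : ∃ s, H = s + 13 := ⟨H - 13, by ring⟩
  have s0 : 0 ≤ s := by omega
  nlinarith [pow_nonneg s0 2, pow_nonneg s0 3, pow_nonneg s0 4]

theorem ineq3 {H P X : ℤ} (H13 : 13 ≤ H) (P3 : 3 ≤ P) (PH : P ≤ 2 * H + 1) (X6 : 6 ≤ X)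
    (X4 : X ≤ 4 * (H + 1))
    (h2 : H ^ 2 * (X * (4 * (H - 1)) * P - X ^ 2) ≤ ((P + 1) * (X + P)) ^ 2) : False := by
  have P0 : 0 < P := by omega
  have a1 : (P + 1) ^ 2 * (P + 6) ^ 2 + 36 * H ^ 2 < 24 * H ^ 2 * (H - 1) * P := by
    have b1 : (P + 6) ^ 2 ≤ P * (2 * H + 25) := by nlinarith
    have b2 : (P + 1) ^ 2 ≤ (2 * H + 2) ^ 2 := pow_le_pow_left₀ (by omega) (by omega) 2
    have b3 : (P + 1) ^ 2 * (P + 6) ^ 2 ≤ (2 * H + 2) ^ 2 * (P * (2 * H + 25)) := by gcongr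
    have b4 : 36 * H ^ 2 ≤ 12 * H ^ 2 * P := by nlinarith [sq_nonneg H]
    have b5 : (2 * H + 2) ^ 2 * (2 * H + 25) + 12 * H ^ 2 < 24 * H ^ 2 * (H - 1) := by
      obtain ⟨s, rfl⟩ : ∃ s, H = s + 13 := ⟨H - 13, by ring⟩
      have s0 : 0 ≤ s := by omega
      nlinarith [pow_nonneg s0 2, pow_nonneg s0 3]
    have b6 := mul_lt_mul_of_pos_right b5 P0
    linarith
  have a2 : (P + 1) ^ 2 * (4 * (H + 1) + P) ^ 2 + H ^ 2 * (4 * (H + 1)) ^ 2 <
      H ^ 2 * (4 * (H + 1)) * (4 * (H - 1)) * P := by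
    have b1 : (P + 1) ^ 2 ≤ P * (2 * H + 4) := by nlinarith
    have b2 : (4 * (H + 1) + P) ^ 2 ≤ (6 * H + 5) ^ 2 := pow_le_pow_left₀ (by omega) (by omega) 2
    have b3 : (P + 1) ^ 2 * (4 * (H + 1) + P) ^ 2 ≤ P * (2 * H + 4) * (6 * H + 5) ^ 2 := by gcongr
    have b0 : 0 ≤ H ^ 2 * (H + 1) ^ 2 := by positivity
    have b4 : 16 * (H ^ 2 * (H + 1) ^ 2) ≤ 6 * (H ^ 2 * (H + 1) ^ 2) * P := by nlinarith
    have b5 : (2 * H + 4) * (6 * H + 5) ^ 2 + 6 * (H ^ 2 * (H + 1) ^ 2) <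
        16 * H ^ 2 * (H + 1) * (H - 1) := by
      obtain ⟨s, rfl⟩ : ∃ s, H = s + 13 := ⟨H - 13, by ring⟩
      have s0 : 0 ≤ s := by omega
      nlinarith [pow_nonneg s0 2, pow_nonneg s0 3, pow_nonneg s0 4]
    have b6 := mul_lt_mul_of_pos_right b5 P0
    linarith
  have c1 : 0 ≤ (4 * (H + 1) - 6) * (((P + 1) ^ 2 + H ^ 2) * ((X - 6) * (4 * (H + 1) - X))) := by
    have : 0 ≤ X - 6 := by omega
    have : 0 ≤ 4 * (H + 1) - X := by omega
    have : 0 ≤ 4 * (H + 1) - 6 := by omega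
    positivity
  have c2 := mul_le_mul_of_nonneg_left h2 (by omega : 0 ≤ 4 * (H + 1) - 6)
  have c3 := mul_le_mul_of_nonneg_left a1.le (by omega : 0 ≤ 4 * (H + 1) - X)
  have c4 := mul_le_mul_of_nonneg_left a2.le (by omega : 0 ≤ X - 6)
  rcases X6.eq_or_lt with rfl | h
  · nlinarith
  · have c5 := mul_lt_mul_of_pos_left a2 (by omega : 0 < X - 6)
    linarith

/-- the last size estimate of the exotic eight-character pattern -/
theorem ex8_size {h P x x' κ a τ : ℤ} (hh : 15 ≤ h ∨ h ≤ -13) (P3 : 3 ≤ P)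
    (hP : P = |2 * h - 1| ∨ 3 * P ≤ |2 * h - 1|) (hx : x % 4 = 2) (e1 : x * x' = 4 * (h + 1))
    (e2 : τ ^ 2 = κ * (x' * P - 1)) (e3 : κ * a = x + P) (a0 : a ≠ 0) (k0 : κ ≠ 0)
    (e4 : h * τ * x = κ + P * (x + P)) : False := by
  obtain ⟨H, hH⟩ : ∃ H, H = |h| := ⟨_, rfl⟩
  obtain ⟨X, hX⟩ : ∃ X, X = |x| := ⟨_, rfl⟩
  obtain ⟨Y, hY⟩ : ∃ Y, Y = |x'| := ⟨_, rfl⟩
  obtain ⟨k, hk⟩ : ∃ k, k = |κ| := ⟨_, rfl⟩
  have H13 : 13 ≤ H := by rw [hH]; rcases hh with h1 | h1 <;> [rw [abs_of_pos]; rw [abs_of_neg]] <;> omega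
  have XY : 4 * (H - 1) ≤ X * Y := by
    rw [hX, hY, ← abs_mul, e1, abs_mul]
    have : H - 1 ≤ |h + 1| := by rw [hH]; rcases hh with h1 | h1 <;> simp only [abs] <;> omega
    norm_num; omega
  have XY' : X * Y ≤ 4 * (H + 1) := by
    rw [hX, hY, ← abs_mul, e1, abs_mul]
    have : |h + 1| ≤ H + 1 := by rw [hH]; rcases hh with h1 | h1 <;> simp only [abs] <;> omega
    norm_num; omega
  have PH : P ≤ 2 * H + 1 := by
    have : |2 * h - 1| ≤ 2 * H + 1 := by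
      rw [hH]; rcases hh with h1 | h1 <;> simp only [abs] <;> omega
    omega
  have k1 : 1 ≤ k := by rw [hk]; exact Int.one_le_abs k0
  have X2 : X = 2 ∨ 6 ≤ X := by rw [hX]; simp only [abs]; omega
  have Y1 : 1 ≤ Y := by
    rw [hY]; refine Int.one_le_abs ?_
    rintro rfl
    omega
  have kX : k ≤ X + P := by
    have h1 : k ≤ |x + P| := by
      rw [← e3, abs_mul, ← hk]
      nlinarith [Int.one_le_abs a0]
    have : |x + P| ≤ X + P := by rw [hX]; simp only [abs]; omega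
    omega
  have hz : Y * P - 1 ≤ |x' * P - 1| := by
    have h1 : |x' * P| = Y * P := by rw [abs_mul, ← hY, abs_of_pos (by omega : 0 < P)]
    rw [← h1]; simp only [abs]; omega
  have ht : τ ^ 2 = k * |x' * P - 1| := by
    rw [hk, ← abs_mul, ← e2, abs_of_nonneg (sq_nonneg τ)]
  have hb : |h * τ * x| ≤ (P + 1) * (X + P) := by
    rw [e4]
    have h1 : |P * (x + P)| ≤ P * (X + P) := by
      rw [abs_mul, abs_of_pos (by omega : 0 < P)]
      have : |x + P| ≤ X + P := by rw [hX]; simp only [abs]; omega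
      nlinarith
    have := abs_add_le κ (P * (x + P))
    rw [← hk] at this
    nlinarith
  have hb2 : H ^ 2 * X ^ 2 * τ ^ 2 ≤ ((P + 1) * (X + P)) ^ 2 := by
    have e : H ^ 2 * X ^ 2 * τ ^ 2 = |h * τ * x| ^ 2 := by
      rw [hH, hX, sq_abs, sq_abs, sq_abs]; ring
    rw [e]
    exact pow_le_pow_left₀ (abs_nonneg _) hb 2
  have key : H ^ 2 * X ^ 2 * (k * (Y * P - 1)) ≤ ((P + 1) * (X + P)) ^ 2 := by
    refine le_trans ?_ hb2
    rw [ht]
    gcongr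
  have YP : 2 ≤ Y * P - 1 := by nlinarith
  rcases X2 with X2 | X2
  · subst X2
    have Y2 : 2 * (H - 1) ≤ Y := by omega
    have key2 : H ^ 2 * 4 * (k * (2 * (H - 1) * P - 1)) ≤ ((P + 1) * (2 + P)) ^ 2 := by
      refine le_trans ?_ key
      have : (2 : ℤ) ^ 2 = 4 := by norm_num
      rw [this]
      gcongr
    have hP' : P = |2 * h - 1| := by
      rcases hP with h1 | h1
      · exact h1
      exfalso
      have h2 : 3 * P ≤ 2 * H + 1 := by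
        have : |2 * h - 1| ≤ 2 * H + 1 := by
          rw [hH]; rcases hh with h1 | h1 <;> simp only [abs] <;> omega
        omega
      exact ineq1 H13 P3 k1 h2 key2
    have PH' : 2 * H - 1 ≤ P := by
      rw [hP', hH]; rcases hh with h1 | h1 <;> simp only [abs] <;> omega
    have k2 : k = 1 := by
      by_contra hne
      exact ineq2 H13 (by omega) PH PH' key2
    rw [k2, one_mul] at ht
    clear key key2 hb hb2 hz e2 e3 e4 YP XY XY' Y2
    have hx2 : x = 2 ∨ x = -2 := by revert hX; simp only [abs]; omega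
    rcases hh with h1 | h1
    · have hp : P = 2 * h - 1 := by rw [hP', abs_of_pos (by omega)]
      rcases hx2 with rfl | rfl
      · obtain rfl : x' = P + 3 := by omega
        rw [abs_of_pos (by nlinarith)] at ht
        exact not_sq_between (a := P + 1) (by omega) (by nlinarith) (by nlinarith) ht
      · obtain rfl : x' = -(P + 3) := by omega
        rw [abs_of_neg (by nlinarith)] at ht
        exact not_sq_between (a := P + 1) (by omega) (by nlinarith) (by nlinarith) ht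
    · have hp : P = 1 - 2 * h := by rw [hP', abs_of_neg (by omega)]; ring
      have P27 : 27 ≤ P := by omega
      rcases hx2 with rfl | rfl
      · obtain rfl : x' = 3 - P := by omega
        rw [abs_of_neg (by nlinarith)] at ht
        exact not_sq_between (a := P - 2) (by omega) (by nlinarith) (by nlinarith) ht
      · obtain rfl : x' = P - 3 := by omega
        rw [abs_of_pos (by nlinarith)] at ht
        exact not_sq_between (a := P - 2) (by omega) (by nlinarith) (by nlinarith) ht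
  · have h1 : H ^ 2 * (X * (X * Y) * P - X ^ 2) ≤ ((P + 1) * (X + P)) ^ 2 := by
      refine le_trans ?_ key
      have : Y * P - 1 ≤ k * (Y * P - 1) := by nlinarith
      calc _ = H ^ 2 * X ^ 2 * (Y * P - 1) := by ring
        _ ≤ _ := by gcongr
    have h2 : H ^ 2 * (X * (4 * (H - 1)) * P - X ^ 2) ≤ ((P + 1) * (X + P)) ^ 2 := by
      refine le_trans ?_ h1
      gcongr
    have X4 : X ≤ X * Y := by nlinarith
    exact ineq3 H13 P3 PH X2 (X4.trans XY') h2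


/-- the exotic eight-character pattern does not occur -/
theorem ex8 {p n : ℕ} (hp : p.Prime) (p2 : p ≠ 2) {h γ a e wa we W : ℤ} (hh : 15 ≤ h ∨ h ≤ -13)
    (hQ : |2 * h - 1| = (p : ℤ) ^ n) (g0 : 0 < γ) (ea : a * wa = γ * (2 * h - 1) ^ 2)
    (ee : e * we = γ * (2 * h - 1) ^ 2 * h) (lin : 1 + a + e = γ * h)
    (F2 : γ * (2 * h - 1) ^ 2 + wa - h * (2 * h - 1) ^ 2 + h * we =
      (2 * h - 1) ^ 2 * (4 * h * (h + 1)))
    (F1 : γ * (2 * h - 1) ^ 2 + wa - (2 * h - 1) * W = (2 * h - 1) * (4 * h ^ 2 * (2 * h - 2)))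
    (a4 : a % 4 = 1) (e2 : e % 2 = 1) : False := by
  obtain ⟨Q, hQd⟩ : ∃ Q, Q = 2 * h - 1 := ⟨_, rfl⟩
  rw [← hQd] at hQ ea ee F2 F1
  have Q0 : Q ≠ 0 := by omega
  have h0 : h ≠ 0 := by omega
  have p3 : 3 ≤ p := by have := hp.two_le; omega
  have pZ : Prime (p : ℤ) := Nat.prime_iff_prime_int.mp hp
  obtain ⟨σ, hσ, hQσ⟩ : ∃ σ : ℤ, σ * σ = 1 ∧ Q = σ * (p : ℤ) ^ n := by
    rcases abs_cases Q with ⟨h1, -⟩ | ⟨h1, -⟩
    · exact ⟨1, by ring, by rw [← hQ, h1]; ring⟩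
    · exact ⟨-1, by ring, by rw [← hQ, h1]; ring⟩
  have cQh : IsCoprime Q h := ⟨-1, 2, by rw [hQd]; ring⟩
  obtain ⟨w1, rfl⟩ : Q ∣ wa := ⟨4 * h ^ 2 * (2 * h - 2) + W - γ * Q, by linear_combination F1⟩
  obtain ⟨w2, rfl⟩ : Q ∣ we := cQh.dvd_of_dvd_mul_left
    ⟨Q * (4 * h * (h + 1)) + h * Q - γ * Q - w1, by linear_combination F2⟩
  have f1 : a * w1 = γ * Q := mul_left_cancel₀ Q0 (by linear_combination ea)
  have f2 : e * w2 = γ * Q * h := mul_left_cancel₀ Q0 (by linear_combination ee)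
  have f3 : w1 + h * w2 = Q * (h * (4 * h + 5) - γ) :=
    mul_left_cancel₀ Q0 (by linear_combination F2)
  have w0 : w1 ≠ 0 := by
    rintro rfl
    exact mul_ne_zero g0.ne' Q0 (by linear_combination -f1)
  obtain ⟨i, w1', hw, rfl⟩ : ∃ (i : ℕ) (w : ℤ), ¬ (p : ℤ) ∣ w ∧ w1 = (p : ℤ) ^ i * w := by
    obtain ⟨w, e, hw⟩ := (FiniteMultiplicity.of_prime_left pZ w0).exists_eq_pow_mul_and_not_dvd
    exact ⟨_, w, hw, e⟩
  by_cases hi : n ≤ i
  · obtain ⟨j, rfl⟩ := Nat.exists_eq_add_of_le hi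
    obtain ⟨u1, hu1⟩ : Q ∣ (p : ℤ) ^ (n + j) * w1' :=
      ⟨σ * p ^ j * w1', by rw [hQσ, pow_add]; linear_combination -(p : ℤ) ^ n * p ^ j * w1' * hσ⟩
    rw [hu1] at f1 f3
    obtain ⟨u2, rfl⟩ : Q ∣ w2 := cQh.dvd_of_dvd_mul_left
      ⟨h * (4 * h + 5) - γ - u1, by linear_combination f3⟩
    have g1 : a * u1 = γ := mul_left_cancel₀ Q0 (by linear_combination f1)
    have g2 : e * u2 = γ * h := mul_left_cancel₀ Q0 (by linear_combination f2)
    have b1 : |a| ≤ γ := Int.le_of_dvd g0 ((abs_dvd _ _).mpr ⟨u1, g1.symm⟩)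
    have b1' := abs_le.mp b1
    have u0 : u2 ≠ 0 := by
      rintro rfl
      exact mul_ne_zero g0.ne' h0 (by linear_combination -g2)
    rcases (by omega : u2 = 1 ∨ u2 = -1 ∨ 2 ≤ u2 ∨ u2 ≤ -2) with rfl | rfl | hu | hu
    · omega
    · rcases hh with h1 | h1 <;> nlinarith
    all_goals
      clear ea ee F1 F2 f1 f2 f3 hu1 hQ hQσ cQh g1
      have t1 : 13 * γ ≤ γ * h ∨ γ * h ≤ -13 * γ := by
        rcases hh with h1 | h1
        · left; nlinarith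
        · right; nlinarith
      generalize γ * h = m at t1 g2 lin
      rcases t1 with h1 | h1 <;> nlinarith
  · obtain ⟨j, rfl⟩ := Nat.exists_eq_add_of_lt (not_le.mp hi)
    obtain ⟨P, hP⟩ : ∃ P : ℤ, P = (p : ℤ) ^ (j + 1) := ⟨_, rfl⟩
    have pi0 : (p : ℤ) ^ i ≠ 0 := pow_ne_zero _ pZ.ne_zero
    have hQP : Q = σ * P * p ^ i := by rw [hQσ, hP]; ring
    have pP : (p : ℤ) ∣ P := hP ▸ dvd_pow_self _ j.succ_ne_zero
    have P3 : 3 ≤ P := by
      rw [hP]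
      have : (p : ℤ) ^ 1 ≤ (p : ℤ) ^ (j + 1) :=
        pow_le_pow_right₀ (by exact_mod_cast hp.one_le) (by omega)
      rw [pow_one] at this
      omega
    have cih : IsCoprime ((p : ℤ) ^ i) h := cQh.of_isCoprime_of_dvd_left ⟨σ * P, by rw [hQP]; ring⟩
    obtain ⟨w2', rfl⟩ : (p : ℤ) ^ i ∣ w2 := cih.dvd_of_dvd_mul_left
      ⟨σ * P * (h * (4 * h + 5) - γ) - w1', by rw [hQP] at f3; linear_combination f3⟩
    have g1 : a * w1' = γ * σ * P :=
      mul_left_cancel₀ pi0 (by rw [hQP] at f1; linear_combination f1)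
    have g2 : e * w2' = γ * σ * P * h :=
      mul_left_cancel₀ pi0 (by rw [hQP] at f2; linear_combination f2)
    have g3 : w1' + h * w2' = σ * P * (h * (4 * h + 5) - γ) :=
      mul_left_cancel₀ pi0 (by rw [hQP] at f3; linear_combination f3)
    have hw2 : ¬ (p : ℤ) ∣ w2' := fun hd => hw (by
      have : w1' = σ * P * (h * (4 * h + 5) - γ) - h * w2' := by linear_combination g3
      rw [this]
      exact dvd_sub (Dvd.dvd.mul_right (Dvd.dvd.mul_left pP _) _) (hd.mul_left _))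
    have c1 : IsCoprime P w1' := hP ▸ ((pZ.coprime_iff_not_dvd).mpr hw).pow_left
    have c2 : IsCoprime P w2' := hP ▸ ((pZ.coprime_iff_not_dvd).mpr hw2).pow_left
    obtain ⟨a', rfl⟩ : P ∣ a := c1.dvd_of_dvd_mul_right ⟨γ * σ, by linear_combination g1⟩
    obtain ⟨e', rfl⟩ : P ∣ e := c2.dvd_of_dvd_mul_right ⟨γ * σ * h, by linear_combination g2⟩
    have P0 : P ≠ 0 := by omega
    have k1 : a' * (σ * w1') = γ := mul_left_cancel₀ P0 (by linear_combination σ * g1 + γ * P * hσ)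
    have k2 : e' * (σ * w2') = γ * h :=
      mul_left_cancel₀ P0 (by linear_combination σ * g2 + γ * P * h * hσ)
    obtain ⟨τ, hτ⟩ : ∃ τ, τ = σ * w1' := ⟨_, rfl⟩
    rw [← hτ] at k1
    subst k1
    have a0 : a' ≠ 0 := by rintro rfl; simp at g0
    have e0 : e' ≠ 0 := by rintro rfl; simp at e2
    have c3 : IsCoprime a' e' := ⟨τ * h - P, -P, by linear_combination -lin⟩
    obtain ⟨κ, hκ⟩ : a' ∣ σ * w2' := c3.dvd_of_dvd_mul_left ⟨τ * h, by linear_combination k2⟩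
    have k3 : e' * κ = τ * h := mul_left_cancel₀ a0 (by rw [hκ] at k2; linear_combination k2)
    have k4 : τ + h * (a' * κ) = P * (h * (4 * h + 5) - a' * τ) := by
      rw [← hκ, hτ]; rw [hτ] at g3
      linear_combination σ * g3 + P * (h * (4 * h + 5) - a' * (σ * w1')) * hσ
    obtain ⟨x, hx⟩ : ∃ x, x = κ * a' - P := ⟨_, rfl⟩
    have k5 : P * a' + 1 = e' * x := by rw [hx]; linear_combination lin - a' * k3
    have k0 : κ ≠ 0 := by
      rintro rfl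
      have : τ = 0 := (mul_eq_zero.mp (by linear_combination -k3 : τ * h = 0)).resolve_right h0
      simp [this] at g0
    have k6 : x * τ ^ 2 = κ * (4 * (h + 1) * P - x) := mul_left_cancel₀ h0 (by
      rw [hx] at k5 ⊢
      linear_combination κ * k4 - κ * τ * k5 - τ * (κ * a' - P) * k3)
    have c4 : IsCoprime x P := ⟨e', -a', by linear_combination -k5⟩
    have c5 : IsCoprime x κ := ⟨e' + a', -a' * a', by rw [hx] at k5 ⊢; linear_combination -k5⟩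
    obtain ⟨x', hx'⟩ : x ∣ 4 * (h + 1) := c4.dvd_of_dvd_mul_right
      (c5.dvd_of_dvd_mul_left ⟨τ ^ 2 + κ, by linear_combination -k6⟩)
    have x0 : x ≠ 0 := by rintro rfl; omega
    have x4 : x % 4 = 2 := by
      have o1 : e' % 2 = 1 := by
        rcases Int.emod_two_eq_zero_or_one e' with h1 | h1
        · rw [Int.mul_emod, h1] at e2; simp at e2
        · exact h1
      have o2 : (e' * x) % 4 = 2 := by omega
      rw [Int.mul_emod] at o2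
      rcases (by omega : e' % 4 = 1 ∨ e' % 4 = 3) with h1 | h1 <;> rw [h1] at o2 <;> omega
    refine ex8_size (a := a') (τ := τ) hh P3 ?_ x4 hx'.symm
      (mul_left_cancel₀ x0 (by rw [hx'] at k6; linear_combination k6)) (by rw [hx]; ring) a0 k0
      (by rw [hx] at k5 ⊢; linear_combination -κ * k5 - (κ * a' - P) * k3)
    rw [← hQd, hQ, hP]
    rcases i with _ | i
    · left; simp
    · right
      have : (3 : ℤ) ≤ (p : ℤ) ^ (i + 1) := by
        have : (p : ℤ) ^ 1 ≤ (p : ℤ) ^ (i + 1) :=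
          pow_le_pow_right₀ (by exact_mod_cast hp.one_le) (by omega)
        rw [pow_one] at this
        omega
      calc _ ≤ (p : ℤ) ^ (i + 1) * (p : ℤ) ^ (j + 1) := by gcongr
        _ = _ := by ring

/-- the seven-character pattern does not occur -/
theorem ex7 {h γ a d : ℤ} (hh : 15 ≤ h ∨ h ≤ -13) (a0 : a ≠ 0) (lin : 1 + a + d = γ * h)
    (F1 : γ * (2 * h - 1) * (a - h + 1) ^ 2 = 4 * h ^ 2 * (h - 1) * (a * (2 * a + 1)))
    (F2 : a * d * γ + (h - 1) ^ 2 * d * γ + 4 * h ^ 2 * a * γ = h * (4 * h + 5) * a * d) :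
    False := by
  have h0 : h ≠ 0 := by omega
  obtain rfl : d = γ * h - 1 - a := by omega
  obtain ⟨D, hD⟩ : ∃ D, D = (2 * h - 1) * (a - h + 1) ^ 2 := ⟨_, rfl⟩
  obtain ⟨N, hN⟩ : ∃ N, N = 4 * h ^ 2 * (h - 1) * (a * (2 * a + 1)) := ⟨_, rfl⟩
  have e1 : γ * D = N := by rw [hD, hN]; linear_combination F1
  have e2 : (a + (h - 1) ^ 2) * (h * N - (1 + a) * D) * N + 4 * h ^ 2 * a * N * D -
      h * (4 * h + 5) * a * (h * N - (1 + a) * D) * D = 0 := by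
    rw [← e1]; linear_combination D ^ 2 * F2
  have e3 : a * h * (a ^ 3 * ((28 * h ^ 2 - 24 * h + 5) * a ^ 2 +
      (-64 * h ^ 5 + 80 * h ^ 4 - 120 * h ^ 3 + 224 * h ^ 2 - 136 * h + 25) * a +
      (64 * h ^ 8 - 128 * h ^ 7 + 160 * h ^ 6 - 256 * h ^ 5 + 336 * h ^ 4 - 552 * h ^ 3 +
        630 * h ^ 2 - 304 * h + 50)) +
      ((96 * h ^ 6 - 288 * h ^ 5 + 592 * h ^ 4 - 940 * h ^ 3 + 826 * h ^ 2 - 336 * h + 50) * a ^ 2 +
      (-16 * h ^ 8 + 32 * h ^ 7 + 4 * h ^ 6 - 160 * h ^ 5 + 485 * h ^ 4 - 704 * h ^ 3 +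
        518 * h ^ 2 - 184 * h + 25) * a +
      (8 * h ^ 7 - 16 * h ^ 6 - 36 * h ^ 5 + 149 * h ^ 4 - 196 * h ^ 3 + 126 * h ^ 2 - 40 * h + 5))) =
      0 := by
    rw [hD, hN] at e2; linear_combination e2
  replace e3 := (mul_eq_zero.mp e3).resolve_left (mul_ne_zero a0 h0)
  clear e1 e2 F1 F2 hD hN lin
  obtain ⟨A5, h5⟩ : ∃ x, x = 28 * h ^ 2 - 24 * h + 5 := ⟨_, rfl⟩
  obtain ⟨A4, h4⟩ : ∃ x, x = -64 * h ^ 5 + 80 * h ^ 4 - 120 * h ^ 3 + 224 * h ^ 2 - 136 * h + 25 :=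
    ⟨_, rfl⟩
  obtain ⟨A3, h3⟩ : ∃ x, x = 64 * h ^ 8 - 128 * h ^ 7 + 160 * h ^ 6 - 256 * h ^ 5 + 336 * h ^ 4 -
    552 * h ^ 3 + 630 * h ^ 2 - 304 * h + 50 := ⟨_, rfl⟩
  obtain ⟨A2, h2⟩ : ∃ x, x = 96 * h ^ 6 - 288 * h ^ 5 + 592 * h ^ 4 - 940 * h ^ 3 + 826 * h ^ 2 -
    336 * h + 50 := ⟨_, rfl⟩
  obtain ⟨A1, h1⟩ : ∃ x, x = -16 * h ^ 8 + 32 * h ^ 7 + 4 * h ^ 6 - 160 * h ^ 5 + 485 * h ^ 4 -
    704 * h ^ 3 + 518 * h ^ 2 - 184 * h + 25 := ⟨_, rfl⟩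
  obtain ⟨A0, h0'⟩ : ∃ x, x = 8 * h ^ 7 - 16 * h ^ 6 - 36 * h ^ 5 + 149 * h ^ 4 - 196 * h ^ 3 +
    126 * h ^ 2 - 40 * h + 5 := ⟨_, rfl⟩
  rw [← h5, ← h4, ← h3, ← h2, ← h1, ← h0'] at e3
  have key : 0 < A5 ∧ A4 ^ 2 < 4 * A5 * (A3 - 21 * h ^ 8) ∧ 0 ≤ A2 ∧ A2 ≤ h ^ 8 ∧ A1 ≤ 0 ∧
      -(19 * h ^ 8) ≤ A1 ∧ A0 ≤ h ^ 8 ∧ -h ^ 8 ≤ A0 := by
    subst h5 h4 h3 h2 h1 h0'
    clear e3
    rcases hh with hh | hh
    · obtain ⟨s, rfl⟩ : ∃ s : ℕ, h = s + 15 := ⟨(h - 15).toNat, by omega⟩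
      refine ⟨?_, ?_, ?_, ?_, ?_, ?_, ?_, ?_⟩ <;> first | rw [← sub_nonneg] | rw [← sub_pos]
      all_goals ring_nf; positivity
    · obtain ⟨s, rfl⟩ : ∃ s : ℕ, h = -s - 13 := ⟨(-13 - h).toNat, by omega⟩
      refine ⟨?_, ?_, ?_, ?_, ?_, ?_, ?_, ?_⟩ <;> first | rw [← sub_nonneg] | rw [← sub_pos]
      all_goals ring_nf; positivity
  obtain ⟨k5, k4, k2, k2', k1, k1', k0, k0'⟩ := key
  obtain ⟨E, hE⟩ : ∃ E, E = h ^ 8 := ⟨_, rfl⟩
  rw [← hE] at k4 k2' k1' k0 k0'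
  clear h5 h4 h3 h2 h1 h0' hE
  have q1 : 21 * E < A5 * a ^ 2 + A4 * a + A3 := by
    by_contra hc
    push Not at hc
    nlinarith [sq_nonneg (2 * A5 * a + A4)]
  obtain ⟨S, hS⟩ : ∃ S, S = A5 * a ^ 2 + A4 * a + A3 := ⟨_, rfl⟩
  rw [← hS] at q1 e3
  have E0 : 0 ≤ E := k2.trans k2'
  rcases lt_or_gt_of_ne a0 with ha | ha
  · obtain ⟨b, rfl⟩ : ∃ b, a = -b := ⟨-a, by ring⟩
    have b1 : 1 ≤ b := by omega
    have b2 : b ≤ b ^ 2 := by nlinarith
    have b3 : b ^ 2 ≤ b ^ 3 := by nlinarith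
    have t1 : A2 * b ^ 2 ≤ E * b ^ 3 := by gcongr
    have t2 : -A1 * b ≤ 19 * E * b ^ 3 := mul_le_mul (by omega) (by omega) (by omega) (by omega)
    have t3 : E * 1 ≤ E * b ^ 3 := by gcongr; omega
    have t4 : 21 * E * b ^ 3 < S * b ^ 3 := by gcongr
    linarith
  · have b2 : a ≤ a ^ 2 := by nlinarith
    have b3 : a ^ 2 ≤ a ^ 3 := by nlinarith
    have t1 : 0 ≤ A2 * a ^ 2 := by positivity
    have t2 : -A1 * a ≤ 19 * E * a ^ 3 := mul_le_mul (by omega) (by omega) (by omega) (by omega)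
    have t3 : E * 1 ≤ E * a ^ 3 := by gcongr; omega
    have t4 : 21 * E * a ^ 3 < S * a ^ 3 := by gcongr
    have t5 : 0 ≤ E * a ^ 3 := by positivity
    linarith

/-- the main pattern -/
theorem main8 {Q γ c d e h : ℤ} (hQ : Q = 2 * h - 1) (hh : 15 ≤ h ∨ h ≤ -13) (g0 : γ ≠ 0)
    (l1 : 1 - γ + Q * γ + c = 0) (l2 : 1 - γ + d + e = 0)
    (F1 : (γ - 1 + Q) * c * Q + Q ^ 3 * γ = (Q + 1) ^ 2 * (Q - 1) * c)
    (F2 : (γ - 1) * d * e + h ^ 2 * (d + e) * γ = (Q + 1) * (Q + 3) * d * e) :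
    γ = Q ^ 2 + Q + 1 ∧ 3 * (d - e) ^ 2 = -Q * (2 * h * (Q - 1)) ^ 2 := by
  obtain rfl : c = γ - 1 - Q * γ := by linarith
  have h0 : h ≠ 0 := by omega
  have e1 : (γ - (Q ^ 2 + Q + 1)) * (Q * γ + 1) = 0 :=
    mul_left_cancel₀ (by omega : Q - 1 ≠ 0) (by linear_combination -F1)
  have e2 : γ = Q ^ 2 + Q + 1 := by
    rcases mul_eq_zero.mp e1 with e | e
    · linarith
    · have : Q ∣ 1 := ⟨-γ, by linear_combination e⟩
      have := Int.natAbs_dvd_natAbs.mpr this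
      simp at this
      omega
  refine ⟨e2, ?_⟩
  subst e2
  have e3 : d + e = Q * (Q + 1) := by linarith
  have e4 : 3 * (d * e) = h ^ 2 * Q * (Q ^ 2 + Q + 1) :=
    mul_left_cancel₀ (by omega : Q + 1 ≠ 0) (by rw [e3] at F2; linear_combination -F2)
  have e5 : d + e = Q * (2 * h) := by rw [e3, hQ]; ring
  linear_combination 3 * (d + e + Q * (2 * h)) * e5 - 4 * e4

end Cfsg.Agent.JT
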